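import Cfsg.Agent.Lib.Local.FS.RankThreeNormal.Combos

/-!
Frames with trivial Frattini subgroup: the last axis is one central line fixed by the automiser.
-/

set_option autoImplicit false

open scoped commutatorElement

namespace Cfsg.Agent.Local.FS.RankThreeNormal

variable {G : Type*} [Group G] {p : ℕ} [hp : Fact p.Prime]
variable {E : Subgroup G} {a b c s : G} {co : G → ZMod p × ZMod p × ZMod p}
  {y : G → G} {t : MulAut G} {g₀ : ZMod p}

namespace Frame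

variable (h : Frame p E ⊥ a b c s co)
include h

theorem eq_of_co {x x' : G} (hx : x ∈ E) (hx' : x' ∈ E) (e : co x = co x') : x = x' := by
  refine mul_inv_eq_one.1 ((Subgroup.mem_bot).1 ((h.zero _ (E.mul_mem hx (E.inv_mem hx'))).1 ?_))
  rw [h.add _ hx _ (E.inv_mem hx'), h.co_inv hx', e, add_neg_cancel]

theorem co_pw {x : G} (hx : x ∈ E) (r : ZMod p) : co (pw x r) = r • co x := by
  rw [pw, h.co_pow hx, ← Nat.cast_smul_eq_nsmul (ZMod p), ZMod.natCast_zmod_val]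

theorem eq_pw_a {x : G} (hx : x ∈ h.sub (axisA p)) : x = pw a (co x).1 := by
  refine h.eq_of_co hx.1 (E.pow_mem h.aE _) ?_
  rw [h.co_pw h.aE, h.co_a]
  refine Prod.ext (by simp) (Prod.ext ?_ ?_) <;> simp [hx.2.1, hx.2.2]

theorem eq_pw_c {x : G} (hx : x ∈ h.sub (axisC p)) : x = pw c (co x).2.2 := by
  refine h.eq_of_co hx.1 (E.pow_mem h.cE _) ?_
  rw [h.co_pw h.cE, h.co_c]
  refine Prod.ext ?_ (Prod.ext ?_ ?_) <;> simp [hx.2.1, hx.2.2]

theorem c_central (x : G) : ⁅x, c⁆ = 1 :=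
  (Subgroup.mem_bot).1 (h.comm_midZero x ⟨h.cE, by rw [h.co_c]; rfl⟩)

theorem pow_eq_one {x : G} (hx : x ∈ E) : x ^ p = 1 := (Subgroup.mem_bot).1 (h.pow x hx)

end Frame

namespace Moves

variable (h : Frame p E ⊥ a b c s co) (m : Moves E a b c co y t g₀)
include h m

theorem g_ne_one (hp5 : 5 ≤ p) : g₀ ≠ 1 := fun e =>
  (g_facts h m hp5).2.2.1 (by rw [e, one_mul])

theorem t_a_eq : t a = pw a g₀ := by
  refine h.eq_of_co (m.t_mem a h.aE) (E.pow_mem h.aE _) ?_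
  rw [h.co_pw h.aE, m.t_a, h.co_a]
  simp

theorem t_c_eq : t c = c := h.eq_of_co (m.t_mem c h.cE) h.cE (m.t_c.trans h.co_c.symm)

/-- The automiser fixes the last axis. -/
theorem axisC_invariant [Finite G] (hp5 : 5 ≤ p) (hsr : Cfsg.SectionalPRankLE p 3 G)
    {A : Subgroup (MulAut G)} (ht : t ∈ A) {n : ℕ} (hn : ¬ p ∣ n)
    (hA : ∀ α ∈ A, ∀ z ∈ Subgroup.center G, (α ^ n) z = z) :
    ∀ α ∈ A, ∀ x ∈ h.sub (axisC p), α x ∈ h.sub (axisC p) := by
  intro α hα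
  have hαc : α c ∈ h.sub (midZero p) :=
    (stable h m hp5 hsr α).2.le ⟨c, ⟨h.cE, by rw [h.co_c]; rfl⟩, rfl⟩
  suffices hi : (co (α c)).1 = 0 by
    intro x hx
    rw [h.eq_pw_c hx, map_pw]
    exact (h.sub (axisC p)).pow_mem ⟨hαc.1, hi, hαc.2⟩ _
  obtain ⟨i, hi⟩ : ∃ i, i = (co (α c)).1 := ⟨_, rfl⟩
  rw [← hi]
  -- the image of `a` stays in the first axis
  have hab : ⁅s, b⁆ = a := mul_inv_eq_one.1 ((Subgroup.mem_bot).1 h.sb)
  have hax : ∀ β : MulAut G, β a = pw a (co (β a)).1 := fun β => h.eq_pw_a (by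
    rw [show β a = ⁅β s, β b⁆ from
      (congrArg β hab.symm).trans (map_commutatorElement β.toMonoidHom s b)]
    exact h.comm_axisA _ _)
  have hap : a ^ p = 1 := h.pow_eq_one h.aE
  have hta : ∀ r : ZMod p, t (pw a r) = pw a (g₀ * r) := fun r => by
    rw [map_pw, t_a_eq h m, pw_mul hap]
  obtain ⟨κ, hκ⟩ : ∃ κ, κ = t * (α * t⁻¹ * α⁻¹) := ⟨_, rfl⟩
  have hκA : κ ∈ A := hκ ▸ A.mul_mem ht (A.mul_mem (A.mul_mem hα (A.inv_mem ht)) (A.inv_mem hα))
  have htinv : t⁻¹ c = c := by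
    conv_lhs => rw [← t_c_eq h m]
    exact MulAut.inv_apply_self G t c
  have hκc : κ (α c) = pw a ((g₀ - 1) * i) * α c := by
    rw [hκ, MulAut.mul_apply, MulAut.mul_apply, MulAut.mul_apply, MulAut.inv_apply_self, htinv]
    refine h.eq_of_co (m.t_mem _ hαc.1) (E.mul_mem (E.pow_mem h.aE _) hαc.1) ?_
    rw [h.add (pw a _) (E.pow_mem h.aE _) _ hαc.1, h.co_pw h.aE, co_t h m hαc.1, h.co_a,
      show (co (α c)).2.1 = 0 from hαc.2, ← hi]
    refine Prod.ext ?_ (Prod.ext ?_ ?_) <;> simp [← hi, show (co (α c)).2.1 = 0 from hαc.2]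
    ring
  have hκa : κ a = a := by
    obtain ⟨j, hj⟩ : ∃ j, α⁻¹ a = pw a j := ⟨_, hax α⁻¹⟩
    have hαa : pw (α a) j = a := by rw [← map_pw, ← hj, MulAut.apply_inv_self]
    have hti : t⁻¹ (pw a j) = pw a (g₀⁻¹ * j) := by
      conv_lhs => rw [show j = g₀ * (g₀⁻¹ * j) by rw [mul_inv_cancel_left₀ m.g_ne], ← hta]
      exact MulAut.inv_apply_self G t _
    rw [hκ, MulAut.mul_apply, MulAut.mul_apply, MulAut.mul_apply, hj, hti, map_pw,
      show g₀⁻¹ * j = j * g₀⁻¹ by ring, ← pw_mul (by rw [← map_pow, hap, map_one]), hαa, hta,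
      mul_inv_cancel₀ m.g_ne, pw_one_exp]
  have hiter : ∀ k : ℕ, (κ ^ k) (α c) = pw a ((k : ZMod p) * ((g₀ - 1) * i)) * α c := by
    intro k
    induction k with
    | zero => simp [pw_zero]
    | succ k ih =>
      rw [pow_succ', MulAut.mul_apply, ih, map_mul, map_pw, hκa, hκc, ← mul_assoc, ← pw_add hap,
        Nat.cast_succ, add_mul, one_mul]
  have hcen : α c ∈ Subgroup.center G := Subgroup.mem_center_iff.2 fun g =>
    commutatorElement_eq_one_iff_mul_comm.1 ((Subgroup.mem_bot).1 (h.comm_midZero g hαc))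
  have h1 := hiter n
  rw [hA κ hκA _ hcen, right_eq_mul] at h1
  have ha1 : a ≠ 1 := fun e => by
    have := h.co_a
    rw [e, h.co_one] at this
    exact zero_ne_one (congrArg Prod.fst this)
  by_contra hne
  refine ha1 (pw_eq_one hap ?_ h1)
  exact mul_ne_zero (fun e => hn ((ZMod.natCast_eq_zero_iff _ _).1 e))
    (mul_ne_zero (sub_ne_zero.2 (g_ne_one h m hp5)) hne)

/-- The last axis of a second frame is the same. -/
theorem axisC_le [Finite G] (hp5 : 5 ≤ p) {E₂ : Subgroup G} {a₂ b₂ c₂ s₂ : G}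
    {co₂ : G → ZMod p × ZMod p × ZMod p} {y₂ : G → G} {t₂ : MulAut G} {g₂ : ZMod p}
    (h₂ : Frame p E₂ ⊥ a₂ b₂ c₂ s₂ co₂) (m₂ : Moves E₂ a₂ b₂ c₂ co₂ y₂ t₂ g₂)
    (hinv : ∀ x ∈ h.sub (axisC p), t₂ x ∈ h.sub (axisC p)) : h.sub (axisC p) ≤ h₂.sub (axisC p) := by
  have hcE₂ : c ∈ E₂ := h₂.faithful fun e _ => by
    rw [← commutatorElement_inv, h.c_central e, inv_one]
    exact Subgroup.one_mem _
  have hmid : (co₂ c).2.1 = 0 := by
    have h1 := h₂.co_comm s₂ hcE₂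
    rw [h.c_central s₂, h₂.co_one, h₂.rot_s, one_mul] at h1
    exact (congrArg Prod.fst h1).symm
  have hcC : c ∈ h.sub (axisC p) := ⟨h.cE, by rw [h.co_c]; exact ⟨rfl, rfl⟩⟩
  obtain ⟨r, hr⟩ : ∃ r, t₂ c = pw c r := ⟨_, h.eq_pw_c (hinv c hcC)⟩
  have h1 := co_t h₂ m₂ hcE₂
  rw [hr, h₂.co_pw hcE₂] at h1
  have hi : (co₂ c).1 = 0 := by
    have e1 : r * (co₂ c).1 = g₂ * (co₂ c).1 := by simpa using congrArg Prod.fst h1
    have e3 : r * (co₂ c).2.2 = (co₂ c).2.2 := by simpa using congrArg (fun v => v.2.2) h1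
    by_contra hne
    have hr : r = g₂ := mul_right_cancel₀ hne e1
    have hk : (co₂ c).2.2 = 0 := by
      by_contra hk
      exact g_ne_one h₂ m₂ hp5 (hr ▸ mul_right_cancel₀ hk (e3.trans (one_mul _).symm))
    have hca : c = pw a₂ (co₂ c).1 := h₂.eq_pw_a ⟨hcE₂, hmid, hk⟩
    have hab : ⁅s₂, b₂⁆ = a₂ := mul_inv_eq_one.1 ((Subgroup.mem_bot).1 h₂.sb)
    have hmem : c ∈ h.sub (axisA p) := by
      have e : c = pw ⁅s₂, b₂⁆ (co₂ c).1 := hca.trans (by rw [hab])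
      exact (congrArg (· ∈ h.sub (axisA p)) e).mpr (Subgroup.pow_mem _ (h.comm_axisA _ _) _)
    have h3 : (co c).2.2 = 0 := hmem.2.2
    rw [h.co_c] at h3
    exact one_ne_zero h3
  intro x hx
  rw [h.eq_pw_c hx]
  exact (h₂.sub (axisC p)).pow_mem ⟨hcE₂, hi, hmid⟩ _

end Moves

end Cfsg.Agent.Local.FS.RankThreeNormal
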