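import Cfsg.Agent.Lib.Local.FS.RankThreeNormal.Main
import Cfsg.Agent.Lib.Local.FS.RankThreeNormal.EndGame
import Cfsg.Agent.Lib.Local.FS.Normal
import Cfsg.Agent.S5186

/-!
A saturated system with trivial core on a group of sectional rank three has a pearl when `p ≥ 5`.
-/

set_option autoImplicit false

open scoped commutatorElement

namespace Cfsg.Agent.Local.FS.RankThreeNormal

open Cfsg Cfsg.FusionSystem Cfsg.Agent.Fusion

universe u

section Fus

variable {Ω : Type u} [Group Ω] {S : Subgroup Ω} [Finite S] {F : FusionSystem S} {p : ℕ}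
  [hp : Fact p.Prime]

/-- The three shapes of the essential subgroups, read in `S`. -/
def Shape (p : ℕ) [Fact p.Prime] {S : Subgroup Ω} (F : FusionSystem S) (E : Subgroup Ω) : Prop :=
  ∃ U : Subgroup ↥S, Special p (E.subgroupOf S) U ∨ Irr p (E.subgroupOf S) U ∨
    Transvec p (autFun F E S) (F.autGroup S) (E.subgroupOf S) U

theorem exists_rank (hS : IsPGroup p S) (hsr : Cfsg.SectionalPRankLE p 3 ↥S) {E : Subgroup Ω} (hES : E ≤ S) :
    (frattini ↥E).index = p ^ 3 ∨ (frattini ↥E).index ≤ p ^ 2 := by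
  haveI := finite_of_le hES
  have hE : IsPGroup p E := hS.to_le hES
  have hsrE : Cfsg.SectionalPRankLE p 3 ↥E :=
    sectional_of_injective hsr (Subgroup.inclusion hES) (Subgroup.inclusion_injective hES)
  have h := card_le_rank hsrE (le_top : frattini ↥E ≤ ⊤)
    (fun x _ z hz => (inferInstance : (frattini ↥E).Normal).conj_mem z hz x)
    (fun x _ y _ => Solv.commutatorElement_mem_frattini hE x y) fun x _ => Solv.pow_mem_frattini hE x
  rw [Subgroup.card_top, ← (frattini ↥E).card_mul_index, mul_comm (p ^ 3)] at h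
  obtain ⟨k, hk⟩ := IsPGroup.iff_card.1 (hE.to_quotient (frattini ↥E))
  rw [← Subgroup.index_eq_card] at hk
  have h3 := Nat.le_of_mul_le_mul_left h Nat.card_pos
  rw [hk] at h3 ⊢
  have hk3 : k ≤ 3 := (Nat.pow_le_pow_iff_right hp.out.one_lt).1 h3
  rcases eq_or_lt_of_le hk3 with rfl | hlt
  · exact Or.inl rfl
  · exact Or.inr (Nat.pow_le_pow_right hp.out.pos (by omega))

/-- An essential subgroup is a pearl or has one of the three shapes in `S`. -/
theorem shape_cases (hS : IsPGroup p S) (hF : F.IsSaturated p) (hp5 : 5 ≤ p)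
    (hsr : Cfsg.SectionalPRankLE p 3 ↥S) {E : Subgroup Ω} (hE : F.IsEssential p E) :
    ((Cfsg.IsElementaryAbelian p E ∧ Nat.card E = p ^ 2) ∨
      (Cfsg.IsExtraspecial p ↥E ∧ Nat.card E = p ^ 3 ∧ ∀ x ∈ E, x ^ p = 1)) ∨ Shape p F E := by
  classical
  have hES : E < S := lt_of_essential hS hF hE
  have hPS : normalizerIn S E ≤ S := inf_le_left
  have hEP : E ≤ normalizerIn S E := le_normalizerIn hES.le
  haveI := finite_of_le hES.le
  haveI := finite_of_le hPS
  have hG : IsPGroup p ↥(normalizerIn S E) := hS.to_le hPS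
  have hsrP : Cfsg.SectionalPRankLE p 3 ↥(normalizerIn S E) :=
    sectional_of_injective hsr (Subgroup.inclusion hPS) (Subgroup.inclusion_injective hPS)
  rcases exists_rank hS hsr hES.le with hrk | hrk
  · right
    have hN : normalizerIn S E = S :=
      le_antisymm hPS (le_inf le_rfl (le_normalizer hS hF hp5 hsr hE hrk))
    have h := dichotomy hS hF (by omega : 3 ≤ p) hE hrk
    rw [hN] at h
    obtain ⟨U, hU⟩ := h
    exact ⟨U, Or.inr hU⟩
  obtain ⟨U, hpair, hirr, hnt⟩ := pair_of_rank_two hS hF (by omega : 3 ≤ p) hE hrk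
  have hcard : Nat.card (E.subgroupOf (normalizerIn S E)) = Nat.card E :=
    Nat.card_congr (Subgroup.subgroupOfEquivOfLe hEP).toEquiv
  have hel : ∀ {x : Ω} (hx : x ∈ E), (⟨x, hEP hx⟩ : ↥(normalizerIn S E)) ∈ E.subgroupOf (normalizerIn S E) :=
    fun hx => Subgroup.mem_subgroupOf.2 hx
  rcases hpair.shape hG hp5 hsrP hirr hnt with ⟨hexp, hcases⟩ | hsp
  · left
    have hexp' : ∀ x ∈ E, x ^ p = 1 := fun x hx => congrArg Subtype.val (hexp _ (hel hx))
    rcases hcases with ⟨hab, hc⟩ | ⟨⟨x, hx, y, hy, hxy⟩, hc⟩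
    · refine Or.inl ⟨⟨⟨⟨fun u v => Subtype.ext ?_⟩⟩, hexp'⟩, hcard ▸ hc⟩
      have := hab _ (hel u.2) _ (hel v.2)
      rw [commutatorElement_eq_one_iff_mul_comm] at this
      exact congrArg (fun z : ↥(normalizerIn S E) => (z : Ω)) this
    · refine Or.inr ?_
      rcases Cfsg.Agent.S5186.result p hS F hF E hE (hcard ▸ hc) with he | ⟨-, he, -⟩ | ⟨h2, -⟩
      · refine absurd ?_ hxy
        haveI := he.1
        rw [commutatorElement_eq_one_iff_mul_comm]
        refine Subtype.ext ?_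
        exact congrArg (fun z : E => (z : Ω))
          (mul_comm' (⟨_, Subgroup.mem_subgroupOf.1 hx⟩ : E) ⟨_, Subgroup.mem_subgroupOf.1 hy⟩)
      · exact ⟨he, hcard ▸ hc, hexp'⟩
      · omega
  -- the special shape is characteristic in the normaliser
  right
  have hfix : ∀ g : MulAut ↥(normalizerIn S E),
      (E.subgroupOf (normalizerIn S E)).map g.toMonoidHom = E.subgroupOf (normalizerIn S E) := fun g =>
    ((hsp.unique hG (hsp.map_equiv g))).symm
  have hN : normalizerIn S E = S := by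
    by_contra hne
    obtain ⟨x, hx, hxP⟩ := SetLike.exists_of_lt (lt_normalizerIn hS (lt_of_le_of_ne hPS hne))
    obtain ⟨β, hβ, -⟩ := exists_aut_conj hx.2
    refine hxP ⟨hx.1, mem_normalizer_of_conj_mem hES.le fun w hw => ?_⟩
    have h1 : β ⟨w, hEP hw⟩ ∈ E.subgroupOf (normalizerIn S E) :=
      (hfix β).le ⟨_, Subgroup.mem_subgroupOf.2 hw, rfl⟩
    rw [← hβ w (hEP hw), av_apply β (hEP hw)]
    exact Subgroup.mem_subgroupOf.1 h1
  have h : ∃ U : Subgroup ↥(normalizerIn S E), Special p (E.subgroupOf (normalizerIn S E)) U := ⟨U, hsp⟩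
  rw [hN] at h
  obtain ⟨U', hU'⟩ := h
  exact ⟨U', Or.inl hU'⟩

/-- A subgroup invariant under the automisers of `S` and of every essential subgroup is trivial. -/
theorem eq_bot_of_invariant (hS : IsPGroup p S) (hF : F.IsSaturated p) (hO : F.core = ⊥)
    (Q : Subgroup ↥S)
    (hess : ∀ E : Subgroup Ω, F.IsEssential p E → Q ≤ E.subgroupOf S ∧
      ∀ f ∈ autFun F E S, IsAuto (E.subgroupOf S) f → ∀ x ∈ Q, f x ∈ Q)
    (hA : ∀ α ∈ F.autGroup S, ∀ x ∈ Q, α x ∈ Q) : Q = ⊥ := by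
  classical
  have hQS : Q.map S.subtype ≤ S := Subgroup.map_subtype_le Q
  have hn : F.IsNormal (Q.map S.subtype) := by
    refine normal_of_gen hS hF hQS fun P hP => ?_
    rcases hP with rfl | hP
    · refine ⟨hQS, ?_⟩
      rintro α hα _ ⟨x, hx, rfl⟩
      exact ⟨α x, hA α hα x hx, (av_coe α x).symm⟩
    obtain ⟨hle, hinv⟩ := hess P hP
    have hPS : P ≤ S := (lt_of_essential hS hF hP).le
    refine ⟨?_, ?_⟩
    · rintro _ ⟨x, hx, rfl⟩; exact Subgroup.mem_subgroupOf.1 (hle hx)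
    rintro α hα _ ⟨x, hx, rfl⟩
    obtain ⟨f, hf⟩ : ∃ f : ↥S → ↥S, ∀ z : ↥S, ∀ hz : (z : Ω) ∈ P, f z = ⟨av α (z : Ω), hPS (av_mem α hz)⟩ :=
      ⟨fun z => if hz : (z : Ω) ∈ P then ⟨av α (z : Ω), hPS (av_mem α hz)⟩ else 1, fun z hz => dif_pos hz⟩
    have hval : ∀ z ∈ P.subgroupOf S, (f z : Ω) = av α (z : Ω) := fun z hz => by
      rw [hf z (Subgroup.mem_subgroupOf.1 hz)]
    have hauto : IsAuto (P.subgroupOf S) f := by
      refine ⟨fun z hz => ?_, fun z hz w hw => Subtype.ext ?_, fun z hz w hw e => ?_⟩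
      · rw [Subgroup.mem_subgroupOf, hval z hz]; exact av_mem α (Subgroup.mem_subgroupOf.1 hz)
      · rw [Subgroup.coe_mul, hval _ ((P.subgroupOf S).mul_mem hz hw), hval z hz, hval w hw]
        have hz' := Subgroup.mem_subgroupOf.1 hz
        have hw' := Subgroup.mem_subgroupOf.1 hw
        rw [Subgroup.coe_mul, av_apply α (P.mul_mem hz' hw'), av_apply α hz', av_apply α hw']
        exact congrArg (fun v : P => (v : Ω)) (map_mul α ⟨_, hz'⟩ ⟨_, hw'⟩)
      · have e' := congrArg (fun v : ↥S => av α⁻¹ (v : Ω)) e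
        simp only [hval z hz, hval w hw, av_inv_av α (Subgroup.mem_subgroupOf.1 hz),
          av_inv_av α (Subgroup.mem_subgroupOf.1 hw)] at e'
        exact Subtype.ext e'
    exact ⟨f x, hinv f ⟨α, hα, fun z hz => hval z (Subgroup.mem_subgroupOf.2 hz)⟩ hauto x hx,
      hval x (hle hx)⟩
  have h1 : Q.map S.subtype ≤ F.core := le_sSup hn
  rw [hO, le_bot_iff, Subgroup.map_eq_bot_iff, Subgroup.ker_subtype] at h1
  exact le_bot_iff.1 h1

/-- Some power prime to `p` of every automorphism of `S` in the system fixes the centre. -/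
theorem exists_central_exp (hS : IsPGroup p S) (hF : F.IsSaturated p) :
    ∃ n : ℕ, ¬ p ∣ n ∧ ∀ α ∈ F.autGroup S, ∀ z ∈ Subgroup.center ↥S, (α ^ n) z = z := by
  haveI := mulAut_finite_of_le (le_refl S)
  have hsyl := (fa_iff.1 (fc_fa_of_fn hS hF (fn_self (F := F))).2).2
  have hinn : autInducedBy S S = Inn S := by
    ext α; rw [mem_autInducedBy, mem_Inn]
  rw [hinn] at hsyl
  refine ⟨(Inn ↥S).relIndex (F.autGroup S), hsyl.not_dvd, fun α hα z hz => ?_⟩
  haveI : ((Inn ↥S).subgroupOf (F.autGroup S)).Normal := inferInstance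
  have h : ((⟨α, hα⟩ : F.autGroup S) ^ (Inn ↥S).relIndex (F.autGroup S)) ∈ (Inn ↥S).subgroupOf (F.autGroup S) :=
    Subgroup.pow_index_mem _ _
  rw [Subgroup.mem_subgroupOf, Subgroup.coe_pow] at h
  obtain ⟨g, hg, hgx⟩ := mem_Inn.1 h
  refine Subtype.ext ?_
  rw [← av_coe, hgx _ z.2]
  have := congrArg (fun v : ↥S => (v : Ω)) (Subgroup.mem_center_iff.1 hz ⟨g, hg⟩)
  simp only [Subgroup.coe_mul] at this
  rw [this, mul_inv_cancel_right]

/-- The theorem. -/
theorem exists_pearl (hS : IsPGroup p S) (hF : F.IsSaturated p) (hp5 : 5 ≤ p)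
    (hsr : Cfsg.SectionalPRankLE p 3 ↥S) (hsr2 : ¬ Cfsg.SectionalPRankLE p 2 ↥S) (hO : F.core = ⊥) :
    ∃ E : Subgroup Ω, (F.IsEssential p E ∧ ((Cfsg.IsElementaryAbelian p E ∧ Nat.card E = p ^ 2) ∨
        (Cfsg.IsExtraspecial p ↥E ∧ Nat.card E = p ^ 3 ∧ ∀ x ∈ E, x ^ p = 1))) := by
  classical
  by_contra hno
  push Not at hno
  have hsh : ∀ E, F.IsEssential p E → Shape p F E := fun E hE => by
    rcases shape_cases hS hF hp5 hsr hE with (⟨h1, h2⟩ | ⟨h1, h2, h3⟩) | h
    · exact absurd h2 ((hno E hE).1 h1)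
    · obtain ⟨x, hx, hx'⟩ := (hno E hE).2 h1 h2
      exact absurd (h3 x hx) hx'
    · exact h
  have hbot := eq_bot_of_invariant hS hF hO
  by_cases hSp : ∃ E U, F.IsEssential p E ∧ Special p (E.subgroupOf S) U
  · obtain ⟨M₀, U', -, hM⟩ := hSp
    obtain ⟨Q, hQ⟩ : ∃ Q, Q = layer p (M₀.subgroupOf S) U' := ⟨_, rfl⟩
    have hQb : Q = ⊥ := by
      refine hbot Q (fun E hE => ?_) fun α hα x hx => ?_
      · obtain ⟨U, hU | hU | hU⟩ := hsh E hE
        · have he := hM.unique hS hU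
          have hUU : U = U' := le_antisymm
            (hU.min U' (fun x hx => hM.pow x (he.ge hx)) fun x hx y hy => hM.comm x (he.ge hx) y (he.ge hy))
            (hM.min U (fun x hx => hU.pow x (he.le hx)) fun x hx y hy => hU.comm x (he.le hx) y (he.le hy))
          refine ⟨hQ ▸ (layer_le hM.normalU).trans (hM.le.trans he.le), fun f _ hf x hx => ?_⟩
          rw [hQ, he, ← hUU] at hx ⊢
          exact map_mem_layer hU.le hU.normalU hf.mem hf.mul (hU.toPair.map_mem hf.mem hf.mul) x hx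
        · rw [hU.layer_eq hS hM] at hQ
          subst hQ
          exact ⟨hU.le, fun f _ hf x hx => hU.map_mem hf.mem hf.mul x hx⟩
        · obtain ⟨a, b, c, s, co, y, t, g₀, h, m, -, -⟩ := hU
          exact (hM.not_frame hp5 h m).elim
      · have hfix : ∀ x ∈ M₀.subgroupOf S, α x ∈ M₀.subgroupOf S := fun x hx =>
          (hM.unique hS (hM.map_equiv α)).ge ⟨x, hx, rfl⟩
        rw [hQ] at hx ⊢
        exact map_mem_layer hM.le hM.normalU hfix (fun x _ y _ => map_mul α x y)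
          (hM.toPair.map_mem hfix fun x _ y _ => map_mul α x y) x hx
    obtain ⟨x, hx⟩ : ∃ x, x ∉ M₀.subgroupOf S := by
      by_contra hno
      push Not at hno
      exact hp.out.one_lt.ne (hM.index ▸ (Subgroup.index_eq_one.2 (eq_top_iff.2 fun x _ => hno x)).symm)
    obtain ⟨k, hk, hxk⟩ := hM.faith x hx
    rw [← hQ, hQb, Subgroup.mem_bot] at hk
    rw [hk, commutatorElement_one_right] at hxk
    exact hxk (one_mem _)
  have hsh' : ∀ E, F.IsEssential p E → ∃ U, Irr p (E.subgroupOf S) U ∨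
      Transvec p (autFun F E S) (F.autGroup S) (E.subgroupOf S) U := fun E hE => by
    obtain ⟨U, hU | hU⟩ := hsh E hE
    · exact absurd ⟨E, U, hE, hU⟩ hSp
    · exact ⟨U, hU⟩
  by_cases hT : ∃ E U, F.IsEssential p E ∧ Transvec p (autFun F E S) (F.autGroup S) (E.subgroupOf S) U
  · obtain ⟨E₀, U, -, a, b, c, s, co, y, t, g₀, h, m, htA, -⟩ := hT
    have hall : ∀ E, F.IsEssential p E → Transvec p (autFun F E S) (F.autGroup S) (E.subgroupOf S) U := by
      intro E hE
      obtain ⟨U₂, hU₂ | hU₂⟩ := hsh' E hE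
      · exact (hU₂.not_frame hS hp5 h m).elim
      obtain ⟨a₂, b₂, c₂, s₂, co₂, y₂, t₂, g₂, h₂, m₂, ht₂, hl₂⟩ := hU₂
      obtain rfl := Moves.U_eq h m hS hp5 hsr h₂ fun u hu => (Moves.stable h₂ m₂ hp5 hsr t).1.le ⟨u, hu, rfl⟩
      exact ⟨a₂, b₂, c₂, s₂, co₂, y₂, t₂, g₂, h₂, m₂, ht₂, hl₂⟩
    have hU : U = ⊥ := by
      refine hbot U (fun E hE => ?_) fun α _ x hx => (Moves.stable h m hp5 hsr α).1.le ⟨x, hx, rfl⟩
      obtain ⟨a₂, b₂, c₂, s₂, co₂, y₂, t₂, g₂, h₂, -, -, -⟩ := hall E hE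
      exact ⟨h₂.le, fun f _ hf x hx => h₂.map_mem hf.mem hf.mul x hx⟩
    subst hU
    obtain ⟨n, hn, hfix⟩ := exists_central_exp hS hF
    have hC := Moves.axisC_invariant h m hp5 hsr htA hn hfix
    have hCb : h.sub (axisC p) = ⊥ := by
      refine hbot _ (fun E hE => ?_) hC
      obtain ⟨a₂, b₂, c₂, s₂, co₂, y₂, t₂, g₂, h₂, m₂, ht₂, hl₂⟩ := hall E hE
      have hC₂ := Moves.axisC_invariant h₂ m₂ hp5 hsr ht₂ hn hfix
      have hle := Moves.axisC_le h m hp5 h₂ m₂ (hC t₂ ht₂)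
      have hge := Moves.axisC_le h₂ m₂ hp5 h m (hC₂ t htA)
      refine ⟨fun x hx => (hle hx).1, fun f hf hfa x hx => hge ?_⟩
      have hx₂ := hle hx
      rw [h₂.eq_pw_c hx₂, show f (pw c₂ (co₂ x).2.2) = pw (f c₂) (co₂ x).2.2 from
        map_pow_of_mul hfa.mul h₂.cE _]
      exact (h₂.sub (axisC p)).pow_mem ⟨hfa.mem c₂ h₂.cE, hl₂ f hf⟩ _
    have hc : c ∈ h.sub (axisC p) := ⟨h.cE, by rw [h.co_c]; exact ⟨rfl, rfl⟩⟩
    rw [hCb, Subgroup.mem_bot] at hc
    have h1 := h.co_c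
    rw [hc, h.co_one] at h1
    exact zero_ne_one (congrArg (fun v => v.2.2) h1)
  have hirr : ∀ E, F.IsEssential p E → ∃ U, Irr p (E.subgroupOf S) U := fun E hE => by
    obtain ⟨U, hU | hU⟩ := hsh' E hE
    · exact ⟨U, hU⟩
    · exact absurd ⟨E, U, hE, hU⟩ hT
  by_cases hB : ∃ E, F.IsEssential p E ∧ Irr p (E.subgroupOf S) ⊥
  · obtain ⟨E₀, -, hE₀⟩ := hB
    have hQb : E₀.subgroupOf S = ⊥ := by
      refine hbot _ (fun E hE => ?_) fun α _ x hx => (hE₀.stable hS hp5 hsr α).le ⟨x, hx, rfl⟩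
      obtain ⟨U, hU⟩ := hirr E hE
      have he := hE₀.eq_of_bot hS rfl hU
      exact ⟨he.ge, fun f _ hf x hx => he.le (hf.mem x (he.ge hx))⟩
    have h1 := hE₀.card
    rw [hQb, Subgroup.card_bot, mul_one] at h1
    exact absurd h1 (Nat.one_lt_pow (by norm_num) hp.out.one_lt).ne
  obtain ⟨W, hW⟩ : ∃ W : Subgroup ↥S, W = Subgroup.closure {x | x ^ p = 1} := ⟨_, rfl⟩
  have hWb : W = ⊥ := by
    refine hbot W (fun E hE => ?_) fun α _ => ?_
    · obtain ⟨U, hU⟩ := hirr E hE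
      have hU0 : U ≠ ⊥ := fun e => hB ⟨E, hE, e ▸ hU⟩
      have hmem : ∀ x : ↥S, x ^ p = 1 → x ∈ E.subgroupOf S := fun x hx =>
        hU.pow_ne_one hS hp5 hsr hU.irr hU.nc hU0 hx
      have hle : W ≤ E.subgroupOf S := hW ▸ (Subgroup.closure_le _).2 fun x hx => hmem x hx
      refine ⟨hle, fun f _ hf x hx => ?_⟩
      rw [hW] at hx ⊢
      induction hx using Subgroup.closure_induction with
      | mem z hz =>
        refine Subgroup.subset_closure ?_
        show f z ^ p = 1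
        rw [← map_pow_of_mul hf.mul (hmem z hz), show z ^ p = 1 from hz, map_one_of_mul hf.mul]
      | one => rw [map_one_of_mul hf.mul]; exact one_mem _
      | mul u v hu hv iu iv =>
        rw [hf.mul u (hle (hW ▸ hu)) v (hle (hW ▸ hv))]; exact mul_mem iu iv
      | inv u hu iu => rw [map_inv_of_mul hf.mul (hle (hW ▸ hu))]; exact inv_mem iu
    · intro x hx
      rw [hW] at hx ⊢
      induction hx using Subgroup.closure_induction with
      | mem z hz =>
        refine Subgroup.subset_closure ?_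
        show α z ^ p = 1
        rw [← map_pow, show z ^ p = 1 from hz, map_one]
      | one => rw [map_one]; exact one_mem _
      | mul u v _ _ iu iv => rw [map_mul]; exact mul_mem iu iv
      | inv u _ iu => rw [map_inv]; exact inv_mem iu
  -- `S` is not trivial
  obtain ⟨k, hk⟩ := IsPGroup.iff_card.1 hS
  rcases Nat.eq_zero_or_pos k with rfl | hk0
  · refine hsr2 fun H N _ A _ _ => ?_
    have h1 : Nat.card H ≤ 1 := by
      have := Subgroup.card_le_card_group H
      rwa [hk, pow_zero] at this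
    exact (Subgroup.card_le_card_group A).trans ((Nat.card_le_card_of_surjective _
      (QuotientGroup.mk'_surjective N)).trans (h1.trans (Nat.one_le_pow _ _ hp.out.pos)))
  obtain ⟨z, hz⟩ := exists_prime_orderOf_dvd_card' (G := ↥S) p (hk ▸ dvd_pow_self p hk0.ne')
  have hzW : z ∈ W := hW ▸ Subgroup.subset_closure (show z ^ p = 1 from hz ▸ pow_orderOf_eq_one z)
  rw [hWb, Subgroup.mem_bot] at hzW
  rw [hzW, orderOf_one] at hz
  exact hp.out.one_lt.ne hz

end Fus

end Cfsg.Agent.Local.FS.RankThreeNormal
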