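import Cfsg.Agent.Lib.Solv.PGroupPhi
import Cfsg.Prelude.Def_CaseTheorems

/-!
Automorphisms of coprime order of a `p`-group, and the sectional rank of a subgroup.
-/

set_option autoImplicit false

namespace Cfsg.Agent.Local.FS.RankThreeNormal

universe u v

variable {H : Type u} [Group H] [Finite H] {p : ℕ} [hp : Fact p.Prime]

omit [Finite H] hp in
theorem frattini_map_mem (γ : MulAut H) {x : H} (hx : x ∈ frattini H) : γ x ∈ frattini H := by
  rw [← Subgroup.characteristic_iff_map_eq.1 (inferInstance : (frattini H).Characteristic) γ]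
  exact ⟨x, hx, rfl⟩

/-- An automorphism of coprime order that is trivial on the Frattini quotient is trivial. -/
theorem eq_one_of_trivial_frattini (hH : IsPGroup p H) {q : ℕ} (hq : q.Prime) (hqp : q ≠ p)
    {γ : MulAut H} (hγq : γ ^ q = 1) (hγ : ∀ x, x⁻¹ * γ x ∈ frattini H) : γ = 1 := by
  classical
  haveI := Fact.mk hq
  obtain ⟨C, hC⟩ : ∃ C : Subgroup H, C = MonoidHom.eqLocus γ.toMonoidHom (MonoidHom.id H) := ⟨_, rfl⟩
  have hmem : ∀ x, x ∈ C ↔ γ x = x := fun x => by rw [hC]; rfl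
  have hsup : C ⊔ frattini H = ⊤ := by
    refine eq_top_iff.2 fun x _ => ?_
    obtain ⟨A, hA⟩ : ∃ A : Set H, A = {y | x⁻¹ * y ∈ frattini H} := ⟨_, rfl⟩
    have hst : ∀ y : H, y ∈ A → γ y ∈ A := fun y hy => by
      rw [hA, Set.mem_setOf_eq] at hy ⊢
      rw [show x⁻¹ * γ y = x⁻¹ * γ x * γ (x⁻¹ * y) by rw [map_mul, map_inv]; group]
      exact (frattini H).mul_mem (hγ x) (frattini_map_mem γ hy)
    have hbij : Function.Bijective fun y : A => (⟨γ y, hst y y.2⟩ : A) :=
      Finite.injective_iff_bijective.1 fun y z e => Subtype.ext (γ.injective (congrArg Subtype.val e))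
    obtain ⟨σ, hσ⟩ : ∃ σ : Equiv.Perm A, ∀ y : A, (σ y : H) = γ y :=
      ⟨Equiv.ofBijective _ hbij, fun y => rfl⟩
    have hpow : ∀ (n : ℕ) (y : A), ((σ ^ n) y : H) = (γ ^ n) y := by
      intro n
      induction n with
      | zero => intro y; rfl
      | succ n ih => intro y; rw [pow_succ', Equiv.Perm.mul_apply, hσ, ih, pow_succ', MulAut.mul_apply]
    haveI : Fintype A := Fintype.ofFinite A
    have hcard : ¬ q ∣ Fintype.card A := by
      have e : Nat.card A = Nat.card (frattini H) :=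
        Nat.card_congr ⟨fun y => ⟨x⁻¹ * y, hA.le y.2⟩, fun z => ⟨x * z, hA.ge (by simp)⟩,
          fun y => Subtype.ext (mul_inv_cancel_left _ _), fun z => Subtype.ext (inv_mul_cancel_left _ _)⟩
      rw [← Nat.card_eq_fintype_card, e]
      obtain ⟨k, hk⟩ := IsPGroup.iff_card.1 (hH.to_subgroup (frattini H))
      rw [hk]
      exact fun h => hqp ((Nat.prime_dvd_prime_iff_eq hq hp.out).1 (hq.dvd_of_dvd_pow h))
    obtain ⟨y, hy⟩ := Equiv.Perm.exists_fixed_point_of_prime (p := q) (n := 1) hcard (σ := σ) (by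
      ext z; rw [pow_one, hpow, hγq]; rfl)
    have h1 : (y : H) ∈ C := (hmem _).2 (by rw [← hσ, hy])
    have h2 : x⁻¹ * y ∈ frattini H := hA.le y.2
    have := Subgroup.mul_mem_sup h1 ((frattini H).inv_mem h2)
    rwa [mul_inv_rev, inv_inv, mul_inv_cancel_left] at this
  refine MulEquiv.ext fun x => (hmem x).1 ?_
  rw [frattini_nongenerating hsup]
  trivial

/-- A displacement that is fixed modulo `X` by an automorphism of coprime order lies in `X`. -/
theorem disp_mem (hH : IsPGroup p H) {q : ℕ} (hq : q.Prime) (hqp : q ≠ p) {X : Subgroup H} [X.Normal]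
    {γ : MulAut H} (hγq : γ ^ q = 1) (hX : ∀ x ∈ X, γ x ∈ X) {x : H}
    (hd : (x⁻¹ * γ x)⁻¹ * γ (x⁻¹ * γ x) ∈ X) : x⁻¹ * γ x ∈ X := by
  obtain ⟨d, hdd⟩ : ∃ d, d = x⁻¹ * γ x := ⟨_, rfl⟩
  rw [← hdd] at hd ⊢
  have hγx : γ x = x * d := by rw [hdd, mul_inv_cancel_left]
  have key : ∀ n : ℕ, QuotientGroup.mk' X ((γ ^ n) x) = QuotientGroup.mk' X (x * d ^ n) := by
    intro n
    induction n with
    | zero => simp
    | succ n ih =>
      have h1 : QuotientGroup.mk' X (γ ((γ ^ n) x)) = QuotientGroup.mk' X (γ (x * d ^ n)) := by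
        obtain ⟨m, hm, he⟩ : ∃ m ∈ X, (γ ^ n) x = x * d ^ n * m :=
          ⟨_, QuotientGroup.eq.1 ih.symm, by group⟩
        rw [he, map_mul γ (x * d ^ n) m, map_mul,
          show QuotientGroup.mk' X (γ m) = 1 from (QuotientGroup.eq_one_iff _).2 (hX m hm), mul_one]
      have h2 : QuotientGroup.mk' X (γ d) = QuotientGroup.mk' X d := (QuotientGroup.eq.2 hd).symm
      rw [pow_succ', MulAut.mul_apply, h1, map_mul γ, map_pow γ, hγx, map_mul, map_pow, h2, ← map_pow,
        ← map_mul, mul_assoc, ← pow_succ']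
  have hdq : d ^ q ∈ X := by
    have := key q
    rw [hγq, MulAut.one_apply, map_mul, left_eq_mul] at this
    exact (QuotientGroup.eq_one_iff _).1 this
  obtain ⟨k, hk⟩ := IsPGroup.iff_orderOf.1 hH d
  obtain ⟨m, hm⟩ := exists_pow_eq_self_of_coprime (n := q) (x := d)
    (hk ▸ ((Nat.coprime_primes hq hp.out).2 hqp).pow_right k)
  rw [← hm]
  exact X.pow_mem hdq m

omit [Finite H] hp in
/-- The sectional rank passes to groups embedded in the group. -/
theorem sectional_of_injective {K : Type v} [Group K] {k : ℕ} (hK : Cfsg.SectionalPRankLE p k K)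
    (ι : H →* K) (hι : Function.Injective ι) : Cfsg.SectionalPRankLE p k H := by
  intro L N hN A hAc hAe
  obtain ⟨φ, hφ⟩ : ∃ φ : L ≃* L.map ι, φ = L.equivMapOfInjective ι hι := ⟨_, rfl⟩
  haveI : (N.map φ.toMonoidHom).Normal := hN.map _ φ.surjective
  obtain ⟨ψ, -⟩ : ∃ ψ : L ⧸ N ≃* (L.map ι) ⧸ N.map φ.toMonoidHom,
      ψ = QuotientGroup.congr N (N.map φ.toMonoidHom) φ rfl := ⟨_, rfl⟩
  have h1 := hK (L.map ι) (N.map φ.toMonoidHom) (A.map ψ.toMonoidHom) ?_ ?_
  · rwa [Subgroup.card_map_of_injective ψ.injective] at h1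
  · refine ⟨⟨?_⟩⟩
    rintro ⟨_, a, ha, rfl⟩ ⟨_, b, hb, rfl⟩
    refine Subtype.ext ?_
    show ψ a * ψ b = ψ b * ψ a
    rw [← map_mul, ← map_mul, show a * b = b * a from congrArg Subtype.val (hAc.is_comm.comm (⟨a, ha⟩ : A) ⟨b, hb⟩)]
  · rintro _ ⟨a, ha, rfl⟩
    rw [← map_pow, hAe a ha, map_one]

end Cfsg.Agent.Local.FS.RankThreeNormal
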