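import Cfsg.Agent.Lib.Local.FS.RankThreeNormal.Irreducible
import Cfsg.Agent.Lib.Solv.PGroupPhi
import Cfsg.Agent.Lib.Local.FS.RankThreeNormal.Coprime

/-!
A normal subgroup of index `p` with two generators and irreducible automorphisms, in a `p`-group of
sectional rank three with `p ≥ 5`: either it is a pearl or it is the only one of its shape.
-/

set_option autoImplicit false

open scoped commutatorElement

namespace Cfsg.Agent.Local.FS.RankThreeNormal

variable {G : Type*} [Group G] {p : ℕ} [hp : Fact p.Prime]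

/-- `E` is normal of index `p` and `U` is its Frattini subgroup, of index `p²`. -/
structure Pair (p : ℕ) (E U : Subgroup G) : Prop where
  normalE : E.Normal
  normalU : U.Normal
  le : U ≤ E
  pow : ∀ x ∈ E, x ^ p ∈ U
  comm : ∀ x ∈ E, ∀ y ∈ E, ⁅x, y⁆ ∈ U
  min : ∀ N : Subgroup G, (∀ x ∈ E, x ^ p ∈ N) → (∀ x ∈ E, ∀ y ∈ E, ⁅x, y⁆ ∈ N) → U ≤ N
  card : Nat.card E = p ^ 2 * Nat.card U
  index : E.index = p

omit hp in
theorem layer_normal_of {A U : Subgroup G} (hA : A.Normal) (hU : U.Normal) : (layer p A U).Normal := by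
  refine ⟨fun x hx g => ?_⟩
  induction hx using Subgroup.closure_induction with
  | mem x hx =>
    rcases hx with ⟨a, ha, u, hu, rfl⟩ | ⟨u, hu, rfl⟩
    · rw [show g * ⁅a, u⁆ * g⁻¹ = ⁅g * a * g⁻¹, g * u * g⁻¹⁆ by simp only [commutatorElement_def]; group]
      exact comm_mem_layer (hA.conj_mem a ha g) (hU.conj_mem u hu g)
    · rw [← conj_pow]; exact pow_mem_layer (hU.conj_mem u hu g)
  | one => simp
  | mul a b _ _ iha ihb =>
    rw [show g * (a * b) * g⁻¹ = (g * a * g⁻¹) * (g * b * g⁻¹) by group]; exact mul_mem iha ihb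
  | inv a _ iha => rw [show g * a⁻¹ * g⁻¹ = (g * a * g⁻¹)⁻¹ by group]; exact inv_mem iha

/-- In a `p`-group a normal subgroup is centralised modulo a normal subgroup of index `p` in it. -/
theorem comm_mem_of_card [Finite G] (hG : IsPGroup p G) {A B : Subgroup G} (hA : A.Normal) (hB : B.Normal)
    (hBA : B ≤ A) (hc : Nat.card A ≤ Nat.card B * p) (x : G) {a : G} (ha : a ∈ A) : ⁅x, a⁆ ∈ B := by
  by_contra hne
  haveI := hB
  haveI : (A.map (QuotientGroup.mk' B)).Normal := hA.map _ (QuotientGroup.mk'_surjective B)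
  have hne' : A.map (QuotientGroup.mk' B) ≠ ⊥ := fun h0 => by
    rw [Subgroup.map_eq_bot_iff, QuotientGroup.ker_mk'] at h0
    exact hne (by rw [commutatorElement_def]; exact B.mul_mem (hB.conj_mem a (h0 ha) x) (B.inv_mem (h0 ha)))
  obtain ⟨z, hzA, hzC, hzo⟩ := Solv.exists_central_order (hG.to_quotient B) (A.map (QuotientGroup.mk' B)) hne'
  have hle : A.map (QuotientGroup.mk' B) ≤ Subgroup.zpowers z := by
    refine (Subgroup.eq_of_le_of_card_ge (Subgroup.zpowers_le.2 hzA) ?_).ge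
    rw [Nat.card_zpowers, hzo]
    have h1 : Nat.card A = Nat.card B * Nat.card (A.map (QuotientGroup.mk' B)) := by
      rw [← Subgroup.relIndex_ker, QuotientGroup.ker_mk']
      have := Subgroup.relIndex_mul_relIndex ⊥ B A bot_le hBA
      rwa [Subgroup.relIndex_bot_left, Subgroup.relIndex_bot_left, eq_comm] at this
    exact Nat.le_of_mul_le_mul_left (h1 ▸ hc) Nat.card_pos
  have hq : QuotientGroup.mk' B a ∈ Subgroup.center (G ⧸ B) :=
    (Subgroup.zpowers_le.2 hzC) (hle ⟨a, ha, rfl⟩)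
  apply hne
  rw [← QuotientGroup.eq_one_iff, ← QuotientGroup.mk'_apply, map_commutatorElement,
    commutatorElement_eq_one_iff_mul_comm]
  exact Subgroup.mem_center_iff.1 hq _

/-- The shape of a two-generated essential subgroup that is not a pearl. -/
structure Special (p : ℕ) (E U : Subgroup G) : Prop extends Pair p E U where
  step : Nat.card U = p * Nat.card (layer p E U)
  cent : ∀ x ∈ E, ∀ k ∈ layer p E U, ⁅x, k⁆ ∈ layer p U U
  faith : ∀ x, x ∉ E → ∃ k ∈ layer p E U, ⁅x, k⁆ ∉ layer p U U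
  U_le : U ≤ frattini G
  expU : ∀ x : G, x ^ p ∈ U
  nt : ∃ x : G, ∃ e ∈ E, ⁅x, e⁆ ∉ U

namespace Pair

variable {E U : Subgroup G} (h : Pair p E U)
include h

omit hp in
theorem map_mem {f : G → G} (hf : ∀ x ∈ E, f x ∈ E) (hm : ∀ x ∈ E, ∀ y ∈ E, f (x * y) = f x * f y) :
    ∀ u ∈ U, f u ∈ U := by
  obtain ⟨N, hN⟩ : ∃ N : Subgroup G, ∀ x, x ∈ N ↔ x ∈ E ∧ f x ∈ U :=
    ⟨{ carrier := {x | x ∈ E ∧ f x ∈ U}
       one_mem' := ⟨E.one_mem, by rw [map_one_of_mul hm]; exact U.one_mem⟩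
       mul_mem' := fun {a b} ha hb => ⟨E.mul_mem ha.1 hb.1, by
         rw [hm a ha.1 b hb.1]; exact U.mul_mem ha.2 hb.2⟩
       inv_mem' := fun {a} ha => ⟨E.inv_mem ha.1, by
         rw [map_inv_of_mul hm ha.1]; exact U.inv_mem ha.2⟩ }, fun x => Iff.rfl⟩
  intro u hu
  refine ((hN u).1 (h.min N (fun x hx => (hN _).2 ⟨E.pow_mem hx p, ?_⟩) (fun x hx y hy => (hN _).2 ⟨?_, ?_⟩) hu)).2
  · rw [map_pow_of_mul hm hx]; exact h.pow _ (hf x hx)
  · exact h.le (h.comm x hx y hy)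
  · rw [map_comm_of_mul hm hx hy]; exact h.comm _ (hf x hx) _ (hf y hy)

/-- The dichotomy: a pearl, or the special shape. -/
theorem shape [Finite G] (hG : IsPGroup p G) (hp5 : 5 ≤ p) (hsr : Cfsg.SectionalPRankLE p 3 G)
    (hirr : ∀ N : Subgroup G, U ≤ N → N ≤ E → (∀ f, IsAuto E f → ∀ x ∈ N, f x ∈ N) → N = U ∨ N = E)
    (hnt : ∃ x : G, ∃ e ∈ E, ⁅x, e⁆ ∉ U) :
    ((∀ x ∈ E, x ^ p = 1) ∧ ((∀ x ∈ E, ∀ y ∈ E, ⁅x, y⁆ = 1) ∧ Nat.card E = p ^ 2 ∨
      (∃ x ∈ E, ∃ y ∈ E, ⁅x, y⁆ ≠ 1) ∧ Nat.card E = p ^ 3)) ∨ Special p E U := by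
  classical
  haveI := h.normalE
  haveI := h.normalU
  have hp2 : p ≠ 2 := by omega
  obtain ⟨s, b, hb, hsb⟩ := hnt
  -- the Frattini subgroup of the group
  obtain ⟨A, hA⟩ : ∃ A, A = frattini G := ⟨_, rfl⟩
  haveI hAn : A.Normal := hA ▸ inferInstance
  have hAc : ∀ x y : G, ⁅x, y⁆ ∈ A := fun x y => hA ▸ Solv.commutatorElement_mem_frattini hG x y
  have hAp : ∀ x : G, x ^ p ∈ A := fun x => hA ▸ Solv.pow_mem_frattini hG x
  have hUA : U ≤ A := h.min _ (fun x _ => hAp x) fun x _ y _ => hAc x y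
  have hAE : A ≤ E := by
    refine hA ▸ Solv.frattini_le (p := p) E (fun x y => ?_) fun x => h.index ▸ E.pow_index_mem x
    have hc : Nat.card (G ⧸ E) = p := by rw [← Subgroup.index_eq_card, h.index]
    haveI : IsCyclic (G ⧸ E) := isCyclic_of_prime_card hc
    rw [← QuotientGroup.eq_one_iff, ← QuotientGroup.mk'_apply, map_commutatorElement,
      commutatorElement_eq_one_iff_mul_comm]
    exact (IsCyclic.commGroup (α := G ⧸ E)).mul_comm _ _
  obtain ⟨a, ha'⟩ : ∃ a, a = ⁅s, b⁆ := ⟨_, rfl⟩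
  have haA : a ∈ A := ha' ▸ hAc s b
  have haU : a ∉ U := ha' ▸ hsb
  have ha : a ∈ E := hAE haA
  have hAneE : A ≠ E := by
    intro e
    obtain ⟨n, hn⟩ : ∃ n : G, n ∉ E := by
      by_contra hno
      push Not at hno
      exact hp.out.one_lt.ne (h.index ▸ (Subgroup.index_eq_one.2 (eq_top_iff.2 fun x _ => hno x)).symm)
    have htop : Subgroup.zpowers n = ⊤ := frattini_nongenerating (eq_top_iff.2 fun x _ => by
      haveI := h.normalE
      have hc : Nat.card (G ⧸ E) = p := by rw [← Subgroup.index_eq_card, h.index]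
      obtain ⟨i, hi⟩ := Subgroup.mem_zpowers_iff.1 (mem_zpowers_of_prime_card (g' := QuotientGroup.mk' E x) hc
        (show QuotientGroup.mk' E n ≠ 1 from fun e => hn ((QuotientGroup.eq_one_iff n).1 e)))
      have h2 : (n ^ i)⁻¹ * x ∈ A := e ▸ QuotientGroup.eq.1 (show QuotientGroup.mk' E (n ^ i) = _ by
        rw [map_zpow]; exact hi)
      have := Subgroup.mul_mem_sup (Subgroup.zpow_mem_zpowers n i) (hA ▸ h2)
      rwa [mul_inv_cancel_left] at this)
    obtain ⟨i, hi⟩ := Subgroup.mem_zpowers_iff.1 (htop ▸ Subgroup.mem_top s)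
    obtain ⟨j, hj⟩ := Subgroup.mem_zpowers_iff.1 (htop ▸ Subgroup.mem_top b)
    refine hsb ?_
    rw [← hi, ← hj, commutatorElement_eq_one_iff_commute.2 ((Commute.refl n).zpow_zpow i j)]
    exact U.one_mem
  have hAcard : Nat.card A = Nat.card U * p := by
    refine le_antisymm ?_ (mul_card_le_of_lt hG (lt_of_le_of_ne hUA fun e => haU (e ▸ haA)))
    have := mul_card_le_of_lt hG (lt_of_le_of_ne hAE hAneE)
    rw [h.card] at this
    refine Nat.le_of_mul_le_mul_right (this.trans (le_of_eq ?_)) hp.out.pos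
    ring
  have hAcent : ∀ x, ∀ z ∈ A, ⁅x, z⁆ ∈ U := fun x z hz =>
    comm_mem_of_card hG hAn h.normalU hUA hAcard.le x hz
  -- the powers lie below
  obtain ⟨K, hK⟩ : ∃ K, K = layer p E U := ⟨_, rfl⟩
  haveI hKn : K.Normal := hK ▸ layer_normal_of h.normalE h.normalU
  have hKU : K ≤ U := hK ▸ layer_le h.normalU
  have dK : Section p E U K := hK ▸ ⟨layer_normal_of h.normalE h.normalU, h.le, h.comm,
    fun _ hx _ hu => comm_mem_layer hx hu, fun _ hu => pow_mem_layer hu⟩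
  have hKinv : ∀ f, IsAuto E f → ∀ x ∈ K, f x ∈ K := fun f hf => hK ▸
    map_mem_layer h.le h.normalU hf.mem hf.mul (h.map_mem hf.mem hf.mul)
  obtain ⟨J, hJ⟩ : ∃ J, J = K ⊔ Subgroup.closure {z | ∃ x ∈ E, ∃ y ∈ E, ⁅x, y⁆ = z} := ⟨_, rfl⟩
  haveI hCn : (Subgroup.closure {z : G | ∃ x ∈ E, ∃ y ∈ E, ⁅x, y⁆ = z}).Normal := by
    refine ⟨fun z hz g => ?_⟩
    induction hz using Subgroup.closure_induction with
    | mem z hz =>
      obtain ⟨x, hx, y, hy, rfl⟩ := hz
      exact Subgroup.subset_closure ⟨g * x * g⁻¹, h.normalE.conj_mem x hx g, g * y * g⁻¹,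
        h.normalE.conj_mem y hy g, by simp only [commutatorElement_def]; group⟩
    | one => simp
    | mul u v _ _ iha ihb =>
      rw [show g * (u * v) * g⁻¹ = (g * u * g⁻¹) * (g * v * g⁻¹) by group]; exact mul_mem iha ihb
    | inv u _ iha => rw [show g * u⁻¹ * g⁻¹ = (g * u * g⁻¹)⁻¹ by group]; exact inv_mem iha
  haveI hJn : J.Normal := hJ ▸ Subgroup.sup_normal _ _
  have hKJ : K ≤ J := hJ ▸ le_sup_left
  have hJU : J ≤ U := hJ ▸ sup_le hKU ((Subgroup.closure_le _).2 fun z ⟨x, hx, y, hy, hz⟩ => hz ▸ h.comm x hx y hy)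
  have hJc : ∀ x ∈ E, ∀ y ∈ E, ⁅x, y⁆ ∈ J := fun x hx y hy =>
    hJ ▸ Subgroup.mem_sup_right (Subgroup.subset_closure ⟨x, hx, y, hy, rfl⟩)
  have hJinv : ∀ f, IsAuto E f → ∀ x ∈ J, f x ∈ J := by
    intro f hf x hx
    obtain ⟨X, hX⟩ : ∃ X : Subgroup G, ∀ z, z ∈ X ↔ z ∈ E ∧ f z ∈ J :=
      ⟨{ carrier := {z | z ∈ E ∧ f z ∈ J}
         one_mem' := ⟨E.one_mem, by rw [map_one_of_mul hf.mul]; exact J.one_mem⟩
         mul_mem' := fun {u v} hu hv => ⟨E.mul_mem hu.1 hv.1, by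
           rw [hf.mul u hu.1 v hv.1]; exact J.mul_mem hu.2 hv.2⟩
         inv_mem' := fun {u} hu => ⟨E.inv_mem hu.1, by
           rw [map_inv_of_mul hf.mul hu.1]; exact J.inv_mem hu.2⟩ }, fun z => Iff.rfl⟩
    rw [hJ] at hx
    refine ((hX x).1 ((sup_le ?_ ?_ : K ⊔ Subgroup.closure {z | ∃ x ∈ E, ∃ y ∈ E, ⁅x, y⁆ = z} ≤ X) hx)).2
    · exact fun z hz => (hX z).2 ⟨h.le (hKU hz), hKJ (hKinv f hf z hz)⟩
    · refine (Subgroup.closure_le _).2 fun z ⟨x, hx, y, hy, hz⟩ => hz ▸ (hX _).2 ⟨h.le (h.comm x hx y hy), ?_⟩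
      rw [map_comm_of_mul hf.mul hx hy]
      exact hJc _ (hf.mem x hx) _ (hf.mem y hy)
  obtain ⟨q, hq⟩ : ∃ q, q = QuotientGroup.mk' J := ⟨_, rfl⟩
  have hq1 : ∀ x, q x = 1 ↔ x ∈ J := fun x => hq ▸ QuotientGroup.eq_one_iff x
  have hqc : ∀ {x y}, x ∈ E → y ∈ E → Commute (q x) (q y) := fun hx hy =>
    commutatorElement_eq_one_iff_commute.1 (by rw [← map_commutatorElement, hq1]; exact hJc _ hx _ hy)
  have hpJ : ∀ x ∈ E, x ^ p ∈ J := by
    obtain ⟨R, hR⟩ : ∃ R : Subgroup G, ∀ x, x ∈ R ↔ x ∈ E ∧ x ^ p ∈ J :=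
      ⟨{ carrier := {x | x ∈ E ∧ x ^ p ∈ J}
         one_mem' := ⟨E.one_mem, by rw [one_pow]; exact J.one_mem⟩
         mul_mem' := fun {u v} hu hv => ⟨E.mul_mem hu.1 hv.1, by
           rw [← hq1, map_pow, map_mul, (hqc hu.1 hv.1).mul_pow, ← map_pow, ← map_pow, (hq1 _).2 hu.2,
             (hq1 _).2 hv.2, one_mul]⟩
         inv_mem' := fun {u} hu => ⟨E.inv_mem hu.1, by rw [inv_pow]; exact J.inv_mem hu.2⟩ }, fun x => Iff.rfl⟩
    rcases hirr R (fun u hu => (hR u).2 ⟨h.le hu, hKJ (hK ▸ pow_mem_layer hu)⟩) (fun x hx => ((hR x).1 hx).1)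
      (fun f hf x hx => (hR _).2 ⟨hf.mem x ((hR x).1 hx).1, by
        rw [← map_pow_of_mul hf.mul ((hR x).1 hx).1]; exact hJinv f hf _ ((hR x).1 hx).2⟩) with hRU | hRE
    swap
    · exact fun x hx => ((hR x).1 (hRE.ge hx)).2
    exfalso
    have haJ : a ^ p ∉ J := fun e => haU (hRU.le ((hR a).2 ⟨ha, e⟩))
    obtain ⟨a₂, ha₂⟩ : ∃ a₂, a₂ = ⁅s, a⁆ := ⟨_, rfl⟩
    obtain ⟨a₃, ha₃⟩ : ∃ a₃, a₃ = ⁅s, a₂⁆ := ⟨_, rfl⟩
    have h2U : a₂ ∈ U := ha₂ ▸ hAcent s a haA
    have hconj : ∀ {x}, x ∈ E → q s * q x * (q s)⁻¹ = q ⁅s, x⁆ * q x := fun {x} _ => by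
      rw [map_commutatorElement, commutatorElement_def]; group
    -- `U` is the image of the power map modulo `J`
    obtain ⟨M, hM⟩ : ∃ M : Subgroup G, ∀ x, x ∈ M ↔ ∃ e ∈ E, x * (e ^ p)⁻¹ ∈ J :=
      ⟨{ carrier := {x | ∃ e ∈ E, x * (e ^ p)⁻¹ ∈ J}
         one_mem' := ⟨1, E.one_mem, by simp⟩
         mul_mem' := by
           rintro u v ⟨e, he, hu⟩ ⟨e', he', hv⟩
           refine ⟨e * e', E.mul_mem he he', ?_⟩
           rw [← hq1, map_mul, map_inv, mul_inv_eq_one, map_mul, map_pow, map_mul, (hqc he he').mul_pow,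
             ← map_pow, ← map_pow]
           rw [← hq1, map_mul, map_inv, mul_inv_eq_one] at hu hv
           rw [hu, hv]
         inv_mem' := by
           rintro u ⟨e, he, hu⟩
           refine ⟨e⁻¹, E.inv_mem he, ?_⟩
           rw [← hq1, map_mul, map_inv, mul_inv_eq_one] at hu
           rw [← hq1, map_mul, map_inv, map_inv, mul_inv_eq_one, hu, ← map_inv, inv_pow] }, fun x => Iff.rfl⟩
    have hUM : U ≤ M := h.min M (fun x hx => (hM _).2 ⟨x, hx, by simp⟩)
      fun x hx y hy => (hM _).2 ⟨1, E.one_mem, by simpa using hJc x hx y hy⟩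
    have h3 : ⁅s, a₃⁆ ∈ J := by
      obtain ⟨x, hx, hxa⟩ := (hM _).1 (hUM h2U)
      rw [← hq1, map_mul, map_inv, mul_inv_eq_one, map_pow] at hxa
      have hstep : ∀ {e}, e ∈ E → ⁅q s, q e ^ p⁆ = q ⁅s, e⁆ ^ p := fun {e} he => by
        rw [commutatorElement_def, ← conj_pow, hconj he,
          (hqc (hAE (hAc s e)) he).mul_pow, mul_inv_cancel_right]
      have e3 : q a₃ = q ⁅s, x⁆ ^ p := by rw [ha₃, map_commutatorElement, hxa, hstep hx]
      rw [← hq1, map_commutatorElement, e3, hstep (hAE (hAc s x)), ← map_pow, hq1]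
      exact hKJ (hK ▸ pow_mem_layer (hAcent s _ (hAc s x)))
    have h3U : a₃ ∈ U := ha₃ ▸ hAcent s a₂ (hUA h2U)
    -- iterate
    have hiter : ∀ n : ℕ, q s ^ n * q b * (q s ^ n)⁻¹ =
        q a ^ n * q a₂ ^ n.choose 2 * q a₃ ^ n.choose 3 * q b := by
      intro n
      induction n with
      | zero => simp
      | succ n ih =>
        rw [pow_succ', show q s * q s ^ n * q b * (q s * q s ^ n)⁻¹ =
          q s * (q s ^ n * q b * (q s ^ n)⁻¹) * (q s)⁻¹ by group, ih]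
        have c : ∀ (w : G) (k : ℕ), q s * q w ^ k * (q s)⁻¹ = (q s * q w * (q s)⁻¹) ^ k := fun w k => conj_pow.symm
        rw [show q s * (q a ^ n * q a₂ ^ n.choose 2 * q a₃ ^ n.choose 3 * q b) * (q s)⁻¹ =
          (q s * q a ^ n * (q s)⁻¹) * (q s * q a₂ ^ n.choose 2 * (q s)⁻¹) *
            (q s * q a₃ ^ n.choose 3 * (q s)⁻¹) * (q s * q b * (q s)⁻¹) by group,
          c, c, c, hconj ha, hconj (h.le h2U), hconj (h.le h3U), hconj hb, ← ha', ← ha₂, ← ha₃, (hq1 _).2 h3,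
          one_mul, (hqc (h.le h2U) ha).mul_pow, (hqc (h.le h3U) (h.le h2U)).mul_pow]
        have c12 := hqc ha (h.le h2U)
        have c13 := hqc ha (h.le h3U)
        have c23 := hqc (h.le h2U) (h.le h3U)
        rw [show Nat.choose (n + 1) 2 = n + n.choose 2 by rw [Nat.choose_succ_succ, Nat.choose_one_right],
          show Nat.choose (n + 1) 3 = n.choose 2 + n.choose 3 by rw [Nat.choose_succ_succ], pow_succ, pow_add, pow_add]
        calc q a₂ ^ n * q a ^ n * (q a₃ ^ n.choose 2 * q a₂ ^ n.choose 2) * q a₃ ^ n.choose 3 * (q a * q b)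
            = q a ^ n * q a₂ ^ n * (q a₂ ^ n.choose 2 * q a₃ ^ n.choose 2) * q a₃ ^ n.choose 3 * (q a * q b) := by
              rw [(c12.pow_pow n n).eq, (c23.pow_pow (n.choose 2) (n.choose 2)).eq]
          _ = q a ^ n * ((q a₂ ^ n * q a₂ ^ n.choose 2 * (q a₃ ^ n.choose 2 * q a₃ ^ n.choose 3)) * q a) * q b := by
              group
          _ = q a ^ n * (q a * (q a₂ ^ n * q a₂ ^ n.choose 2 * (q a₃ ^ n.choose 2 * q a₃ ^ n.choose 3))) * q b := by
              rw [(((c12.pow_right n).mul_right (c12.pow_right _)).mul_right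
                ((c13.pow_right _).mul_right (c13.pow_right _))).eq]
          _ = _ := by group
    have hdiv : ∀ {w : G} {k : ℕ}, w ∈ U → p ∣ k → q w ^ k = 1 := fun {w k} hw hk => by
      obtain ⟨j, rfl⟩ := hk
      rw [pow_mul, ← map_pow, (hq1 _).2 (hKJ (hK ▸ pow_mem_layer hw)), one_pow]
    have h1 := hiter p
    rw [← map_pow q s, (hqc (hAE (hAp s)) hb).eq, mul_inv_cancel_right,
      hdiv h2U (hp.out.dvd_choose_self (by norm_num) (by omega)),
      hdiv h3U (hp.out.dvd_choose_self (by norm_num) (by omega)), mul_one, mul_one, ← map_pow, right_eq_mul,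
      hq1] at h1
    exact haJ h1
  have hUJ : U ≤ J := h.min J hpJ hJc
  -- `E = ⟨a, b⟩ U`
  have hab : E ≤ Subgroup.closure ({a, b} ∪ (U : Set G)) := by
    obtain ⟨X, hX⟩ : ∃ X, X = Subgroup.closure ({a, b} ∪ (U : Set G)) := ⟨_, rfl⟩
    rw [← hX]
    have hUX : U ≤ X := fun u hu => hX ▸ Subgroup.subset_closure (Or.inr hu)
    have haX : a ∈ X := hX ▸ Subgroup.subset_closure (Or.inl (by simp))
    have hbX : b ∈ X := hX ▸ Subgroup.subset_closure (Or.inl (by simp))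
    have hXE : X ≤ E := hX ▸ (Subgroup.closure_le _).2 (Set.union_subset
      (by rintro x (rfl | rfl); exacts [ha, hb]) h.le)
    have hAX : A ≤ X := by
      have h1 : U < X ⊓ A := lt_of_le_of_ne (le_inf hUX hUA) fun e => haU (e ▸ ⟨haX, haA⟩)
      have := Subgroup.eq_of_le_of_card_ge (inf_le_right : X ⊓ A ≤ A) (hAcard ▸ mul_card_le_of_lt hG h1)
      exact this ▸ inf_le_left
    have h2 : A < X := lt_of_le_of_ne hAX fun e => hsb (hAcent s b (e.ge hbX))
    refine (Subgroup.eq_of_le_of_card_ge hXE (le_trans (le_of_eq ?_) (mul_card_le_of_lt hG h2))).ge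
    rw [h.card, hAcard]; ring
  obtain ⟨c, hc'⟩ : ∃ c, c = ⁅a, b⁆ := ⟨_, rfl⟩
  have hcU : c ∈ U := hc' ▸ h.comm a ha b hb
  obtain ⟨π, hπ⟩ : ∃ π, π = QuotientGroup.mk' K := ⟨_, rfl⟩
  have hπ1 : ∀ x, π x = 1 ↔ x ∈ K := fun x => hπ ▸ QuotientGroup.eq_one_iff x
  have hCK : ∀ x ∈ E, ∀ y ∈ E, π ⁅x, y⁆ ∈ Subgroup.zpowers (π c) := by
    obtain ⟨Z, hZ⟩ : ∃ Z, Z = Subgroup.zpowers (π c) := ⟨_, rfl⟩
    rw [← hZ]
    have hone : ∀ y, π ⁅(1 : G), y⁆ ∈ Z := fun y => by simp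
    have inner : ∀ x ∈ E, π ⁅x, a⁆ ∈ Z → π ⁅x, b⁆ ∈ Z → ∀ y ∈ E, π ⁅x, y⁆ ∈ Z := by
      intro x hx hxa hxb y hy
      obtain ⟨Y, hY⟩ : ∃ Y : Subgroup G, ∀ y, y ∈ Y ↔ y ∈ E ∧ π ⁅x, y⁆ ∈ Z :=
        ⟨{ carrier := {y | y ∈ E ∧ π ⁅x, y⁆ ∈ Z}
           one_mem' := ⟨E.one_mem, by simp⟩
           mul_mem' := fun {u v} hu hv => ⟨E.mul_mem hu.1 hv.1, by
             rw [hπ, dK.comm_mul_right hx hu.1 hv.1, ← hπ]; exact Z.mul_mem hu.2 hv.2⟩
           inv_mem' := fun {u} hu => ⟨E.inv_mem hu.1, by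
             have e := dK.comm_mul_right hx hu.1 (E.inv_mem hu.1)
             rw [mul_inv_cancel, commutatorElement_one_right, map_one, ← hπ, eq_comm, mul_eq_one_iff_eq_inv'] at e
             rw [e]; exact Z.inv_mem hu.2⟩ }, fun y => Iff.rfl⟩
      refine ((hY y).1 (((Subgroup.closure_le _).2 ?_) (hab hy))).2
      rintro w ((rfl | rfl) | hw)
      exacts [(hY _).2 ⟨ha, hxa⟩, (hY _).2 ⟨hb, hxb⟩, (hY _).2 ⟨h.le hw, by
        rw [(hπ1 _).2 (hK ▸ comm_mem_layer hx hw)]; exact Z.one_mem⟩]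
    have hca : π ⁅a, b⁆ ∈ Z := by rw [← hc', hZ]; exact Subgroup.mem_zpowers _
    have hcb : π ⁅b, a⁆ ∈ Z := by rw [← commutatorElement_inv, map_inv]; exact Z.inv_mem hca
    intro x hx y hy
    rw [← commutatorElement_inv, map_inv]
    refine Z.inv_mem (inner y hy ?_ ?_ x hx)
    · rw [← commutatorElement_inv, map_inv]
      exact Z.inv_mem (inner a ha (by simp) hca y hy)
    · rw [← commutatorElement_inv, map_inv]
      exact Z.inv_mem (inner b hb hcb (by simp) y hy)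
  have hUK : U.map π ≤ Subgroup.zpowers (π c) := by
    refine (Subgroup.map_mono hUJ).trans ?_
    rw [hJ, Subgroup.map_sup, (Subgroup.map_eq_bot_iff K).2 (by rw [hπ, QuotientGroup.ker_mk']), bot_sup_eq,
      Subgroup.map_le_iff_le_comap]
    exact (Subgroup.closure_le _).2 fun z ⟨x, hx, y, hy, hz⟩ => hz ▸ hCK x hx y hy
  have hcp : π c ^ p = 1 := by rw [← map_pow, hπ1]; exact hK ▸ pow_mem_layer hcU
  have hUcard : Nat.card U ≤ Nat.card K * p := by
    rw [card_eq_mul_map hKU, ← hπ]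
    exact Nat.mul_le_mul_left _ ((Subgroup.card_le_of_le hUK).trans
      ((Nat.card_zpowers _).trans_le (orderOf_le_of_pow_eq_one hp.out.pos hcp)))
  by_cases hcK : c ∈ K
  · -- elementary of order `p²`
    refine Or.inl ?_
    have hUb : U ≤ ⊥ := by
      refine le_of_le_sup (E := E) hG bot_le fun X hXn _ hXc hXp => ?_
      refine le_trans ?_ (hK ▸ layer_le_iff.2 ⟨hXc, hXp⟩ : K ≤ X)
      intro u hu
      rw [← hπ1]
      obtain ⟨i, hi⟩ := Subgroup.mem_zpowers_iff.1 (hUK ⟨u, hu, rfl⟩)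
      rw [← hi, (hπ1 c).2 hcK, one_zpow]
    refine ⟨fun x hx => Subgroup.mem_bot.1 (hUb (h.pow x hx)),
      Or.inl ⟨fun x hx y hy => Subgroup.mem_bot.1 (hUb (h.comm x hx y hy)), ?_⟩⟩
    rw [h.card, le_bot_iff.1 hUb, Subgroup.card_bot, mul_one]
  -- powers lie in `K`
  have hKU' : K < U := lt_of_le_of_ne hKU fun e => hcK (e.ge hcU)
  have hpK : ∀ x ∈ E, x ^ p ∈ K := by
    obtain ⟨R, hR⟩ : ∃ R : Subgroup G, ∀ x, x ∈ R ↔ x ∈ E ∧ x ^ p ∈ K :=
      ⟨{ carrier := {x | x ∈ E ∧ x ^ p ∈ K}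
         one_mem' := ⟨E.one_mem, by rw [one_pow]; exact K.one_mem⟩
         mul_mem' := fun {u v} hu hv => ⟨E.mul_mem hu.1 hv.1, by
           rw [← hπ1, hπ, dK.mul_pow hp2 hu.1 hv.1, ← hπ, (hπ1 _).2 hu.2, (hπ1 _).2 hv.2, one_mul]⟩
         inv_mem' := fun {u} hu => ⟨E.inv_mem hu.1, by rw [inv_pow]; exact K.inv_mem hu.2⟩ }, fun x => Iff.rfl⟩
    rcases hirr R (fun u hu => (hR u).2 ⟨h.le hu, hK ▸ pow_mem_layer hu⟩) (fun x hx => ((hR x).1 hx).1)
      (fun f hf x hx => (hR _).2 ⟨hf.mem x ((hR x).1 hx).1, by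
        rw [← map_pow_of_mul hf.mul ((hR x).1 hx).1]; exact hKinv f hf _ ((hR x).1 hx).2⟩) with hRU | hRE
    swap
    · exact fun x hx => ((hR x).1 (hRE.ge hx)).2
    exfalso
    -- two elements cannot both be moved
    obtain ⟨i, hi⟩ := Subgroup.mem_zpowers_iff.1 (hUK ⟨a ^ p, h.pow a ha, rfl⟩)
    obtain ⟨j, hj⟩ := Subgroup.mem_zpowers_iff.1 (hUK ⟨b ^ p, h.pow b hb, rfl⟩)
    have key : a ^ j * (b ^ i)⁻¹ ∈ R := by
      refine (hR _).2 ⟨E.mul_mem (E.zpow_mem ha j) (E.inv_mem (E.zpow_mem hb i)), ?_⟩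
      have e := dK.mul_pow hp2 (E.zpow_mem ha j) (E.inv_mem (E.zpow_mem hb i))
      rw [← hπ] at e
      have sw : ∀ (x : G) (n : ℤ), (x ^ n) ^ p = (x ^ p) ^ n := fun x n => by
        rw [← zpow_natCast, ← zpow_mul, mul_comm, zpow_mul, zpow_natCast]
      rw [← hπ1, e, inv_pow, map_inv, mul_inv_eq_one, sw, sw, map_zpow, map_zpow, ← hi, ← hj, ← zpow_mul, ← zpow_mul,
        mul_comm]
    rw [hRU] at key
    have hda : ¬ (p : ℤ) ∣ i := fun ⟨k, hk⟩ => haU (hRU.le ((hR a).2 ⟨ha, by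
      rw [← hπ1, ← hi, hk, zpow_mul, zpow_natCast, hcp, one_zpow]⟩))
    have h1 : b ^ i ∈ A := by
      have := A.mul_mem (A.inv_mem (hUA key)) (A.zpow_mem haA j)
      rwa [mul_inv_rev, inv_inv, inv_mul_cancel_right] at this
    obtain ⟨x, y, hxy⟩ := ((Nat.prime_iff_prime_int.1 hp.out).coprime_iff_not_dvd).2 hda
    refine hsb (hAcent s b ?_)
    rw [show b = (b ^ p) ^ x * (b ^ i) ^ y by
      rw [← zpow_natCast b p, ← zpow_mul, ← zpow_mul, ← zpow_add,
        show (p : ℤ) * x + i * y = 1 by linarith, zpow_one]]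
    exact A.mul_mem (A.zpow_mem (hAp b) x) (A.zpow_mem h1 y)
  -- the next layer
  obtain ⟨L, hL⟩ : ∃ L, L = layer p E K := ⟨_, rfl⟩
  haveI hLn : L.Normal := hL ▸ layer_normal_of h.normalE hKn
  have hLK : L ≤ K := hL ▸ layer_le hKn
  obtain ⟨θ, hθ⟩ : ∃ θ, θ = QuotientGroup.mk' L := ⟨_, rfl⟩
  have hθ1 : ∀ x, θ x = 1 ↔ x ∈ L := fun x => hθ ▸ QuotientGroup.eq_one_iff x
  have hKc : ∀ x ∈ E, ∀ k ∈ K, Commute (θ x) (θ k) := fun x hx k hk =>
    commutatorElement_eq_one_iff_commute.1 (by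
      rw [← map_commutatorElement, hθ1]; exact hL ▸ comm_mem_layer hx hk)
  have hKe : ∀ k ∈ K, θ k ^ p = 1 := fun k hk => by
    rw [← map_pow, hθ1]; exact hL ▸ pow_mem_layer hk
  have hUdec : ∀ u ∈ U, ∃ i : ℤ, ∃ k ∈ K, u = c ^ i * k := fun u hu => by
    obtain ⟨i, hi⟩ := Subgroup.mem_zpowers_iff.1 (hUK ⟨u, hu, rfl⟩)
    refine ⟨i, (c ^ i)⁻¹ * u, ?_, by rw [mul_inv_cancel_left]⟩
    rw [← hπ1, map_mul, map_inv, map_zpow, hi, inv_mul_cancel]
  have hcK' : ∀ x ∈ E, ⁅x, c⁆ ∈ K := fun x hx => hK ▸ comm_mem_layer hx hcU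
  have hcL : θ c ^ p = 1 := by
    have hu := hcK' a ha
    have hstep : ∀ n : ℕ, θ a ^ n * θ c * (θ a ^ n)⁻¹ = θ ⁅a, c⁆ ^ n * θ c := by
      intro n
      induction n with
      | zero => simp
      | succ n ih =>
        rw [pow_succ', show θ a * θ a ^ n * θ c * (θ a * θ a ^ n)⁻¹ =
          θ a * (θ a ^ n * θ c * (θ a ^ n)⁻¹) * (θ a)⁻¹ by group, ih,
          show θ a * (θ ⁅a, c⁆ ^ n * θ c) * (θ a)⁻¹ = (θ a * θ ⁅a, c⁆ ^ n) * θ c * (θ a)⁻¹ by group,
          ((hKc a ha _ hu).pow_right n).eq, pow_succ, map_commutatorElement, commutatorElement_def]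
        group
    have hn : ∀ n : ℕ, ⁅θ a ^ n, θ b⁆ = θ ⁅a, c⁆ ^ n.choose 2 * θ c ^ n := by
      intro n
      induction n with
      | zero => simp
      | succ n ih =>
        rw [pow_succ, show ⁅θ a ^ n * θ a, θ b⁆ = θ a ^ n * ⁅θ a, θ b⁆ * (θ a ^ n)⁻¹ * ⁅θ a ^ n, θ b⁆ by
          simp only [commutatorElement_def]; group, ← map_commutatorElement θ a b, ← hc', hstep, ih,
          show θ ⁅a, c⁆ ^ n * θ c * (θ ⁅a, c⁆ ^ n.choose 2 * θ c ^ n) =
            θ ⁅a, c⁆ ^ n * (θ c * θ ⁅a, c⁆ ^ n.choose 2) * θ c ^ n by group,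
          ((hKc c (h.le hcU) _ hu).pow_right _).eq,
          show Nat.choose (n + 1) 2 = n + n.choose 2 by rw [Nat.choose_succ_succ, Nat.choose_one_right],
          pow_add, pow_succ']
        group
    obtain ⟨j, hj⟩ := hp.out.dvd_choose_self (by norm_num : 2 ≠ 0) (by omega : 2 < p)
    have := hn p
    rw [← map_pow, ← map_commutatorElement, hj, pow_mul, hKe _ hu, one_pow, one_mul,
      (hθ1 _).2 (hL ▸ by
        rw [← commutatorElement_inv]; exact inv_mem (comm_mem_layer hb (hpK a ha)))] at this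
    exact this.symm
  obtain ⟨R₂, hR₂⟩ : ∃ R₂ : Subgroup G, ∀ x, x ∈ R₂ ↔ x ∈ E ∧ ⁅x, c⁆ ∈ L :=
    ⟨E ⊓ (Subgroup.centralizer ({θ c} : Set (G ⧸ L))).comap θ, fun x => by
      rw [Subgroup.mem_inf, Subgroup.mem_comap, Subgroup.mem_centralizer_singleton_iff, ← hθ1,
        map_commutatorElement, commutatorElement_eq_one_iff_mul_comm]⟩
  have hUR : U ≤ R₂ := fun u hu => by
    obtain ⟨i, k, hk, rfl⟩ := hUdec u hu
    refine (hR₂ _).2 ⟨h.le hu, ?_⟩
    rw [← hθ1, map_commutatorElement, commutatorElement_eq_one_iff_commute, map_mul, map_zpow]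
    exact ((Commute.refl _).zpow_left i).mul_left (hKc c (h.le hcU) k hk).symm
  have hR₂inv : ∀ f, IsAuto E f → ∀ x ∈ R₂, f x ∈ R₂ := by
    intro f hf x hx
    obtain ⟨hxE, hxc⟩ := (hR₂ x).1 hx
    refine (hR₂ _).2 ⟨hf.mem x hxE, ?_⟩
    have hLinv : f ⁅x, c⁆ ∈ L := hL ▸ map_mem_layer (hKU.trans h.le) hKn hf.mem hf.mul (hKinv f hf) _ (hL ▸ hxc)
    obtain ⟨i, k, hk, hfc⟩ := hUdec (f c) (h.map_mem hf.mem hf.mul c hcU)
    have hi : ¬ (p : ℤ) ∣ i := by
      rintro ⟨j, rfl⟩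
      have hmem : f c ∈ K := by
        rw [← hπ1, hfc, map_mul, map_zpow, zpow_mul, zpow_natCast, hcp, one_zpow, one_mul, (hπ1 k).2 hk]
      obtain ⟨c', hc'K, hc'c⟩ : ∃ c' ∈ K, f c' = f c := by
        have hbij : Function.Bijective fun z : K => (⟨f z, hKinv f hf z z.2⟩ : K) :=
          Finite.injective_iff_bijective.1 fun u v e =>
            Subtype.ext (hf.inj (h.le (hKU u.2)) (h.le (hKU v.2)) (congrArg Subtype.val e))
        obtain ⟨z, hz⟩ := hbij.2 ⟨f c, hmem⟩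
        exact ⟨z, z.2, congrArg Subtype.val hz⟩
      exact hcK (hf.inj (h.le (hKU hc'K)) (h.le hcU) hc'c ▸ hc'K)
    rw [← hθ1, map_commutatorElement, commutatorElement_eq_one_iff_commute]
    rw [map_comm_of_mul hf.mul hxE (h.le hcU), ← hθ1, map_commutatorElement, commutatorElement_eq_one_iff_commute,
      hfc, map_mul, map_zpow] at hLinv
    have h1 : Commute (θ (f x)) (θ c ^ i) := by
      have := hLinv.mul_right (hKc _ (hf.mem x hxE) k hk).inv_right
      rwa [mul_inv_cancel_right] at this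
    obtain ⟨x', y', hxy⟩ := ((Nat.prime_iff_prime_int.1 hp.out).coprime_iff_not_dvd).2 hi
    have e : θ c = (θ c ^ i) ^ y' := by
      conv_lhs => rw [← zpow_one (θ c), ← show (p : ℤ) * x' + i * y' = 1 by linarith, zpow_add, zpow_mul,
        zpow_natCast, hcL, one_zpow, one_mul, zpow_mul]
    rw [e]
    exact h1.zpow_right y'
  rcases hirr R₂ hUR (fun x hx => ((hR₂ x).1 hx).1) hR₂inv with hRU | hRE
  swap
  · -- extraspecial of order `p³`
    refine Or.inl ?_
    have hKL : K ≤ L := by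
      rw [hK]
      refine layer_le_iff.2 ⟨fun x hx u hu => ?_, fun u hu => ?_⟩ <;> obtain ⟨i, k, hk, rfl⟩ := hUdec u hu
      · rw [← hθ1, map_commutatorElement, commutatorElement_eq_one_iff_commute, map_mul, map_zpow]
        refine Commute.mul_right (Commute.zpow_right ?_ i) (hKc x hx k hk)
        rw [← commutatorElement_eq_one_iff_commute, ← map_commutatorElement, hθ1]
        exact ((hR₂ x).1 (hRE.ge hx)).2
      · rw [← hθ1, map_pow, map_mul, map_zpow, ((hKc c (h.le hcU) k hk).zpow_left i).mul_pow, hKe k hk,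
          mul_one, ← zpow_natCast, ← zpow_mul, mul_comm, zpow_mul, zpow_natCast, hcL, one_zpow]
    have hKb : K ≤ ⊥ := le_of_le_sup (E := E) hG bot_le fun X _ _ hXc hXp =>
      hKL.trans (hL ▸ layer_le_iff.2 ⟨hXc, hXp⟩)
    have hUp : Nat.card U = p := by
      refine le_antisymm ?_ ?_
      · simpa [le_bot_iff.1 hKb] using hUcard
      · simpa [le_bot_iff.1 hKb] using mul_card_le_of_lt hG hKU'
    refine ⟨fun x hx => Subgroup.mem_bot.1 (hKb (hpK x hx)),
      Or.inr ⟨⟨a, ha, b, hb, fun e => hcK (by rw [hc', e]; exact K.one_mem)⟩, ?_⟩⟩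
    rw [h.card, hUp]; ring
  -- the special shape
  obtain ⟨W, hW⟩ : ∃ W, W = layer p U U := ⟨_, rfl⟩
  have hWL : W ≤ L := by
    rw [hW]
    refine layer_le_iff.2 ⟨fun u hu v hv => ?_, fun u hu => ?_⟩
    · rw [← hθ1, map_commutatorElement, commutatorElement_eq_one_iff_commute]
      obtain ⟨i, k, hk, rfl⟩ := hUdec u hu
      obtain ⟨j, k', hk', rfl⟩ := hUdec v hv
      simp only [map_mul, map_zpow]
      exact (((Commute.refl _).zpow_zpow i j).mul_right ((hKc c (h.le hcU) k' hk').zpow_left i)).mul_left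
        (((hKc c (h.le hcU) k hk).zpow_left j).symm.mul_right (hKc k (h.le (hKU hk)) k' hk'))
    · obtain ⟨i, k, hk, rfl⟩ := hUdec u hu
      rw [← hθ1, map_pow, map_mul, map_zpow, ((hKc c (h.le hcU) k hk).zpow_left i).mul_pow, hKe k hk,
        mul_one, ← zpow_natCast, ← zpow_mul, mul_comm, zpow_mul, zpow_natCast, hcL, one_zpow]
  -- `E / U` embeds in `K / L`
  have hcardK : Nat.card L * p ^ 2 ≤ Nat.card K := by
    rw [card_eq_mul_map hLK, ← hθ]
    refine Nat.mul_le_mul_left _ ?_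
    haveI : (U.subgroupOf E).Normal := h.normalU.subgroupOf _
    obtain ⟨g, hg⟩ : ∃ g : E →* G ⧸ L, ∀ x : E, g x = θ ⁅(x : G), c⁆ :=
      ⟨MonoidHom.mk' (fun x => θ ⁅(x : G), c⁆) fun x y => by
        rw [Subgroup.coe_mul, show ⁅(x : G) * y, c⁆ = x * ⁅(y : G), c⁆ * (x : G)⁻¹ * ⁅(x : G), c⁆ by
          simp only [commutatorElement_def]; group, map_mul, map_mul, map_mul, map_inv,
          (hKc x x.2 _ (hcK' y y.2)).eq, mul_inv_cancel_right]
        exact (hKc _ (h.le (hKU (hcK' y y.2))) _ (hcK' x x.2)).eq, fun x => rfl⟩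
    have hker : g.ker = U.subgroupOf E := by
      ext x
      rw [MonoidHom.mem_ker, hg, hθ1, Subgroup.mem_subgroupOf, ← hRU, hR₂]
      simp [x.2]
    have h1 : g.ker.index = p ^ 2 := by
      rw [hker]
      have := (U.subgroupOf E).card_mul_index
      rw [Nat.card_congr (Subgroup.subgroupOfEquivOfLe h.le).toEquiv, h.card, mul_comm (p ^ 2)] at this
      exact Nat.eq_of_mul_eq_mul_left Nat.card_pos this
    rw [Subgroup.index_ker] at h1
    rw [← h1]
    refine Subgroup.card_le_of_le ?_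
    rintro _ ⟨x, rfl⟩
    exact ⟨⁅(x : G), c⁆, hcK' x x.2, (hg x).symm⟩
  have hLW : L ≤ W := by
    refine (Subgroup.eq_of_le_of_card_ge hWL ?_).ge
    have h1 : Nat.card U ≤ p ^ 3 * Nat.card W :=
      card_le_rank hsr (hW ▸ layer_le h.normalU)
        (fun x _ w hw => (hW ▸ layer_normal_of h.normalU h.normalU : W.Normal).conj_mem w hw x)
        (fun x hx y hy => hW ▸ comm_mem_layer hx hy) fun x hx => hW ▸ pow_mem_layer hx
    have h2 := (Nat.mul_le_mul_right p hcardK).trans ((mul_card_le_of_lt hG hKU').trans h1)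
    refine Nat.le_of_mul_le_mul_left ?_ (pow_pos hp.out.pos 3)
    calc p ^ 3 * Nat.card L = Nat.card L * p ^ 2 * p := by ring
      _ ≤ _ := h2
  have hUKcent : ∀ x, ∀ u ∈ U, ⁅x, u⁆ ∈ K := fun x u hu => comm_mem_of_card hG h.normalU hKn hKU hUcard x hu
  refine Or.inr ⟨h, ?_, ?_, ?_, hA ▸ hUA, ?_, ⟨s, b, hb, hsb⟩⟩
  · rw [← hK, mul_comm]; exact le_antisymm hUcard (mul_card_le_of_lt hG hKU')
  · intro x hx k hk
    rw [← hW]
    exact hLW (hL ▸ comm_mem_layer hx (hK ▸ hk))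
  · intro x hxE
    by_contra hno
    push Not at hno
    rw [← hW, ← hK] at hno
    have hxK : ∀ k ∈ K, θ x * θ k * (θ x)⁻¹ = θ k := fun k hk => by
      have := (hθ1 _).2 (hWL (hno k hk))
      rwa [map_commutatorElement, commutatorElement_def, mul_inv_eq_one] at this
    have hxE' : ∀ e ∈ E, ⁅x, e⁆ ∈ U := fun e he => hRU.le <| by
      have hmem : x * e * x⁻¹ ∈ E := h.normalE.conj_mem e he x
      obtain ⟨k₁, hk₁, hxc⟩ : ∃ k₁ ∈ K, x * c * x⁻¹ = c * k₁ := by
        refine ⟨c⁻¹ * (x * c * x⁻¹), ?_, by rw [mul_inv_cancel_left]⟩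
        rw [show c⁻¹ * (x * c * x⁻¹) = c⁻¹ * ⁅x, c⁆ * c⁻¹⁻¹ by rw [commutatorElement_def]; group]
        exact hKn.conj_mem _ (hUKcent x c hcU) c⁻¹
      have hde : θ ⁅x * e * x⁻¹, c⁆ = θ ⁅e, c⁆ := by
        have e1 : θ ⁅x * e * x⁻¹, x * c * x⁻¹⁆ = θ ⁅e, c⁆ := by
          rw [show ⁅x * e * x⁻¹, x * c * x⁻¹⁆ = x * ⁅e, c⁆ * x⁻¹ by simp only [commutatorElement_def]; group,
            map_mul, map_mul, map_inv]
          exact hxK _ (hcK' e he)
        rw [hxc, show ⁅x * e * x⁻¹, c * k₁⁆ = ⁅x * e * x⁻¹, c⁆ * (c * ⁅x * e * x⁻¹, k₁⁆ * c⁻¹) by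
          simp only [commutatorElement_def]; group, map_mul, map_mul, map_mul,
          (hθ1 ⁅x * e * x⁻¹, k₁⁆).2 (by rw [hL]; exact comm_mem_layer hmem hk₁), mul_one, map_inv, mul_inv_cancel, mul_one] at e1
        exact e1
      have hxe : ⁅x, e⁆ ∈ E := by rw [commutatorElement_def]; exact E.mul_mem hmem (E.inv_mem he)
      refine (hR₂ _).2 ⟨hxe, ?_⟩
      have h2 : θ ⁅⁅x, e⁆ * e, c⁆ = θ ⁅⁅x, e⁆, c⁆ * θ ⁅e, c⁆ := by
        rw [show ⁅⁅x, e⁆ * e, c⁆ = ⁅x, e⁆ * ⁅e, c⁆ * ⁅x, e⁆⁻¹ * ⁅⁅x, e⁆, c⁆ by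
          simp only [commutatorElement_def]; group, map_mul, map_mul, map_mul, map_inv,
          (hKc _ hxe _ (hcK' e he)).eq, mul_inv_cancel_right,
          (hKc _ (h.le (hKU (hcK' e he))) _ (hcK' _ hxe)).eq]
      rw [show ⁅x, e⁆ * e = x * e * x⁻¹ by rw [commutatorElement_def]; group, hde] at h2
      rw [← hθ1]
      exact right_eq_mul.1 h2
    have htop : ∀ g : G, ⁅g, b⁆ ∈ U := by
      haveI := h.normalE
      have hc1 : Nat.card (G ⧸ E) = p := by rw [← Subgroup.index_eq_card, h.index]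
      intro g
      obtain ⟨i, hi⟩ := Subgroup.mem_zpowers_iff.1 (mem_zpowers_of_prime_card (g' := QuotientGroup.mk' E g) hc1
        (show QuotientGroup.mk' E x ≠ 1 from fun e => hxE ((QuotientGroup.eq_one_iff x).1 e)))
      have h2 : (x ^ i)⁻¹ * g ∈ E := QuotientGroup.eq.1 (show QuotientGroup.mk' E (x ^ i) = _ by
        rw [map_zpow]; exact hi)
      have hcx : Commute (QuotientGroup.mk' U (x ^ i)) (QuotientGroup.mk' U b) := by
        rw [map_zpow]
        exact (commutatorElement_eq_one_iff_commute.1 (by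
          rw [← map_commutatorElement]; exact (QuotientGroup.eq_one_iff _).2 (hxE' b hb))).zpow_left i
      have hce : Commute (QuotientGroup.mk' U ((x ^ i)⁻¹ * g)) (QuotientGroup.mk' U b) :=
        commutatorElement_eq_one_iff_commute.1 (by
          rw [← map_commutatorElement]; exact (QuotientGroup.eq_one_iff _).2 (h.comm _ h2 b hb))
      have h3 := hcx.mul_left hce
      rw [← map_mul, mul_inv_cancel_left] at h3
      rw [← QuotientGroup.eq_one_iff, ← QuotientGroup.mk'_apply, map_commutatorElement]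
      exact commutatorElement_eq_one_iff_commute.2 h3
    exact hsb (htop s)
  · -- exponent modulo `U`
    obtain ⟨ψ, hψ⟩ : ∃ ψ, ψ = QuotientGroup.mk' U := ⟨_, rfl⟩
    have hψ1 : ∀ x, ψ x = 1 ↔ x ∈ U := fun x => hψ ▸ QuotientGroup.eq_one_iff x
    have hsp : s ^ p ∈ U := by
      obtain ⟨d, hd'⟩ : ∃ d, d = ⁅s, a⁆ := ⟨_, rfl⟩
      have hdU : d ∈ U := hd' ▸ hAcent s a haA
      have hdc : ∀ x ∈ E, Commute (π x) (π d) := fun x hx => hπ ▸ dK.commute hx hdU
      have hsd : π s * π d * (π s)⁻¹ = π d := by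
        rw [← map_inv, ← map_mul, ← map_mul, ← mul_inv_eq_one, ← map_inv, ← map_mul, hπ1]
        exact hUKcent s d hdU
      have hit : ∀ n : ℕ, π s ^ n * π b * (π s ^ n)⁻¹ = π a ^ n * π d ^ n.choose 2 * π b := by
        intro n
        induction n with
        | zero => simp
        | succ n ih =>
          rw [pow_succ', show π s * π s ^ n * π b * (π s * π s ^ n)⁻¹ =
            π s * (π s ^ n * π b * (π s ^ n)⁻¹) * (π s)⁻¹ by group, ih,
            show π s * (π a ^ n * π d ^ n.choose 2 * π b) * (π s)⁻¹ = (π s * π a ^ n * (π s)⁻¹) *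
              (π s * π d ^ n.choose 2 * (π s)⁻¹) * (π s * π b * (π s)⁻¹) by group,
            ← conj_pow, ← conj_pow, hsd,
            show π s * π a * (π s)⁻¹ = π d * π a by
              rw [hd', map_commutatorElement, commutatorElement_def]; group,
            show π s * π b * (π s)⁻¹ = π a * π b by
              rw [ha', map_commutatorElement, commutatorElement_def]; group, (hdc a ha).symm.mul_pow,
            show Nat.choose (n + 1) 2 = n + n.choose 2 by rw [Nat.choose_succ_succ, Nat.choose_one_right],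
            pow_succ, pow_add, show π d ^ n * π a ^ n * π d ^ n.choose 2 * (π a * π b) =
              (π d ^ n * π a ^ n) * (π d ^ n.choose 2 * π a) * π b by group,
            ((hdc a ha).symm.pow_pow n n).eq, ((hdc a ha).symm.pow_left (n.choose 2)).eq,
            show π a ^ n * π d ^ n * (π a * π d ^ n.choose 2) = π a ^ n * (π d ^ n * π a) * π d ^ n.choose 2 by group,
            ((hdc a ha).symm.pow_left n).eq]
          group
      obtain ⟨j, hj⟩ := hp.out.dvd_choose_self (by norm_num : 2 ≠ 0) (by omega : 2 < p)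
      have h1 := hit p
      rw [hj, pow_mul (π d), show π d ^ p = 1 by rw [← map_pow, hπ1]; exact hK ▸ pow_mem_layer hdU, one_pow,
        show π a ^ p = 1 by rw [← map_pow, hπ1]; exact hpK a ha, one_mul, one_mul, ← map_pow,
        mul_inv_eq_iff_eq_mul] at h1
      have hcomm : ⁅s ^ p, b⁆ ∈ K := by
        rw [← hπ1, map_commutatorElement, commutatorElement_eq_one_iff_mul_comm]; exact h1
      by_contra hne
      -- then `a` would commute with `b` modulo `K`
      have hT : Subgroup.zpowers (s ^ p) ⊔ U = A := by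
        refine Subgroup.eq_of_le_of_card_ge (sup_le (Subgroup.zpowers_le.2 (hAp s)) hUA) ?_
        exact hAcard ▸ mul_card_le_of_lt hG (lt_of_le_of_ne le_sup_right fun e =>
          hne (e.ge (Subgroup.mem_sup_left (Subgroup.mem_zpowers _))))
      have hle : Subgroup.zpowers (s ^ p) ⊔ U ≤ (Subgroup.centralizer ({π b} : Set (G ⧸ K))).comap π := by
        refine sup_le (Subgroup.zpowers_le.2 ?_) fun u hu => ?_ <;>
          rw [Subgroup.mem_comap, Subgroup.mem_centralizer_singleton_iff]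
        · exact h1
        · exact (hπ ▸ dK.commute hb hu).eq.symm
      have := hle (hT.ge haA)
      rw [Subgroup.mem_comap, Subgroup.mem_centralizer_singleton_iff, ← commutatorElement_eq_one_iff_mul_comm,
        ← map_commutatorElement, hπ1, ← hc'] at this
      exact hcK this
    intro x
    haveI := h.normalE
    have hc1 : Nat.card (G ⧸ E) = p := by rw [← Subgroup.index_eq_card, h.index]
    obtain ⟨i, hi⟩ := Subgroup.mem_zpowers_iff.1 (mem_zpowers_of_prime_card (g' := QuotientGroup.mk' E x) hc1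
      (show QuotientGroup.mk' E s ≠ 1 from fun e => hsb (h.comm s ((QuotientGroup.eq_one_iff s).1 e) b hb)))
    have h2 : (s ^ i)⁻¹ * x ∈ E := QuotientGroup.eq.1 (show QuotientGroup.mk' E (s ^ i) = _ by
      rw [map_zpow]; exact hi)
    obtain ⟨e, he, hxe⟩ : ∃ e ∈ E, x = s ^ i * e := ⟨_, h2, by rw [mul_inv_cancel_left]⟩
    rw [← hψ1, map_pow, hxe, map_mul, map_zpow]
    rw [Solv.mul_pow_prime_of_comm hp.out hp2 (c := ψ ⁅e⁻¹, (s ^ i)⁻¹⁆) ?_ ?_ ?_ ?_]
    · rw [← map_zpow, ← map_pow, ← map_pow, (hψ1 _).2 (h.pow e he), mul_one, hψ1,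
        ← zpow_natCast, ← zpow_mul, mul_comm, zpow_mul, zpow_natCast]
      exact U.zpow_mem hsp i
    · rw [map_commutatorElement, map_inv, map_inv, map_zpow, commutatorElement_def]; group
    · rw [← map_zpow]
      refine commutatorElement_eq_one_iff_commute.1 ?_
      rw [← map_commutatorElement, hψ1, ← commutatorElement_inv]
      exact U.inv_mem (hAcent _ _ (hAc _ _))
    · refine commutatorElement_eq_one_iff_commute.1 ?_
      rw [← map_commutatorElement, hψ1, ← commutatorElement_inv]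
      exact U.inv_mem (hAcent _ _ (hAc _ _))
    · rw [← map_pow, hψ1]
      exact h.pow _ (hAE (hAc _ _))

end Pair

namespace Special

variable {E U : Subgroup G} (h : Special p E U)
include h

theorem map_equiv (g : MulAut G) : Special p (E.map g.toMonoidHom) (U.map g.toMonoidHom) := by
  have hlay : ∀ A B : Subgroup G, (layer p A B).map g.toMonoidHom =
      layer p (A.map g.toMonoidHom) (B.map g.toMonoidHom) := by
    intro A B
    rw [layer, layer, MonoidHom.map_closure, Set.image_union]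
    congr 2
    · ext z
      constructor
      · rintro ⟨_, ⟨x, hx, y, hy, rfl⟩, rfl⟩
        exact ⟨_, ⟨x, hx, rfl⟩, _, ⟨y, hy, rfl⟩, (map_commutatorElement _ _ _).symm⟩
      · rintro ⟨_, ⟨x, hx, rfl⟩, _, ⟨y, hy, rfl⟩, rfl⟩
        exact ⟨_, ⟨x, hx, y, hy, rfl⟩, map_commutatorElement _ _ _⟩
    · ext z
      constructor
      · rintro ⟨_, ⟨y, hy, rfl⟩, rfl⟩
        exact ⟨_, ⟨y, hy, rfl⟩, (map_pow _ _ _).symm⟩
      · rintro ⟨_, ⟨y, hy, rfl⟩, rfl⟩
        exact ⟨_, ⟨y, hy, rfl⟩, map_pow _ _ _⟩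
  have hcard : ∀ A : Subgroup G, Nat.card (A.map g.toMonoidHom) = Nat.card A := fun A =>
    Subgroup.card_map_of_injective g.injective
  refine ⟨⟨h.normalE.map _ g.surjective, h.normalU.map _ g.surjective, Subgroup.map_mono h.le, ?_, ?_, ?_, ?_, ?_⟩,
    ?_, ?_, ?_, ?_, ?_, ?_⟩
  · rintro _ ⟨x, hx, rfl⟩; exact ⟨x ^ p, h.pow x hx, map_pow _ _ _⟩
  · rintro _ ⟨x, hx, rfl⟩ _ ⟨y, hy, rfl⟩; exact ⟨⁅x, y⁆, h.comm x hx y hy, map_commutatorElement _ _ _⟩
  · intro N hp' hc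
    rw [Subgroup.map_le_iff_le_comap]
    refine h.min _ (fun x hx => ?_) fun x hx y hy => ?_
    · rw [Subgroup.mem_comap, map_pow]; exact hp' _ ⟨x, hx, rfl⟩
    · rw [Subgroup.mem_comap, map_commutatorElement]; exact hc _ ⟨x, hx, rfl⟩ _ ⟨y, hy, rfl⟩
  · rw [hcard, hcard, h.card]
  · rw [Subgroup.index_map_of_bijective g.bijective, h.index]
  · rw [← hlay, hcard, hcard, h.step]
  · rintro _ ⟨x, hx, rfl⟩ k hk
    rw [← hlay] at hk ⊢
    obtain ⟨k, hk, rfl⟩ := hk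
    exact ⟨⁅x, k⁆, h.cent x hx k hk, map_commutatorElement _ _ _⟩
  · intro x hx
    obtain ⟨y, rfl⟩ := g.surjective x
    obtain ⟨k, hk, hn⟩ := h.faith y fun e => hx ⟨y, e, rfl⟩
    refine ⟨g k, hlay E U ▸ ⟨k, hk, rfl⟩, fun e => hn ?_⟩
    rw [← hlay, ← show g ⁅y, k⁆ = ⁅g y, g k⁆ from map_commutatorElement g.toMonoidHom y k] at e
    obtain ⟨w, hw, hwe⟩ := e
    exact g.injective hwe ▸ hw
  · rintro _ ⟨x, hx, rfl⟩; exact frattini_map_mem g (h.U_le hx)
  · intro x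
    obtain ⟨y, rfl⟩ := g.surjective x
    exact ⟨y ^ p, h.expU y, map_pow _ _ _⟩
  · obtain ⟨x, e, he, hxe⟩ := h.nt
    refine ⟨g x, g e, ⟨e, he, rfl⟩, fun hm => hxe ?_⟩
    rw [← show g ⁅x, e⁆ = ⁅g x, g e⁆ from map_commutatorElement g.toMonoidHom x e] at hm
    obtain ⟨w, hw, hwe⟩ := hm
    exact g.injective hwe ▸ hw

/-- There is only one subgroup of the special shape. -/
theorem unique [Finite G] (hG : IsPGroup p G) {M U' : Subgroup G} (h' : Special p M U') : E = M := by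
  by_contra hne
  haveI := h.normalU
  have hcard : Nat.card E = Nat.card M := by
    have h1 := E.card_mul_index
    have h2 := M.card_mul_index
    rw [h.index] at h1
    rw [h'.index, ← h1] at h2
    exact (Nat.eq_of_mul_eq_mul_right hp.out.pos h2).symm
  obtain ⟨x, hxM, hxE⟩ := SetLike.not_le_iff_exists.1 fun hle : M ≤ E =>
    hne (Subgroup.eq_of_le_of_card_ge hle hcard.le).symm
  have hUU : Nat.card U = Nat.card U' := by
    have := h.card.symm.trans (hcard.trans h'.card)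
    exact Nat.eq_of_mul_eq_mul_left (pow_pos hp.out.pos 2) this
  have hAM : frattini G ≤ M := by
    haveI := h'.normalE
    refine Solv.frattini_le (p := p) M (fun x y => ?_) fun x => h'.index ▸ M.pow_index_mem x
    have hc : Nat.card (G ⧸ M) = p := by rw [← Subgroup.index_eq_card, h'.index]
    haveI : IsCyclic (G ⧸ M) := isCyclic_of_prime_card hc
    rw [← QuotientGroup.eq_one_iff, ← QuotientGroup.mk'_apply, map_commutatorElement,
      commutatorElement_eq_one_iff_mul_comm]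
    exact (IsCyclic.commGroup (α := G ⧸ M)).mul_comm _ _
  have hUM : U ≤ M := h.U_le.trans hAM
  have hMc : ∀ x ∈ M, ∀ y ∈ M, ⁅x, y⁆ ∈ U := by
    intro x hx y hy
    have hq : Nat.card (M.map (QuotientGroup.mk' U)) = p ^ 2 := by
      have h1 := card_eq_mul_map hUM
      rw [← hcard, h.card, mul_comm] at h1
      exact (Nat.eq_of_mul_eq_mul_left Nat.card_pos h1).symm
    have := IsPGroup.commutative_of_card_eq_prime_sq hq
    rw [← QuotientGroup.eq_one_iff, ← QuotientGroup.mk'_apply, map_commutatorElement,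
      commutatorElement_eq_one_iff_mul_comm]
    exact congrArg Subtype.val
      (this ⟨_, Subgroup.mem_map_of_mem _ hx⟩ ⟨_, Subgroup.mem_map_of_mem _ hy⟩)
  obtain rfl : U' = U :=
    Subgroup.eq_of_le_of_card_ge (h'.min U (fun x _ => h.expU x) hMc) hUU.le
  obtain ⟨K, hK⟩ : ∃ K, K = layer p E U' := ⟨_, rfl⟩
  have hKn : K.Normal := hK ▸ layer_normal_of h.normalE h.normalU
  have hKK : layer p M U' = K := by
    refine Subgroup.eq_of_le_of_card_ge (layer_le_iff.2 ⟨fun y _ u hu => ?_, fun u hu => hK ▸ pow_mem_layer hu⟩) ?_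
    · exact comm_mem_of_card hG h.normalU hKn (hK ▸ layer_le h.normalU)
        (by rw [h.step, ← hK, mul_comm]) y hu
    · have := h.step.symm.trans h'.step
      rw [← hK] at this
      exact (Nat.eq_of_mul_eq_mul_left hp.out.pos this).le
  obtain ⟨k, hk, hxk⟩ := h.faith x hxE
  exact hxk (h'.cent x hxM k (hKK.ge (hK ▸ hk)))

end Special

end Cfsg.Agent.Local.FS.RankThreeNormal
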