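import Mathlib
import Cfsg.Prelude.Def_CaseTheorems
import Cfsg.Agent.Lib.Solv.PGroupPhi
import Cfsg.Agent.Lib.Solv.Kulakoff

/-!
Elementary tools for sections of class two inside a `p`-group: exponents in `ZMod p`, bilinearity of
commutators, additivity of the `p`-th power, and a lemma on eigenvalues.
-/

set_option autoImplicit false

open scoped commutatorElement

namespace Cfsg.Agent.Local.FS.RankThreeNormal

variable {p : ℕ} [hp : Fact p.Prime]

/-- Power with exponent in `ZMod p`. -/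
def pw {H : Type*} [Monoid H] (x : H) (i : ZMod p) : H := x ^ i.val

section Pw

variable {H : Type*} [Monoid H] {x y : H}

theorem pw_natCast (hx : x ^ p = 1) (n : ℕ) : pw x (n : ZMod p) = x ^ n := by
  rw [pw, ZMod.val_natCast]
  conv_rhs => rw [← Nat.mod_add_div n p, pow_add, pow_mul, hx, one_pow, mul_one]

theorem pw_zero (x : H) : pw x (0 : ZMod p) = 1 := by simp [pw]

theorem pw_one_exp (x : H) : pw x (1 : ZMod p) = x := by simp [pw, ZMod.val_one]

theorem one_pw (i : ZMod p) : pw (1 : H) i = 1 := one_pow _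

theorem pw_pow_prime (hx : x ^ p = 1) (i : ZMod p) : pw x i ^ p = 1 := by
  rw [pw, ← pow_mul, mul_comm, pow_mul, hx, one_pow]

theorem pw_add (hx : x ^ p = 1) (i j : ZMod p) : pw x (i + j) = pw x i * pw x j := by
  conv_lhs => rw [← ZMod.natCast_zmod_val i, ← ZMod.natCast_zmod_val j, ← Nat.cast_add, pw_natCast hx]
  rw [pow_add]; rfl

theorem pw_mul (hx : x ^ p = 1) (i j : ZMod p) : pw (pw x i) j = pw x (i * j) := by
  conv_rhs => rw [← ZMod.natCast_zmod_val i, ← ZMod.natCast_zmod_val j, ← Nat.cast_mul, pw_natCast hx]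
  rw [pow_mul]; rfl

theorem mul_pw (h : Commute x y) (i : ZMod p) : pw (x * y) i = pw x i * pw y i := h.mul_pow _

theorem commute_pw {i j : ZMod p} (h : Commute x y) : Commute (pw x i) (pw y j) := h.pow_pow _ _

end Pw

theorem pw_neg {H : Type*} [Group H] {x : H} (hx : x ^ p = 1) (i : ZMod p) : pw x (-i) = (pw x i)⁻¹ := by
  refine eq_inv_of_mul_eq_one_left ?_
  rw [← pw_add hx, neg_add_cancel, pw_zero]

theorem pw_sub {H : Type*} [Group H] {x : H} (hx : x ^ p = 1) (i j : ZMod p) :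
    pw x (i - j) = pw x i * (pw x j)⁻¹ := by
  rw [sub_eq_add_neg, pw_add hx, pw_neg hx]

theorem pw_eq_one {H : Type*} [Group H] {x : H} (hx : x ^ p = 1) {i : ZMod p} (hi : i ≠ 0)
    (h : pw x i = 1) : x = 1 := by
  have h1 := pw_mul hx i i⁻¹
  rwa [h, one_pw, mul_inv_cancel₀ hi, pw_one_exp, eq_comm] at h1

theorem map_pw {H K : Type*} [Monoid H] [Monoid K] {F : Type*} [FunLike F H K] [MonoidHomClass F H K]
    (f : F) (x : H) (i : ZMod p) : f (pw x i) = pw (f x) i := map_pow f x _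

section Group

variable {G : Type*} [Group G]

/-- An elementary abelian section has order at most `p ^ k`. -/
theorem card_le_rank {k : ℕ} [Finite G] (hr : Cfsg.SectionalPRankLE p k G) {A B : Subgroup G}
    (hBA : B ≤ A) (hn : ∀ a ∈ A, ∀ b ∈ B, a * b * a⁻¹ ∈ B) (hc : ∀ x ∈ A, ∀ y ∈ A, ⁅x, y⁆ ∈ B)
    (hpow : ∀ x ∈ A, x ^ p ∈ B) : Nat.card A ≤ p ^ k * Nat.card B := by
  have hnorm : (B.subgroupOf A).Normal := ⟨fun n hn' t => hn t t.2 n hn'⟩
  have hc' : ∀ a b : A, ⁅a, b⁆ ∈ B.subgroupOf A := fun a b => hc a a.2 b b.2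
  have h := hr A (B.subgroupOf A) ⊤
    ⟨⟨fun a b => Subtype.ext (Solv.quotient_mul_comm _ hc' a.1 b.1)⟩⟩ (fun a _ => by
      obtain ⟨a, rfl⟩ := QuotientGroup.mk'_surjective (B.subgroupOf A) a
      rw [← map_pow]
      exact (QuotientGroup.eq_one_iff _).2 (hpow a a.2))
  rw [Subgroup.card_top] at h
  rw [Subgroup.card_eq_card_quotient_mul_card_subgroup (B.subgroupOf A),
    Nat.card_congr (Subgroup.subgroupOfEquivOfLe hBA).toEquiv]
  exact Nat.mul_le_mul_right _ h

/-- A section of class two: `U` contains the commutators of `E`, is centralised by `E` and has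
exponent `p` modulo the normal subgroup `N`. -/
structure Section (p : ℕ) (E U N : Subgroup G) : Prop where
  normal : N.Normal
  le : U ≤ E
  comm : ∀ x ∈ E, ∀ y ∈ E, ⁅x, y⁆ ∈ U
  cent : ∀ x ∈ E, ∀ u ∈ U, ⁅x, u⁆ ∈ N
  pow : ∀ u ∈ U, u ^ p ∈ N

namespace Section

variable {E U N : Subgroup G} (d : Section p E U N)
include d

omit hp in
/-- Membership in `N` as an equation in the quotient. -/
theorem mk_eq_one {x : G} : haveI := d.normal; QuotientGroup.mk' N x = 1 ↔ x ∈ N :=
  haveI := d.normal; QuotientGroup.eq_one_iff x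

omit hp in
theorem commute {x u : G} (hx : x ∈ E) (hu : u ∈ U) :
    haveI := d.normal; Commute (QuotientGroup.mk' N x) (QuotientGroup.mk' N u) := by
  haveI := d.normal
  exact commutatorElement_eq_one_iff_commute.1 (by
    rw [← map_commutatorElement]; exact d.mk_eq_one.2 (d.cent x hx u hu))

omit hp in
theorem pow_eq {u : G} (hu : u ∈ U) : haveI := d.normal; QuotientGroup.mk' N u ^ p = 1 := by
  haveI := d.normal
  rw [← map_pow]; exact d.mk_eq_one.2 (d.pow u hu)

omit hp in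
theorem comm_mul_left {x y z : G} (hx : x ∈ E) (hy : y ∈ E) (hz : z ∈ E) :
    haveI := d.normal
    QuotientGroup.mk' N ⁅x * y, z⁆ = QuotientGroup.mk' N ⁅x, z⁆ * QuotientGroup.mk' N ⁅y, z⁆ := by
  haveI := d.normal
  rw [show ⁅x * y, z⁆ = x * ⁅y, z⁆ * x⁻¹ * ⁅x, z⁆ by simp only [commutatorElement_def]; group,
    map_mul, map_mul, map_mul, map_inv, (d.commute hx (d.comm y hy z hz)).eq, mul_inv_cancel_right,
    (d.commute (d.le (d.comm y hy z hz)) (d.comm x hx z hz)).eq]

omit hp in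
theorem comm_mul_right {x y z : G} (hx : x ∈ E) (hy : y ∈ E) (hz : z ∈ E) :
    haveI := d.normal
    QuotientGroup.mk' N ⁅x, y * z⁆ = QuotientGroup.mk' N ⁅x, y⁆ * QuotientGroup.mk' N ⁅x, z⁆ := by
  haveI := d.normal
  rw [show ⁅x, y * z⁆ = ⁅x, y⁆ * (y * ⁅x, z⁆ * y⁻¹) by simp only [commutatorElement_def]; group,
    map_mul, map_mul, map_mul, map_inv, (d.commute hy (d.comm x hx z hz)).eq, mul_inv_cancel_right]

theorem mul_pow (hp2 : p ≠ 2) {x y : G} (hx : x ∈ E) (hy : y ∈ E) :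
    haveI := d.normal
    QuotientGroup.mk' N ((x * y) ^ p) = QuotientGroup.mk' N (x ^ p) * QuotientGroup.mk' N (y ^ p) := by
  haveI := d.normal
  have hc := d.comm _ (E.inv_mem hy) _ (E.inv_mem hx)
  rw [map_pow, map_pow, map_pow, map_mul]
  refine Solv.mul_pow_prime_of_comm hp.out hp2 (c := QuotientGroup.mk' N ⁅y⁻¹, x⁻¹⁆) ?_
    (d.commute hx hc).symm (d.commute hy hc).symm (d.pow_eq hc)
  rw [map_commutatorElement, map_inv, map_inv, commutatorElement_def]
  group

omit hp in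
/-- A subgroup between `N` and `U` is normalised by `E`. -/
theorem normal_between {D : Subgroup G} (hND : N ≤ D) (hDU : D ≤ U) :
    ∀ x ∈ E, ∀ y ∈ D, x * y * x⁻¹ ∈ D := by
  intro x hx y hy
  rw [show x * y * x⁻¹ = ⁅x, y⁆ * y by rw [commutatorElement_def]; group]
  exact D.mul_mem (hND (d.cent x hx y (hDU hy))) hy

end Section

/-- The smallest normal subgroup argument: `U` lies in any normal `J` with `U = J [E,U] U^p`. -/
theorem le_of_le_sup [Finite G] (hG : IsPGroup p G) {E U J : Subgroup G} [hJ : J.Normal] [hU : U.Normal]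
    (hJU : J ≤ U) (h : ∀ X : Subgroup G, X.Normal → J ≤ X → (∀ e ∈ E, ∀ u ∈ U, ⁅e, u⁆ ∈ X) →
      (∀ u ∈ U, u ^ p ∈ X) → U ≤ X) : U ≤ J := by
  classical
  by_contra hne
  obtain ⟨X, ⟨hJX, hXU, hXn, hX⟩, hmax⟩ := Set.exists_max_image
    {X : Subgroup G | J ≤ X ∧ X ≤ U ∧ X.Normal ∧ ¬ U ≤ X} (fun X : Subgroup G => Nat.card X)
    (Set.toFinite _) ⟨J, le_rfl, hJU, hJ, hne⟩
  haveI := hXn
  haveI : (U.map (QuotientGroup.mk' X)).Normal := hU.map _ (QuotientGroup.mk'_surjective X)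
  obtain ⟨z, hzU, hzC, hzo⟩ := Solv.exists_central_order (hG.to_quotient X) (U.map (QuotientGroup.mk' X))
    (fun h0 => hX (by rw [Subgroup.map_eq_bot_iff, QuotientGroup.ker_mk'] at h0; exact h0))
  haveI hzn : (Subgroup.zpowers z).Normal := Solv.normal_of_le_center' (Subgroup.zpowers_le.2 hzC)
  obtain ⟨Y, hY⟩ : ∃ Y, Y = (Subgroup.zpowers z).comap (QuotientGroup.mk' X) := ⟨_, rfl⟩
  have hXY : X ≤ Y := fun x hx => hY ▸ Subgroup.mem_comap.2 (by
    rw [show QuotientGroup.mk' X x = 1 from (QuotientGroup.eq_one_iff x).2 hx]; exact one_mem _)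
  have hYU : Y ≤ U := fun y hy => by
    rw [hY, Subgroup.mem_comap] at hy
    obtain ⟨u, hu, he⟩ := Subgroup.zpowers_le.2 hzU hy
    have h1 : u⁻¹ * y ∈ X := QuotientGroup.eq.1 he
    simpa using U.mul_mem hu (hXU h1)
  have hYn : Y.Normal := hY ▸ hzn.comap _
  have hUY : U ≤ Y := by
    by_contra hc
    have h1 := Subgroup.eq_of_le_of_card_ge hXY (hmax Y ⟨hJX.trans hXY, hYU, hYn, hc⟩)
    have h2 : Subgroup.zpowers z = ⊥ := by
      rw [← Subgroup.map_comap_eq_self_of_surjective (QuotientGroup.mk'_surjective X) (Subgroup.zpowers z),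
        ← hY, ← h1, Subgroup.map_eq_bot_iff, QuotientGroup.ker_mk']
    rw [Subgroup.zpowers_eq_bot] at h2
    rw [h2, orderOf_one] at hzo
    exact hp.out.one_lt.ne hzo
  refine hX (h X hXn hJX (fun e _ u hu => ?_) fun u hu => ?_)
  · have h1 : QuotientGroup.mk' X u ∈ Subgroup.center (G ⧸ X) := by
      have := hUY hu
      rw [hY, Subgroup.mem_comap] at this
      exact (Subgroup.zpowers_le.2 hzC) this
    rw [← QuotientGroup.eq_one_iff, ← QuotientGroup.mk'_apply, map_commutatorElement,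
      commutatorElement_eq_one_iff_mul_comm]
    exact Subgroup.mem_center_iff.1 h1 _
  · have := hUY hu
    rw [hY, Subgroup.mem_comap] at this
    obtain ⟨i, hi⟩ := Subgroup.mem_zpowers_iff.1 this
    rw [← QuotientGroup.eq_one_iff, ← QuotientGroup.mk'_apply, map_pow, ← hi, ← zpow_natCast, ← zpow_mul,
      mul_comm, zpow_mul, zpow_natCast, ← hzo, pow_orderOf_eq_one, one_zpow]

/-- An element moved by an unexpected eigenvalue is trivial. -/
theorem eigen_zero {A : Subgroup G} (hcomm : ∀ x ∈ A, ∀ y ∈ A, Commute x y) (hexp : ∀ x ∈ A, x ^ p = 1)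
    (θ : G →* G) (hθ : ∀ x ∈ A, θ x ∈ A) (R : List (ZMod p)) {k : ZMod p} (hk : k ∉ R) :
    ∀ S : Set G, S ⊆ A → (∀ x ∈ S, x = 1 ∨ ∃ r ∈ R, θ x = pw x r) →
      ∀ y ∈ Subgroup.closure S, θ y = pw y k → y = 1 := by
  induction R with
  | nil =>
    intro S _ hev y hy _
    have hS : Subgroup.closure S ≤ ⊥ := (Subgroup.closure_le _).2 fun x hx => by
      rcases hev x hx with h | ⟨r, hr, -⟩
      · exact h
      · exact absurd hr List.not_mem_nil
    exact hS hy
  | cons r R ih =>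
    intro S hSA hev y hy hyk
    rw [List.mem_cons, not_or] at hk
    have hA : Subgroup.closure S ≤ A := (Subgroup.closure_le _).2 hSA
    obtain ⟨f, hf⟩ : ∃ f : G → G, f = fun x => θ x * (pw x r)⁻¹ := ⟨_, rfl⟩
    have hfA : ∀ x ∈ A, f x ∈ A := fun x hx => by
      rw [hf]; exact A.mul_mem (hθ x hx) (A.inv_mem (A.pow_mem hx _))
    have hpwA : ∀ x ∈ A, ∀ i : ZMod p, pw x i ∈ A := fun x hx i => A.pow_mem hx _
    have hfm : ∀ x ∈ A, ∀ x' ∈ A, f (x * x') = f x * f x' := fun x hx x' hx' => by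
      subst hf
      dsimp only
      rw [map_mul, mul_pw (hcomm x hx x' hx'), mul_inv_rev,
        (hcomm _ (A.inv_mem (hpwA x' hx' r)) _ (A.inv_mem (hpwA x hx r))).eq,
        show θ x * θ x' * ((pw x r)⁻¹ * (pw x' r)⁻¹) = θ x * (θ x' * (pw x r)⁻¹) * (pw x' r)⁻¹ by group,
        (hcomm _ (hθ x' hx') _ (A.inv_mem (hpwA x hx r))).eq]
      group
    have hθf : ∀ x ∈ A, ∀ s : ZMod p, θ x = pw x s → f x = pw x (s - r) ∧ θ (f x) = pw (f x) s := by
      intro x hx s hs
      have h1 : f x = pw x (s - r) := by subst hf; dsimp only; rw [hs, pw_sub (hexp x hx)]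
      refine ⟨h1, ?_⟩
      rw [h1, map_pw, hs, pw_mul (hexp x hx), pw_mul (hexp x hx), mul_comm]
    have h1 := ih hk.2 (f '' S) (fun z ⟨x, hx, hz⟩ => hz ▸ hfA x (hSA hx)) (fun z ⟨x, hx, hz⟩ => by
      subst hz
      rcases hev x hx with h | ⟨s, hs, hxs⟩
      · exact Or.inl (by subst hf; simp [h, one_pw])
      · obtain ⟨e1, e2⟩ := hθf x (hSA hx) s hxs
        rcases List.mem_cons.1 hs with rfl | hs
        · exact Or.inl (by rw [e1, sub_self, pw_zero])
        · exact Or.inr ⟨s, hs, e2⟩) (f y) (by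
      clear hyk
      induction hy using Subgroup.closure_induction with
      | mem x hx => exact Subgroup.subset_closure ⟨x, hx, rfl⟩
      | one => rw [show f 1 = 1 by subst hf; simp [one_pw]]; exact one_mem _
      | mul a b ha hb iha ihb =>
        rw [hfm a (hA ha) b (hA hb)]
        exact mul_mem iha ihb
      | inv a ha iha =>
        have e : f a⁻¹ = (f a)⁻¹ := eq_inv_of_mul_eq_one_left (by
          rw [← hfm _ (A.inv_mem (hA ha)) _ (hA ha), inv_mul_cancel]; subst hf; simp [one_pw])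
        rw [e]
        exact inv_mem iha) (hθf y (hA hy) k hyk).2
    obtain ⟨e1, -⟩ := hθf y (hA hy) k hyk
    rw [e1] at h1
    exact pw_eq_one (hexp y (hA hy)) (sub_ne_zero.2 hk.1) h1

end Group

end Cfsg.Agent.Local.FS.RankThreeNormal
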