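import Cfsg.Agent.Lib.Local.FS.RankThreeNormal.Moves

/-!
In the transvection case every automorphism of the group fixes the Frattini subgroup of `E` and the
preimage of the centre of `G` modulo it.
-/

set_option autoImplicit false

open scoped commutatorElement

namespace Cfsg.Agent.Local.FS.RankThreeNormal

variable {G : Type*} [Group G] {p : ℕ} [hp : Fact p.Prime]
variable {E U : Subgroup G} {a b c s : G} {co : G → ZMod p × ZMod p × ZMod p}

/-- The order of the preimage of a group of coordinate vectors. -/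
theorem Frame.card_sub (h : Frame p E U a b c s co) (W : AddSubgroup (ZMod p × ZMod p × ZMod p)) :
    Nat.card (h.sub W) = Nat.card W * Nat.card U := by
  let f : W × U → h.sub W := fun x => ⟨(x.2 : G) * Frame.rep a b c (x.1 : ZMod p × ZMod p × ZMod p),
    E.mul_mem (h.le x.2.2) (h.rep_mem _), by
      rw [h.add _ (h.le x.2.2) _ (h.rep_mem _), h.co_U x.2.2, zero_add, h.co_rep]; exact x.1.2⟩
  have hf : Function.Bijective f := by
    refine ⟨fun x y e => ?_, fun z => ?_⟩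
    · have e' : (x.2 : G) * Frame.rep a b c (x.1 : ZMod p × ZMod p × ZMod p) =
          (y.2 : G) * Frame.rep a b c (y.1 : ZMod p × ZMod p × ZMod p) := congrArg Subtype.val e
      have h1 := congrArg co e'
      rw [h.add _ (h.le x.2.2) _ (h.rep_mem _), h.add _ (h.le y.2.2) _ (h.rep_mem _), h.co_U x.2.2,
        h.co_U y.2.2, zero_add, zero_add, h.co_rep, h.co_rep] at h1
      rw [h1, mul_left_inj] at e'
      exact Prod.ext (Subtype.ext h1) (Subtype.ext e')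
    · exact ⟨(⟨co z, z.2.2⟩, ⟨_, h.mul_rep_inv z.2.1⟩), Subtype.ext (inv_mul_cancel_right (z : G) _)⟩
  rw [← Nat.card_eq_of_bijective f hf, Nat.card_prod]

theorem card_planeM : Nat.card (planeM p) = p * p := by
  have e : (planeM p) ≃ ZMod p × ZMod p :=
    { toFun := fun v => ((v : ZMod p × ZMod p × ZMod p).1, (v : ZMod p × ZMod p × ZMod p).2.1)
      invFun := fun v => ⟨(v.1, v.2, 0), rfl⟩
      left_inv := fun v => Subtype.ext (Prod.ext rfl (Prod.ext rfl v.2.symm))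
      right_inv := fun v => rfl }
  rw [Nat.card_congr e, Nat.card_prod, Nat.card_zmod]

theorem card_axisA : Nat.card (axisA p) = p := by
  have e : (axisA p) ≃ ZMod p :=
    { toFun := fun v => (v : ZMod p × ZMod p × ZMod p).1
      invFun := fun v => ⟨(v, 0, 0), rfl, rfl⟩
      left_inv := fun v => Subtype.ext (Prod.ext rfl (Prod.ext v.2.1.symm v.2.2.symm))
      right_inv := fun v => rfl }
  rw [Nat.card_congr e, Nat.card_zmod]

theorem card_midZero : Nat.card (midZero p) = p * p := by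
  have e : (midZero p) ≃ ZMod p × ZMod p :=
    { toFun := fun v => ((v : ZMod p × ZMod p × ZMod p).1, (v : ZMod p × ZMod p × ZMod p).2.2)
      invFun := fun v => ⟨(v.1, 0, v.2), rfl⟩
      left_inv := fun v => Subtype.ext (Prod.ext rfl (Prod.ext v.2.symm rfl))
      right_inv := fun v => rfl }
  rw [Nat.card_congr e, Nat.card_prod, Nat.card_zmod]

/-- The order of a subgroup containing a normal subgroup. -/
theorem card_eq_mul_map {K X : Subgroup G} [K.Normal] (hKX : K ≤ X) :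
    Nat.card X = Nat.card K * Nat.card (X.map (QuotientGroup.mk' K)) := by
  have h1 := Subgroup.card_mul_index ((QuotientGroup.mk' K).subgroupMap X).ker
  rw [Subgroup.index_ker, MonoidHom.range_eq_top.2 ((QuotientGroup.mk' K).subgroupMap_surjective X),
    Subgroup.card_top] at h1
  rw [← h1]
  congr 1
  have hker : ((QuotientGroup.mk' K).subgroupMap X).ker = K.subgroupOf X := by
    ext x
    rw [MonoidHom.mem_ker, Subgroup.mem_subgroupOf, Subtype.ext_iff]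
    exact QuotientGroup.eq_one_iff (x : G)
  rw [hker, Nat.card_congr (Subgroup.subgroupOfEquivOfLe hKX).toEquiv]

/-- The order of a map injective and multiplicative on a subgroup is that of its argument. -/
theorem orderOf_of_injOn {f : G → G} (hm : ∀ x ∈ E, ∀ x' ∈ E, f (x * x') = f x * f x')
    (hi : Set.InjOn f (E : Set G)) {x : G} (hx : x ∈ E) : orderOf (f x) = orderOf x := by
  refine orderOf_eq_orderOf_iff.2 fun n => ?_
  rw [← map_pow_of_mul hm hx]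
  exact ⟨fun e => hi (E.pow_mem hx n) E.one_mem (e.trans (map_one_of_mul hm).symm),
    fun e => by rw [e, map_one_of_mul hm]⟩

namespace Moves

variable {y : G → G} {t : MulAut G} {g₀ : ZMod p} (h : Frame p E U a b c s co)
  (m : Moves E a b c co y t g₀)
include h

theorem co_conj_s {x : G} (hx : x ∈ E) :
    co (s * x * s⁻¹) = ((co x).1 + (co x).2.1, (co x).2.1, (co x).2.2) := by
  rw [h.co_conj s hx, h.rot_s]
  ext <;> simp

include m

/-- A subgroup invariant under both transvections and meeting the plane contains the plane. -/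
theorem mem_of_invariant {X : Subgroup G} (hU : U ≤ X) (hs : ∀ x ∈ X, x ∈ E → s * x * s⁻¹ ∈ X)
    (hy : ∀ x ∈ X, x ∈ E → y x ∈ X) {x : G} (hxX : x ∈ X) (hxE : x ∈ E)
    (hne : (co x).1 ≠ 0 ∨ (co x).2.1 ≠ 0) : a ∈ X ∧ b ∈ X := by
  have hdiff : ∀ {u v : G}, u ∈ X → v ∈ X → u ∈ E → v ∈ E → ∀ {w : G}, w ∈ E → ∀ {r : ZMod p}, r ≠ 0 →
      co u - co v = r • co w → w ∈ X := by
    intro u v hu hv huE hvE w hw r hr e
    have hz : w * (((u * v⁻¹) ^ (r⁻¹).val))⁻¹ ∈ U := by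
      rw [← h.zero _ (E.mul_mem hw (E.inv_mem (E.pow_mem (E.mul_mem huE (E.inv_mem hvE)) _))),
        h.add _ hw _ (E.inv_mem (E.pow_mem (E.mul_mem huE (E.inv_mem hvE)) _)),
        h.co_inv (E.pow_mem (E.mul_mem huE (E.inv_mem hvE)) _),
        h.co_pow (E.mul_mem huE (E.inv_mem hvE)), h.add _ huE _ (E.inv_mem hvE), h.co_inv hvE,
        ← sub_eq_add_neg (co u), e, ← Nat.cast_smul_eq_nsmul (ZMod p), ZMod.natCast_zmod_val, smul_smul,
        inv_mul_cancel₀ hr, one_smul, add_neg_cancel]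
    simpa using X.mul_mem (hU hz) (X.pow_mem (X.mul_mem hu (X.inv_mem hv)) (r⁻¹).val)
  have hy' : ∀ {v : G}, v ∈ E → co (y v) - co v = (co v).1 • co b := fun {v} hv => by
    rw [co_y h m hv, h.co_b]; ext <;> simp
  have hs' : ∀ {v : G}, v ∈ E → co (s * v * s⁻¹) - co v = (co v).2.1 • co a := fun {v} hv => by
    rw [co_conj_s h hv, h.co_a]; ext <;> simp
  rcases hne with h1 | h2
  · have hb : b ∈ X := hdiff (hy x hxX hxE) hxX (m.y_mem x hxE) hxE h.bE h1 (hy' hxE)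
    refine ⟨hdiff (hs b hb h.bE) hb (h.conjMem s b h.bE) h.bE h.aE ?_ (hs' h.bE), hb⟩
    rw [h.co_b]; exact one_ne_zero
  · have ha : a ∈ X := hdiff (hs x hxX hxE) hxX (h.conjMem s x hxE) hxE h.aE h2 (hs' hxE)
    refine ⟨ha, hdiff (hy a ha h.aE) ha (m.y_mem a h.aE) h.aE h.bE ?_ (hy' h.aE)⟩
    rw [h.co_a]; exact one_ne_zero

/-- Modulo `[E, U] U^p`, powers and commutators with `c` of the plane have the same values. -/
theorem pow_eq_comm [Finite G] (hp5 : 5 ≤ p) (hsr : Cfsg.SectionalPRankLE p 3 G)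
    (hne : ∃ e ∈ E, ⁅e, c⁆ ∉ layer p E U) :
    (∀ e ∈ E, ∃ w ∈ E, (co w).2.2 = 0 ∧ ⁅e, c⁆ * (w ^ p)⁻¹ ∈ layer p E U) ∧
      ∀ w ∈ E, (co w).2.2 = 0 → ∃ e ∈ E, w ^ p * ⁅e, c⁆⁻¹ ∈ layer p E U := by
  have hp2 : p ≠ 2 := by omega
  obtain ⟨K, hK⟩ : ∃ K, K = layer p E U := ⟨_, rfl⟩
  rw [← hK] at hne ⊢
  have d : Section p E U K := hK ▸ h.isSection
  have hKU : K ≤ U := hK ▸ layer_le h.normalU
  haveI := d.normal
  obtain ⟨q, hq⟩ : ∃ q, q = QuotientGroup.mk' K := ⟨_, rfl⟩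
  have hq1 : ∀ x, q x = 1 ↔ x ∈ K := fun x => hq ▸ d.mk_eq_one
  obtain ⟨π, hπ⟩ : ∃ π : G → G ⧸ K, π = fun x => q (x ^ p) := ⟨_, rfl⟩
  obtain ⟨ν, hν⟩ : ∃ ν : G → G ⧸ K, ν = fun x => q ⁅x, c⁆ := ⟨_, rfl⟩
  have πm : ∀ x ∈ E, ∀ x' ∈ E, π (x * x') = π x * π x' := fun x hx x' hx' => by
    subst hπ; exact hq ▸ d.mul_pow hp2 hx hx'
  have νm : ∀ x ∈ E, ∀ x' ∈ E, ν (x * x') = ν x * ν x' := fun x hx x' hx' => by
    subst hν; exact hq ▸ d.comm_mul_left hx hx' h.cE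
  have πU : ∀ u ∈ U, π u = 1 := fun u hu => by subst hπ; exact (hq1 _).2 (d.pow u hu)
  have νU : ∀ u ∈ U, ν u = 1 := fun u hu => by
    subst hν
    show q ⁅u, c⁆ = 1
    rw [← commutatorElement_inv, map_inv, (hq1 _).2 (d.cent c h.cE u hu), inv_one]
  obtain ⟨A, hAd⟩ : ∃ A, A = U.map q := ⟨_, rfl⟩
  have hAc : ∀ {x y : G ⧸ K}, x ∈ A → y ∈ A → Commute x y := by
    intro x x' hx hx'
    rw [hAd] at hx hx'
    obtain ⟨u, hu, rfl⟩ := hx
    obtain ⟨v, hv, rfl⟩ := hx'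
    exact hq ▸ d.commute (h.le hu) hv
  have hAp : ∀ {x : G ⧸ K}, x ∈ A → x ^ p = 1 := by
    intro x hx
    rw [hAd] at hx
    obtain ⟨u, hu, rfl⟩ := hx
    exact hq ▸ d.pow_eq hu
  have πA : ∀ x ∈ E, π x ∈ A := fun x hx => by subst hπ hAd; exact ⟨_, h.pow x hx, rfl⟩
  have νA : ∀ x ∈ E, ν x ∈ A := fun x hx => by subst hν hAd; exact ⟨_, h.comm x hx c h.cE, rfl⟩
  have νc : ν c = 1 := by subst hν; simp
  -- the maps preserving the layer
  have hcK : ∀ {f : G → G}, (∀ x ∈ E, f x ∈ E) → (∀ x ∈ E, ∀ x' ∈ E, f (x * x') = f x * f x') →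
      co (f c) = co c → ∀ x ∈ E, q (f ⁅x, c⁆) = ν (f x) := by
    intro f hf hm hfc x hx
    have hu : c⁻¹ * f c ∈ U := by
      rw [← h.zero _ (E.mul_mem (E.inv_mem h.cE) (hf c h.cE)), h.add _ (E.inv_mem h.cE) _ (hf c h.cE),
        h.co_inv h.cE, hfc, neg_add_cancel]
    subst hν
    show q (f ⁅x, c⁆) = q ⁅f x, c⁆
    rw [map_comm_of_mul hm hx h.cE]
    conv_lhs => rw [show f c = c * (c⁻¹ * f c) by group]
    rw [show q ⁅f x, c * (c⁻¹ * f c)⁆ = q ⁅f x, c⁆ * q ⁅f x, c⁻¹ * f c⁆ from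
      hq ▸ d.comm_mul_right (hf x hx) h.cE (h.le hu), (hq1 _).2 (d.cent _ (hf x hx) _ hu), mul_one]
  have hfK : ∀ {f : G → G}, (∀ x ∈ E, f x ∈ E) → (∀ x ∈ E, ∀ x' ∈ E, f (x * x') = f x * f x') →
      ∀ {u v : G}, u ∈ U → v ∈ U → q u = q v → q (f u) = q (f v) := by
    intro f hf hm u v hu hv e
    have hmem : u * v⁻¹ ∈ K := by rw [← hq1, map_mul, map_inv, e, mul_inv_cancel]
    have := map_mem_layer h.le h.normalU hf hm (h.map_mem hf hm) (u * v⁻¹) (hK ▸ hmem)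
    rw [← hK, ← hq1, hm u (h.le hu) _ (E.inv_mem (h.le hv)), map_inv_of_mul hm (h.le hv), map_mul,
      map_inv, mul_inv_eq_one] at this
    exact this
  have hcs : co (s * c * s⁻¹) = co c := by rw [co_conj_s h h.cE, h.co_c]; simp
  have hcy : co (y c) = co c := by rw [m.y_c, h.co_c]
  have hsmul : ∀ x ∈ E, ∀ x' ∈ E, s * (x * x') * s⁻¹ = s * x * s⁻¹ * (s * x' * s⁻¹) := fun x _ x' _ => by group
  have νval : ∀ x ∈ E, ν x = pw (ν a) (co x).1 * pw (ν b) (co x).2.1 := fun x hx => by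
    rw [h.value νm νU hx, νc, one_pw, mul_one]
  -- kernels
  have hker : ∀ {f : G → G ⧸ K}, (∀ x ∈ E, ∀ x' ∈ E, f (x * x') = f x * f x') → (∀ u ∈ U, f u = 1) →
      (∀ x ∈ E, f x = 1 → f (s * x * s⁻¹) = 1) → (∀ x ∈ E, f x = 1 → f (y x) = 1) →
      ∀ x ∈ E, f x = 1 → ((co x).1 ≠ 0 ∨ (co x).2.1 ≠ 0) → f a = 1 ∧ f b = 1 := by
    intro f hm hU hs hy x hx hfx hne
    obtain ⟨X, hX⟩ : ∃ X : Subgroup G, ∀ z, z ∈ X ↔ z ∈ E ∧ f z = 1 :=
      ⟨{ carrier := {z | z ∈ E ∧ f z = 1}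
         one_mem' := ⟨E.one_mem, map_one_of_mul hm⟩
         mul_mem' := fun {u v} hu hv => ⟨E.mul_mem hu.1 hv.1, by rw [hm u hu.1 v hv.1, hu.2, hv.2, one_mul]⟩
         inv_mem' := fun {u} hu => ⟨E.inv_mem hu.1, by rw [map_inv_of_mul hm hu.1, hu.2, inv_one]⟩ },
        fun z => Iff.rfl⟩
    obtain ⟨ha, hb⟩ := mem_of_invariant h m (X := X) (fun u hu => (hX u).2 ⟨h.le hu, hU u hu⟩)
      (fun z hz hzE => (hX _).2 ⟨h.conjMem s z hzE, hs z hzE ((hX z).1 hz).2⟩)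
      (fun z hz hzE => (hX _).2 ⟨m.y_mem z hzE, hy z hzE ((hX z).1 hz).2⟩) ((hX x).2 ⟨hx, hfx⟩) hx hne
    exact ⟨((hX a).1 ha).2, ((hX b).1 hb).2⟩
  have πinv : ∀ {f : G → G}, (∀ x ∈ E, f x ∈ E) → (∀ x ∈ E, ∀ x' ∈ E, f (x * x') = f x * f x') →
      ∀ x ∈ E, π x = 1 → π (f x) = 1 := by
    intro f hf hm x hx e
    subst hπ
    have := hfK hf hm (h.pow x hx) U.one_mem (e.trans (map_one q).symm)
    rwa [map_pow_of_mul hm hx, map_one_of_mul hm, map_one] at this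
  have νinv : ∀ {f : G → G}, (∀ x ∈ E, f x ∈ E) → (∀ x ∈ E, ∀ x' ∈ E, f (x * x') = f x * f x') →
      co (f c) = co c → ∀ x ∈ E, ν x = 1 → ν (f x) = 1 := by
    intro f hf hm hfc x hx e
    rw [← hcK hf hm hfc x hx]
    subst hν
    have := hfK hf hm (h.comm x hx c h.cE) U.one_mem (e.trans (map_one q).symm)
    rwa [map_one_of_mul hm, map_one] at this
  have νinj : ∀ x ∈ E, ν x = 1 → (co x).1 = 0 ∧ (co x).2.1 = 0 := by
    intro x hx e
    by_contra hc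
    rw [not_and_or] at hc
    obtain ⟨ha, hb⟩ := hker νm νU (νinv (h.conjMem s) hsmul hcs) (νinv m.y_mem m.y_mul hcy) x hx e hc
    obtain ⟨e₀, he₀, hne₀⟩ := hne
    refine hne₀ ((hq1 _).1 ?_)
    have := νval e₀ he₀
    rw [ha, hb, one_pw, one_pw, mul_one] at this
    subst hν
    exact this
  -- the involution
  obtain ⟨g1, g2, g3, g4⟩ := g_facts h m hp5
  obtain ⟨hh, hhd⟩ : ∃ hh : MulAut G, hh = t ^ ((p - 1) / 2) := ⟨_, rfl⟩
  have hh_co : ∀ x ∈ E, hh x ∈ E ∧ co (hh x) = (-(co x).1, -(co x).2.1, (co x).2.2) := by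
    have key : ∀ n : ℕ, ∀ x ∈ E, (t ^ n) x ∈ E ∧
        co ((t ^ n) x) = (g₀ ^ n * (co x).1, (g₀ ^ n)⁻¹ * (co x).2.1, (co x).2.2) := by
      intro n
      induction n with
      | zero => intro x hx; simp [hx]
      | succ n ih =>
        intro x hx
        rw [pow_succ', MulAut.mul_apply]
        refine ⟨m.t_mem _ (ih x hx).1, ?_⟩
        rw [co_t h m (ih x hx).1, (ih x hx).2]
        ext <;> simp [pow_succ, mul_comm, mul_assoc, mul_left_comm]
    intro x hx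
    rw [hhd]
    refine ⟨(key _ x hx).1, ?_⟩
    rw [(key _ x hx).2, g4]
    simp
  -- rank
  have hcardU : Nat.card U = Nat.card K * Nat.card A := by rw [hAd, hq]; exact card_eq_mul_map hKU
  have hA1 : Nat.card (h.sub (axisA p)) = p * Nat.card U := by rw [h.card_sub, card_axisA]
  have hnorm : ∀ {W : AddSubgroup (ZMod p × ZMod p × ZMod p)} {B : Subgroup G}, K ≤ B → B ≤ U →
      ∀ x ∈ h.sub W, ∀ z ∈ B, x * z * x⁻¹ ∈ B := fun {W} {B} hKB hBU x hx =>
    d.normal_between hKB hBU x hx.1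
  have hπaxis : ∀ x ∈ h.sub (axisA p), π x = pw (π a) (co x).1 := fun x hx => by
    rw [h.value πm πU hx.1, hx.2.1, hx.2.2, pw_zero, pw_zero, mul_one, mul_one]
  have hcommA : ∀ x ∈ h.sub (axisA p), ∀ x' ∈ h.sub (axisA p), ⁅x, x'⁆ ∈ K := by
    intro x hx x' hx'
    rw [← hq1]
    have e1 : ∀ v ∈ h.sub (axisA p), ∀ f : G → G ⧸ K, (∀ x ∈ E, ∀ x' ∈ E, f (x * x') = f x * f x') →
        (∀ u ∈ U, f u = 1) → f v = pw (f a) (co v).1 := fun v hv f hm hU => by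
      rw [h.value hm hU hv.1, hv.2.1, hv.2.2, pw_zero, pw_zero, mul_one, mul_one]
    have h1 := e1 x hx (fun v => q ⁅v, x'⁆) (fun v hv v' hv' => hq ▸ d.comm_mul_left hv hv' hx'.1)
      (fun u hu => by
        show q ⁅u, x'⁆ = 1
        rw [← commutatorElement_inv, map_inv, (hq1 _).2 (d.cent x' hx'.1 u hu), inv_one])
    have h2 := e1 x' hx' (fun v => q ⁅a, v⁆) (fun v hv v' hv' => hq ▸ d.comm_mul_right h.aE hv hv')
      (fun u hu => (hq1 _).2 (d.cent a h.aE u hu))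
    rw [h1, h2, commutatorElement_self, map_one, one_pw, one_pw]
  have hπa : π a ≠ 1 := by
    intro e
    have hb1 : π b = 1 := (hker πm πU (πinv (h.conjMem s) hsmul) (πinv m.y_mem m.y_mul) a h.aE e
      (Or.inl (by rw [h.co_a]; exact one_ne_zero))).2
    have hU3 : p * Nat.card U ≤ p ^ 3 * Nat.card K := by
      rw [← hA1]
      refine card_le_rank hsr (hKU.trans (h.U_le_sub _)) (hnorm le_rfl hKU) hcommA fun x hx => ?_
      rw [← hq1]
      have := hπaxis x hx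
      rw [e, one_pw] at this
      subst hπ
      exact this
    have hA2 : Nat.card A ≤ p ^ 2 := by
      rw [hcardU] at hU3
      refine Nat.le_of_mul_le_mul_left ?_ (Nat.mul_pos hp.out.pos (Nat.card_pos (α := K)))
      calc p * Nat.card K * Nat.card A = p * (Nat.card K * Nat.card A) := by ring
        _ ≤ p ^ 3 * Nat.card K := hU3
        _ = p * Nat.card K * p ^ 2 := by ring
    obtain ⟨F, hF⟩ : ∃ F : ZMod p × ZMod p → A, ∀ v, (F v : G ⧸ K) = ν (Frame.rep a b c (v.1, v.2, 0)) :=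
      ⟨fun v => ⟨_, νA _ (h.rep_mem _)⟩, fun v => rfl⟩
    have hFinj : Function.Injective F := by
      intro v w e
      have e' : ν (Frame.rep a b c (v.1, v.2, 0)) = ν (Frame.rep a b c (w.1, w.2, 0)) := by
        rw [← hF, ← hF, e]
      have := νinj _ (E.mul_mem (h.rep_mem (v.1, v.2, 0)) (E.inv_mem (h.rep_mem (w.1, w.2, 0)))) (by
        rw [νm _ (h.rep_mem _) _ (E.inv_mem (h.rep_mem _)), map_inv_of_mul νm (h.rep_mem _), e', mul_inv_cancel])
      rw [h.add _ (h.rep_mem _) _ (E.inv_mem (h.rep_mem _)), h.co_inv (h.rep_mem _), h.co_rep, h.co_rep] at this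
      rw [← sub_eq_add_neg] at this
      exact Prod.ext (sub_eq_zero.1 this.1) (sub_eq_zero.1 this.2)
    have hFsurj : Function.Surjective F := by
      haveI : Fintype A := Fintype.ofFinite A
      refine ((Fintype.bijective_iff_injective_and_card F).2 ⟨hFinj, le_antisymm
        (Fintype.card_le_of_injective F hFinj) ?_⟩).2
      rw [← Nat.card_eq_fintype_card, Fintype.card_prod, ZMod.card, ← pow_two]; exact hA2
    obtain ⟨v, hv⟩ := hFsurj ⟨q ⁅a, b⁆, hAd ▸ ⟨_, h.comm a h.aE b h.bE, rfl⟩⟩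
    obtain ⟨w, hw⟩ : ∃ w, w = Frame.rep a b c (v.1, v.2, 0) := ⟨_, rfl⟩
    have hwE : w ∈ E := hw ▸ h.rep_mem _
    have hν1 : ν w = q ⁅a, b⁆ := by rw [hw, ← hF, hv]
    have hfix : q (hh ⁅a, b⁆) = q ⁅a, b⁆ := by
      have hq' : q ⁅hh a, hh b⁆ = q ⁅a⁻¹, b⁻¹⁆ := by
        have hc' : ∀ {x x' z : G}, x ∈ E → x' ∈ E → z ∈ E → x * x'⁻¹ ∈ U →
            q ⁅x, z⁆ = q ⁅x', z⁆ ∧ q ⁅z, x⁆ = q ⁅z, x'⁆ := by
          intro x x' z hx hx' hz hxx
          have e1 : q ⁅x, z⁆ = q ⁅x * x'⁻¹, z⁆ * q ⁅x', z⁆ := by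
            conv_lhs => rw [show x = x * x'⁻¹ * x' by group]
            exact hq ▸ d.comm_mul_left (h.le hxx) hx' hz
          have e2 : q ⁅z, x⁆ = q ⁅z, x * x'⁻¹⁆ * q ⁅z, x'⁆ := by
            conv_lhs => rw [show x = x * x'⁻¹ * x' by group]
            exact hq ▸ d.comm_mul_right hz (h.le hxx) hx'
          refine ⟨?_, ?_⟩
          · rw [e1, ← commutatorElement_inv z, map_inv, (hq1 _).2 (d.cent z hz _ hxx), inv_one, one_mul]
          · rw [e2, (hq1 _).2 (d.cent z hz _ hxx), one_mul]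
        have hU1 : ∀ {x : G}, x ∈ E → (co x).2.2 = 0 → hh x * x⁻¹⁻¹ ∈ U := fun {x} hx h3 => by
          rw [← h.zero _ (E.mul_mem (hh_co x hx).1 (E.inv_mem (E.inv_mem hx))),
            h.add _ (hh_co x hx).1 _ (E.inv_mem (E.inv_mem hx)), h.co_inv (E.inv_mem hx), h.co_inv hx,
            (hh_co x hx).2]
          ext <;> simp [h3]
        rw [(hc' (hh_co a h.aE).1 (E.inv_mem h.aE) (hh_co b h.bE).1
          (hU1 h.aE (by rw [h.co_a]))).1,
          (hc' (hh_co b h.bE).1 (E.inv_mem h.bE) (E.inv_mem h.aE)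
          (hU1 h.bE (by rw [h.co_b]))).2]
      have e1 : q ⁅a⁻¹, b⁻¹⁆ * q ⁅a, b⁻¹⁆ = 1 := by
        rw [← show q ⁅a⁻¹ * a, b⁻¹⁆ = q ⁅a⁻¹, b⁻¹⁆ * q ⁅a, b⁻¹⁆ from
          hq ▸ d.comm_mul_left (E.inv_mem h.aE) h.aE (E.inv_mem h.bE), inv_mul_cancel,
          commutatorElement_one_left, map_one]
      have e2 : q ⁅a, b⁻¹⁆ * q ⁅a, b⁆ = 1 := by
        rw [← show q ⁅a, b⁻¹ * b⁆ = q ⁅a, b⁻¹⁆ * q ⁅a, b⁆ from
          hq ▸ d.comm_mul_right h.aE (E.inv_mem h.bE) h.bE, inv_mul_cancel,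
          commutatorElement_one_right, map_one]
      rw [map_commutatorElement, hq', eq_inv_of_mul_eq_one_left e1, eq_inv_of_mul_eq_one_left e2, inv_inv]
    have hneg : q (hh ⁅a, b⁆) = (q ⁅a, b⁆)⁻¹ := by
      rw [← hν1]
      have hhm : ∀ x ∈ E, ∀ x' ∈ E, hh (x * x') = hh x * hh x' := fun x _ x' _ => map_mul hh x x'
      have e3 : q (hh ⁅a, b⁆) = q (hh ⁅w, c⁆) :=
        hfK (fun x hx => (hh_co x hx).1) hhm (h.comm a h.aE b h.bE) (h.comm w hwE c h.cE) (by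
          subst hν; exact hν1.symm)
      rw [e3, hcK (fun x hx => (hh_co x hx).1) hhm
        (by rw [(hh_co c h.cE).2, h.co_c]; simp) w hwE, νval _ (hh_co w hwE).1, νval w hwE,
        (hh_co w hwE).2, pw_neg (hAp (νA a h.aE)), pw_neg (hAp (νA b h.bE)), mul_inv_rev,
        (hAc (A.inv_mem (show pw (ν a) (co w).1 ∈ A from A.pow_mem (νA a h.aE) _))
          (A.inv_mem (show pw (ν b) (co w).2.1 ∈ A from A.pow_mem (νA b h.bE) _))).eq]
    have hab1 : q ⁅a, b⁆ = 1 := by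
      have hsq : q ⁅a, b⁆ * q ⁅a, b⁆ = 1 := by
        conv_lhs => enter [1]; rw [← hfix, hneg]
        rw [inv_mul_cancel]
      refine pw_eq_one (p := p) (hq ▸ d.pow_eq (h.comm a h.aE b h.bE)) (i := 2) ?_ ?_
      · rw [show (2 : ZMod p) = ((2 : ℕ) : ZMod p) by norm_num, Ne, ZMod.natCast_eq_zero_iff]
        exact fun h => absurd (Nat.le_of_dvd (by norm_num) h) (by omega)
      · rw [show (2 : ZMod p) = ((2 : ℕ) : ZMod p) by norm_num, pw_natCast (hq ▸ d.pow_eq (h.comm a h.aE b h.bE)),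
          pow_two, hsq]
    have hM : Nat.card (h.sub (planeM p)) ≤ p ^ 3 * Nat.card K := by
      refine card_le_rank hsr (hKU.trans (h.U_le_sub _)) (hnorm le_rfl hKU) (fun x hx x' hx' => ?_)
        fun x hx => ?_
      · rw [← hq1]
        have f1 : ∀ z ∈ E, ∀ v ∈ h.sub (planeM p), q ⁅z, v⁆ =
            pw (q ⁅z, a⁆) (co v).1 * pw (q ⁅z, b⁆) (co v).2.1 := fun z hz v hv => by
          rw [h.value (f := fun v => q ⁅z, v⁆) (fun v hv v' hv' => hq ▸ d.comm_mul_right hz hv hv')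
            (fun u hu => (hq1 _).2 (d.cent z hz u hu)) hv.1, hv.2, pw_zero, mul_one]
        have ga : q ⁅x, a⁆ = 1 := by
          rw [← commutatorElement_inv, map_inv, inv_eq_one, f1 a h.aE x hx, commutatorElement_self, map_one,
            hab1, one_pw, one_pw, one_mul]
        have gb : q ⁅x, b⁆ = 1 := by
          rw [← commutatorElement_inv, map_inv, inv_eq_one, f1 b h.bE x hx, ← commutatorElement_inv a b,
            map_inv, hab1, inv_one, commutatorElement_self, map_one, one_pw, one_pw, one_mul]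
        rw [f1 x hx.1 x' hx', ga, gb, one_pw, one_pw, one_mul]
      · rw [← hq1]
        have := h.value πm πU hx.1
        rw [e, hb1, hx.2, one_pw, one_pw, pw_zero, one_mul, one_mul] at this
        subst hπ
        exact this
    rw [h.card_sub, card_planeM, hcardU] at hM
    have : p ^ 3 * Nat.card K < p * p * (Nat.card K * Nat.card A) := by
      have hAc2 : p ^ 2 ≤ Nat.card A := by
        have := Nat.card_le_card_of_injective F hFinj
        rwa [Nat.card_prod, Nat.card_zmod, ← pow_two] at this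
      calc p ^ 3 * Nat.card K < p ^ 4 * Nat.card K :=
            Nat.mul_lt_mul_of_pos_right (Nat.pow_lt_pow_right hp.out.one_lt (by norm_num)) Nat.card_pos
        _ = p * p * (Nat.card K * p ^ 2) := by ring
        _ ≤ _ := Nat.mul_le_mul_left _ (Nat.mul_le_mul_left _ hAc2)
    omega
  have πinj : ∀ x ∈ E, (co x).2.2 = 0 → π x = 1 → (co x).1 = 0 ∧ (co x).2.1 = 0 := by
    intro x hx _ e
    by_contra hc
    rw [not_and_or] at hc
    exact hπa (hker πm πU (πinv (h.conjMem s) hsmul) (πinv m.y_mem m.y_mul) x hx e hc).1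
  have hA3 : Nat.card A ≤ p ^ 3 := by
    obtain ⟨B, hB⟩ : ∃ B, B = (Subgroup.zpowers (π a)).comap q := ⟨_, rfl⟩
    have hKB : K ≤ B := fun x hx => hB ▸ Subgroup.mem_comap.2 (by rw [(hq1 x).2 hx]; exact one_mem _)
    have hBU : B ≤ U := by
      intro x hx
      rw [hB, Subgroup.mem_comap] at hx
      have h1 : q x ∈ A := Subgroup.zpowers_le.2 (πA a h.aE) hx
      rw [hAd] at h1
      obtain ⟨u, hu, he⟩ := h1
      have h2 : u⁻¹ * x ∈ K := by rw [← hq1, map_mul, map_inv, he, inv_mul_cancel]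
      simpa using U.mul_mem hu (hKU h2)
    have hBc : Nat.card B ≤ p * Nat.card K := by
      rw [card_eq_mul_map hKB, hB, ← hq, Subgroup.map_comap_eq_self_of_surjective
        (hq ▸ QuotientGroup.mk'_surjective K), Nat.card_zpowers, mul_comm]
      exact Nat.mul_le_mul_right _ (orderOf_le_of_pow_eq_one hp.out.pos (hAp (πA a h.aE)))
    have h1 : p * Nat.card U ≤ p ^ 3 * Nat.card B := by
      rw [← hA1]
      refine card_le_rank hsr (hBU.trans (h.U_le_sub _)) (hnorm hKB hBU)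
        (fun x hx x' hx' => hKB (hcommA x hx x' hx')) fun x hx => ?_
      rw [hB, Subgroup.mem_comap]
      have := hπaxis x hx
      subst hπ
      rw [show q (x ^ p) = _ from this]
      exact pow_mem (Subgroup.mem_zpowers _) _
    rw [hcardU] at h1
    refine Nat.le_of_mul_le_mul_left ?_ (Nat.mul_pos hp.out.pos (Nat.card_pos (α := K)))
    calc p * Nat.card K * Nat.card A = p * (Nat.card K * Nat.card A) := by ring
      _ ≤ p ^ 3 * Nat.card B := h1
      _ ≤ p ^ 3 * (p * Nat.card K) := Nat.mul_le_mul_left _ hBc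
      _ = p * Nat.card K * p ^ 3 := by ring
  -- a common value
  obtain ⟨w₁, e₁, hw₁, he₁, hw₁3, hne₁, hwe⟩ : ∃ w₁ e₁, w₁ ∈ E ∧ e₁ ∈ E ∧ (co w₁).2.2 = 0 ∧
      ((co e₁).1 ≠ 0 ∨ (co e₁).2.1 ≠ 0) ∧ π w₁ = ν e₁ := by
    obtain ⟨Φ, hΦ⟩ : ∃ Φ : (ZMod p × ZMod p) × (ZMod p × ZMod p) → A,
        ∀ v, (Φ v : G ⧸ K) = π (Frame.rep a b c (v.1.1, v.1.2, 0)) * ν (Frame.rep a b c (v.2.1, v.2.2, 0)) :=
      ⟨fun v => ⟨_, A.mul_mem (πA _ (h.rep_mem _)) (νA _ (h.rep_mem _))⟩, fun v => rfl⟩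
    have hni : ¬ Function.Injective Φ := fun hi => by
      have := Nat.card_le_card_of_injective Φ hi
      rw [Nat.card_prod, Nat.card_prod, Nat.card_zmod] at this
      have hlt : p ^ 3 < p * p * (p * p) := by
        rw [show p * p * (p * p) = p ^ 4 by ring]; exact Nat.pow_lt_pow_right hp.out.one_lt (by norm_num)
      omega
    rw [Function.Injective] at hni
    push Not at hni
    obtain ⟨v, v', he, hne'⟩ := hni
    obtain ⟨r, hr⟩ : ∃ r : ZMod p × ZMod p → G, ∀ u, r u = Frame.rep a b c (u.1, u.2, 0) := ⟨_, fun u => rfl⟩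
    have hrE : ∀ u, r u ∈ E := fun u => hr u ▸ h.rep_mem _
    have hrc : ∀ u, co (r u) = (u.1, u.2, 0) := fun u => by rw [hr, h.co_rep]
    have e' : π (r v.1) * ν (r v.2) = π (r v'.1) * ν (r v'.2) := by
      rw [hr, hr, hr, hr, ← hΦ, ← hΦ, he]
    refine ⟨r v.1 * (r v'.1)⁻¹, r v'.2 * (r v.2)⁻¹, E.mul_mem (hrE _) (E.inv_mem (hrE _)),
      E.mul_mem (hrE _) (E.inv_mem (hrE _)), ?_, ?_, ?_⟩
    · rw [h.add _ (hrE _) _ (E.inv_mem (hrE _)), h.co_inv (hrE _), hrc, hrc]; simp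
    · rw [h.add _ (hrE _) _ (E.inv_mem (hrE _)), h.co_inv (hrE _), hrc, hrc]
      by_contra hc
      push Not at hc
      rw [← sub_eq_add_neg] at hc
      have h2 : v'.2 = v.2 := Prod.ext (sub_eq_zero.1 hc.1) (sub_eq_zero.1 hc.2)
      rw [h2, mul_left_inj] at e'
      have := πinj _ (E.mul_mem (hrE v.1) (E.inv_mem (hrE v'.1)))
        (by rw [h.add _ (hrE _) _ (E.inv_mem (hrE _)), h.co_inv (hrE _), hrc, hrc]; simp)
        (by rw [πm _ (hrE _) _ (E.inv_mem (hrE _)), map_inv_of_mul πm (hrE _), e', mul_inv_cancel])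
      rw [h.add _ (hrE _) _ (E.inv_mem (hrE _)), h.co_inv (hrE _), hrc, hrc] at this
      rw [← sub_eq_add_neg] at this
      exact hne' (Prod.ext (Prod.ext (sub_eq_zero.1 this.1) (sub_eq_zero.1 this.2)) h2.symm)
    · rw [πm _ (hrE _) _ (E.inv_mem (hrE _)), map_inv_of_mul πm (hrE _), νm _ (hrE _) _ (E.inv_mem (hrE _)),
        map_inv_of_mul νm (hrE _), mul_inv_eq_iff_eq_mul]
      have hx : Commute (ν (r v'.2) * (ν (r v.2))⁻¹) (π (r v'.1)) :=
        hAc (A.mul_mem (νA _ (hrE _)) (A.inv_mem (νA _ (hrE _)))) (πA _ (hrE _))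
      rw [hx.eq, ← mul_assoc, eq_mul_inv_iff_mul_eq, e']
  have hne₂ : (co w₁).1 ≠ 0 ∨ (co w₁).2.1 ≠ 0 := by
    by_contra hc
    push Not at hc
    have := νinj e₁ he₁ (by
      rw [← hwe, h.value πm πU hw₁, hc.1, hc.2, hw₁3, pw_zero, pw_zero, pw_zero, one_mul, one_mul])
    rcases hne₁ with h' | h'
    exacts [h' this.1, h' this.2]
  have key : ∀ {f₁ f₂ : G → G ⧸ K}, (∀ x ∈ E, ∀ x' ∈ E, f₁ (x * x') = f₁ x * f₁ x') →
      (∀ x ∈ E, ∀ x' ∈ E, f₂ (x * x') = f₂ x * f₂ x') → (∀ u ∈ U, f₁ u = 1) →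
      ∀ (W : AddSubgroup (ZMod p × ZMod p × ZMod p)), (∀ v ∈ W, (v.1 + v.2.1, v.2.1, v.2.2) ∈ W) →
      (∀ v ∈ W, (v.1, v.1 + v.2.1, v.2.2) ∈ W) →
      (∀ {f : G → G}, (∀ x ∈ E, f x ∈ E) → (∀ x ∈ E, ∀ x' ∈ E, f (x * x') = f x * f x') →
        co (f c) = co c → ∀ x ∈ E, ∀ z ∈ E, f₁ x = f₂ z → f₁ (f x) = f₂ (f z)) →
      ∀ x ∈ E, ((co x).1 ≠ 0 ∨ (co x).2.1 ≠ 0) → (∃ z ∈ E, co z ∈ W ∧ f₁ x = f₂ z) →
      ∀ v ∈ E, (∃ z ∈ E, co z ∈ W ∧ f₁ c = f₂ z) ∨ (co v).2.2 = 0 → ∃ z ∈ E, co z ∈ W ∧ f₁ v = f₂ z := by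
    intro f₁ f₂ hm₁ hm₂ hU₁ W hWs hWy heq x hx hne' hxz v hv hvc
    obtain ⟨X, hX⟩ : ∃ X : Subgroup G, ∀ u, u ∈ X ↔ u ∈ E ∧ ∃ z ∈ E, co z ∈ W ∧ f₁ u = f₂ z :=
      ⟨{ carrier := {u | u ∈ E ∧ ∃ z ∈ E, co z ∈ W ∧ f₁ u = f₂ z}
         one_mem' := ⟨E.one_mem, 1, E.one_mem, by rw [h.co_one]; exact W.zero_mem, by
           rw [map_one_of_mul hm₁, map_one_of_mul hm₂]⟩
         mul_mem' := by
           rintro u u' ⟨hu, z, hz, hzW, e⟩ ⟨hu', z', hz', hzW', e'⟩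
           exact ⟨E.mul_mem hu hu', z * z', E.mul_mem hz hz', by rw [h.add z hz z' hz']; exact W.add_mem hzW hzW',
             by rw [hm₁ u hu u' hu', hm₂ z hz z' hz', e, e']⟩
         inv_mem' := by
           rintro u ⟨hu, z, hz, hzW, e⟩
           exact ⟨E.inv_mem hu, z⁻¹, E.inv_mem hz, by rw [h.co_inv hz]; exact W.neg_mem hzW, by
             rw [map_inv_of_mul hm₁ hu, map_inv_of_mul hm₂ hz, e]⟩ }, fun u => Iff.rfl⟩
    have hUX : U ≤ X := fun u hu => (hX u).2 ⟨h.le hu, 1, E.one_mem, by rw [h.co_one]; exact W.zero_mem,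
      by rw [hU₁ u hu, map_one_of_mul hm₂]⟩
    obtain ⟨ha, hb⟩ := mem_of_invariant h m hUX (fun u hu huE => by
        obtain ⟨-, z, hz, hzW, e⟩ := (hX u).1 hu
        exact (hX _).2 ⟨h.conjMem s u huE, s * z * s⁻¹, h.conjMem s z hz,
          by rw [co_conj_s h hz]; exact hWs _ hzW, heq (h.conjMem s) hsmul hcs u huE z hz e⟩)
      (fun u hu huE => by
        obtain ⟨-, z, hz, hzW, e⟩ := (hX u).1 hu
        exact (hX _).2 ⟨m.y_mem u huE, y z, m.y_mem z hz,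
          by rw [co_y h m hz]; exact hWy _ hzW, heq m.y_mem m.y_mul hcy u huE z hz e⟩)
      ((hX x).2 ⟨hx, hxz⟩) hx hne'
    rcases hvc with hc | hv3
    · exact ((hX v).1 (h.induction hUX ha hb ((hX c).2 ⟨h.cE, hc⟩) hv)).2
    · have h1 := X.mul_mem (hUX (h.mul_rep_inv hv)) (show Frame.rep a b c (co v) ∈ X by
        unfold Frame.rep
        rw [hv3, pw_zero, mul_one]
        exact X.mul_mem (X.pow_mem ha _) (X.pow_mem hb _))
      rw [inv_mul_cancel_right] at h1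
      exact ((hX v).1 h1).2
  have heq₁ : ∀ {f : G → G}, (∀ x ∈ E, f x ∈ E) → (∀ x ∈ E, ∀ x' ∈ E, f (x * x') = f x * f x') →
      co (f c) = co c → ∀ x ∈ E, ∀ z ∈ E, ν x = π z → ν (f x) = π (f z) := by
    intro f hf hm hfc x hx z hz e
    rw [← hcK hf hm hfc x hx]
    subst hν hπ
    rw [hfK hf hm (h.comm x hx c h.cE) (h.pow z hz) e, map_pow_of_mul hm hz]
  refine ⟨fun e he => ?_, fun w hw hw3 => ?_⟩
  · obtain ⟨z, hz, hz3, e1⟩ := key νm πm νU (planeM p) (fun v hv => hv) (fun v hv => hv) heq₁ e₁ he₁ hne₁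
      ⟨w₁, hw₁, hw₁3, hwe.symm⟩ e he
      (Or.inl ⟨1, E.one_mem, by rw [h.co_one]; exact AddSubgroup.zero_mem _, by
        rw [νc, map_one_of_mul πm]⟩)
    refine ⟨z, hz, hz3, ?_⟩
    subst hν hπ
    rw [← hq1, map_mul, map_inv, mul_inv_eq_one]
    exact e1
  · obtain ⟨z, hz, -, e1⟩ := key πm νm πU ⊤ (fun v _ => AddSubgroup.mem_top _)
      (fun v _ => AddSubgroup.mem_top _) (fun hf hm hfc x hx z hz e => (heq₁ hf hm hfc z hz x hx e.symm).symm)
      w₁ hw₁ hne₂ ⟨e₁, he₁, AddSubgroup.mem_top _, hwe⟩ w hw (Or.inr hw3)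
    refine ⟨z, hz, ?_⟩
    subst hν hπ
    rw [← hq1, map_mul, map_inv, mul_inv_eq_one]
    exact e1

/-- Every conjugate of `E` contains `c`. -/
theorem c_mem [Finite G] (hp5 : 5 ≤ p) (hsr : Cfsg.SectionalPRankLE p 3 G) (g : MulAut G) :
    c ∈ E.map g.toMonoidHom := by
  classical
  by_contra hc
  have hp2 : p ≠ 2 := by omega
  obtain ⟨e₀, he₀, hne₀⟩ : ∃ e ∈ E, ⁅e, c⁆ ∉ U.map g.toMonoidHom := by
    by_contra hno
    push Not at hno
    exact hc (mem_of_comm_c h m hp5 g hno)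
  obtain ⟨-, hUE', -, hN'⟩ := h.conj_facts g
  obtain ⟨K, hK⟩ : ∃ K, K = layer p E U := ⟨_, rfl⟩
  have hK' : K ≤ U.map g.toMonoidHom := hK ▸ (layer_le_iff.2
    ⟨fun x _ u hu => hN' (comm_mem_layer (Subgroup.mem_top x) hu), fun u hu => hN' (pow_mem_layer hu)⟩)
  obtain ⟨h1, h2⟩ := pow_eq_comm h m hp5 hsr ⟨e₀, he₀, fun hK0 => hne₀ (hK' (hK ▸ hK0))⟩
  rw [← hK] at h1 h2
  have h' := h.map g
  -- commutators with `c` lie on the axis of the conjugate
  have hax : ∀ e ∈ E, ⁅e, c⁆ ∈ h'.sub (axisA p) := by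
    intro e he
    obtain ⟨e', he', i, rfl⟩ := h'.toPhi.exists_dec hc e
    rw [show ⁅e' * c ^ i, c⁆ = ⁅c, e'⁆⁻¹ by
      simp only [commutatorElement_def]; group]
    exact Subgroup.inv_mem _ (h'.comm_mem_axisA c he')
  have hpax : ∀ w ∈ E, (co w).2.2 = 0 → w ^ p ∈ h'.sub (axisA p) := by
    intro w hw hw3
    obtain ⟨e, he, hk⟩ := h2 w hw hw3
    have := Subgroup.mul_mem _ (h'.U_le_sub (axisA p) (hK' hk)) (hax e he)
    rwa [inv_mul_cancel_right] at this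
  -- elements of least order outside `C`
  obtain ⟨x₀, ⟨hx₀, hx₀C⟩, hmin⟩ := Set.exists_min_image {x : G | x ∈ E ∧ co x ∉ axisC p} orderOf
    (Set.toFinite _) ⟨a, h.aE, fun hA => by have := hA.1; rw [h.co_a] at this; exact one_ne_zero this⟩
  have horb : ∀ {f : G → G}, (∀ x ∈ E, f x ∈ E) → (∀ x ∈ E, ∀ x' ∈ E, f (x * x') = f x * f x') →
      Set.InjOn f (E : Set G) → ∀ {x : G}, x ∈ E → orderOf x = orderOf x₀ → orderOf (f x) = orderOf x₀ :=
    fun _ hm hi _ hx e => (orderOf_of_injOn hm hi hx).trans e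
  have hC' : ∀ {x : G}, x ∈ E → co x ∉ axisC p → orderOf x = orderOf x₀ →
      x ^ p ∈ h'.sub (axisC p) := by
    intro x hx hxC ho
    by_contra hno
    have hE' : x ^ p ∈ E.map g.toMonoidHom := hUE' (h.pow x hx)
    have hv : g.symm (x ^ p) ∈ E := Subgroup.mem_map_equiv.1 hE'
    have hvC : co (g.symm (x ^ p)) ∉ axisC p := fun e => hno ⟨hE', e⟩
    have hle := hmin _ ⟨hv, hvC⟩
    rw [MulEquiv.orderOf_eq, ← ho] at hle
    have hxf : IsOfFinOrder x := isOfFinOrder_of_finite x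
    have hlt : orderOf (x ^ p) < orderOf x := by
      have hpd : p ∣ orderOf x := by
        rcases (Nat.coprime_or_dvd_of_prime hp.out (orderOf x)) with hcop | hd
        · exfalso
          refine hxC ?_
          obtain ⟨n, hn⟩ := exists_pow_eq_self_of_coprime hcop
          rw [← hn, h.co_pow (h.le (h.pow x hx)), h.co_U (h.pow x hx), smul_zero]
          exact AddSubgroup.zero_mem _
        · exact hd
      rw [hxf.orderOf_pow, Nat.gcd_eq_right hpd]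
      exact Nat.div_lt_self hxf.orderOf_pos hp.out.one_lt
    omega
  -- the plane maps into the conjugate Frattini subgroup
  obtain ⟨hh, hhd⟩ : ∃ hh : MulAut G, hh = t ^ ((p - 1) / 2) := ⟨_, rfl⟩
  obtain ⟨g1, g2, g3, g4⟩ := g_facts h m hp5
  have hh_co : ∀ x ∈ E, hh x ∈ E ∧ co (hh x) = (-(co x).1, -(co x).2.1, (co x).2.2) := by
    have key : ∀ n : ℕ, ∀ x ∈ E, (t ^ n) x ∈ E ∧
        co ((t ^ n) x) = (g₀ ^ n * (co x).1, (g₀ ^ n)⁻¹ * (co x).2.1, (co x).2.2) := by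
      intro n
      induction n with
      | zero => intro x hx; simp [hx]
      | succ n ih =>
        intro x hx
        rw [pow_succ', MulAut.mul_apply]
        refine ⟨m.t_mem _ (ih x hx).1, ?_⟩
        rw [co_t h m (ih x hx).1, (ih x hx).2]
        ext <;> simp [pow_succ, mul_comm, mul_assoc, mul_left_comm]
    intro x hx
    rw [hhd]
    refine ⟨(key _ x hx).1, ?_⟩
    rw [(key _ x hx).2, g4]
    simp
  have d : Section p E U K := hK ▸ h.isSection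
  haveI := d.normal
  obtain ⟨q, hq⟩ : ∃ q, q = QuotientGroup.mk' K := ⟨_, rfl⟩
  have hq1 : ∀ x, q x = 1 ↔ x ∈ K := fun x => hq ▸ d.mk_eq_one
  obtain ⟨X, hX⟩ : ∃ X : Subgroup G, ∀ x, x ∈ X ↔ x ∈ E ∧
      pw (q (a ^ p)) (co x).1 * pw (q (b ^ p)) (co x).2.1 ∈ (U.map g.toMonoidHom).map q :=
    ⟨{ carrier := {x | x ∈ E ∧ pw (q (a ^ p)) (co x).1 * pw (q (b ^ p)) (co x).2.1 ∈
          (U.map g.toMonoidHom).map q}
       one_mem' := ⟨E.one_mem, by rw [h.co_one]; simp [pw_zero]⟩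
       mul_mem' := by
         rintro x x' ⟨hx, e⟩ ⟨hx', e'⟩
         refine ⟨E.mul_mem hx hx', ?_⟩
         rw [h.add x hx x' hx', Prod.fst_add, Prod.snd_add, Prod.fst_add,
           pw_add (hq ▸ d.pow_eq (h.pow a h.aE)), pw_add (hq ▸ d.pow_eq (h.pow b h.bE))]
         have hcm : Commute (pw (q (a ^ p)) (co x').1) (pw (q (b ^ p)) (co x).2.1) :=
           commute_pw (hq ▸ d.commute (h.le (h.pow a h.aE)) (h.pow b h.bE))
         rw [hcm.mul_mul_mul_comm]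
         exact mul_mem e e'
       inv_mem' := by
         rintro x ⟨hx, e⟩
         refine ⟨E.inv_mem hx, ?_⟩
         rw [h.co_inv hx, Prod.fst_neg, Prod.snd_neg, Prod.fst_neg,
           pw_neg (hq ▸ d.pow_eq (h.pow a h.aE)), pw_neg (hq ▸ d.pow_eq (h.pow b h.bE))]
         have hcm : Commute (pw (q (a ^ p)) (co x).1) (pw (q (b ^ p)) (co x).2.1) :=
           commute_pw (hq ▸ d.commute (h.le (h.pow a h.aE)) (h.pow b h.bE))
         rw [hcm.inv_inv.eq, ← mul_inv_rev]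
         exact inv_mem e }, fun x => Iff.rfl⟩
  have hUX : U ≤ X := fun u hu => (hX u).2 ⟨h.le hu, by rw [h.co_U hu]; simp [pw_zero]⟩
  have horbX : ∀ {x : G}, x ∈ E → co x ∉ axisC p → orderOf x = orderOf x₀ → x ∈ X := by
    intro x hx hxC ho
    have hhx := hh_co x hx
    have hhC : co (hh x) ∉ axisC p := fun e => hxC (by
      rw [hhx.2] at e
      exact ⟨neg_eq_zero.1 e.1, neg_eq_zero.1 e.2⟩)
    have e1 := hC' hx hxC ho
    have e2 := hC' hhx.1 hhC ((MulEquiv.orderOf_eq hh x).trans ho)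
    obtain ⟨w, hwd⟩ : ∃ w, w = x * (hh x)⁻¹ := ⟨_, rfl⟩
    have hwE : w ∈ E := hwd ▸ E.mul_mem hx (E.inv_mem hhx.1)
    have hwco : co w = ((co x).1 + (co x).1, (co x).2.1 + (co x).2.1, 0) := by
      rw [hwd, h.add _ hx _ (E.inv_mem hhx.1), h.co_inv hhx.1, hhx.2]
      ext <;> simp
    have e3 : q (w ^ p) = q (x ^ p * ((hh x) ^ p)⁻¹) := by
      rw [hwd, map_mul, show q ((x * (hh x)⁻¹) ^ p) = q (x ^ p) * q (((hh x)⁻¹) ^ p) from
        hq ▸ d.mul_pow hp2 hx (E.inv_mem hhx.1), inv_pow]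
    have e4 : w ^ p * (x ^ p * ((hh x) ^ p)⁻¹)⁻¹ ∈ K := by
      rw [← hq1, map_mul, map_inv, e3, mul_inv_cancel]
    have e5 : w ^ p ∈ h'.sub (axisC p) := by
      have := Subgroup.mul_mem _ (h'.U_le_sub (axisC p) (hK' e4)) (Subgroup.mul_mem _ e1 (Subgroup.inv_mem _ e2))
      rwa [inv_mul_cancel_right] at this
    have e6 : w ^ p ∈ U.map g.toMonoidHom := by
      have e7 := hpax w hwE (by rw [hwco])
      rw [← h'.zero _ e5.1]
      exact Prod.ext e5.2.1 (Prod.ext e5.2.2 e7.2.2)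
    have hwX : w ∈ X := by
      refine (hX w).2 ⟨hwE, ?_⟩
      have hv := h.value (f := fun x => q (x ^ p)) (fun x hx x' hx' => hq ▸ d.mul_pow hp2 hx hx')
        (fun u hu => (hq1 _).2 (d.pow u hu)) hwE
      rw [hwco] at hv ⊢
      simp only [pw_zero, mul_one] at hv
      exact ⟨w ^ p, e6, hv⟩
    obtain ⟨n, hn⟩ : ∃ n : ℕ, (n : ZMod p) + (n : ZMod p) = 1 := by
      refine ⟨((2 : ZMod p)⁻¹).val, ?_⟩
      rw [ZMod.natCast_zmod_val, ← two_mul, mul_inv_cancel₀]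
      rw [show (2 : ZMod p) = ((2 : ℕ) : ZMod p) by norm_num, Ne, ZMod.natCast_eq_zero_iff]
      exact fun h => absurd (Nat.le_of_dvd (by norm_num) h) (by omega)
    have hwn := ((hX _).1 (X.pow_mem hwX n)).2
    refine (hX x).2 ⟨hx, ?_⟩
    rw [h.co_pow hwE, hwco, Prod.smul_mk, Prod.smul_mk] at hwn
    simp only [nsmul_eq_mul, ← two_mul, ← mul_assoc] at hwn
    simp only [mul_two, hn, one_mul] at hwn
    exact hwn
  have hx₀X := horbX hx₀ hx₀C rfl
  have hsX : s * x₀ * s⁻¹ ∈ X := by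
    refine horbX (h.conjMem s x₀ hx₀) ?_ (horb (h.conjMem s) (fun x _ x' _ => by group)
      (fun x _ x' _ e => by simpa using e) hx₀ rfl)
    rw [co_conj_s h hx₀]
    rintro ⟨e1, e2⟩
    refine hx₀C ⟨?_, e2⟩
    simpa [show (co x₀).2.1 = 0 from e2] using e1
  have hyX : y x₀ ∈ X := by
    refine horbX (m.y_mem x₀ hx₀) ?_ (horb m.y_mem m.y_mul m.y_inj hx₀ rfl)
    rw [co_y h m hx₀]
    rintro ⟨e1, e2⟩
    refine hx₀C ⟨e1, ?_⟩
    simpa [show (co x₀).1 = 0 from e1] using e2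
  have hcoX : ∀ {u v : G}, u ∈ E → v ∈ E → v ∈ X → co u = co v → u ∈ X := fun {u v} hu hv hvX e => by
    refine (hX u).2 ⟨hu, ?_⟩
    rw [e]; exact ((hX v).1 hvX).2
  have hscale : ∀ {u v : G}, u ∈ E → v ∈ E → v ∈ X → ∀ {r : ZMod p}, r ≠ 0 → co v = r • co u → u ∈ X :=
    fun {u v} hu hv hvX {r} hr e => hcoX hu (E.pow_mem hv _) (X.pow_mem hvX (r⁻¹).val) (by
      rw [h.co_pow hv, e, ← Nat.cast_smul_eq_nsmul (ZMod p), ZMod.natCast_zmod_val, smul_smul,
        inv_mul_cancel₀ hr, one_smul])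
  have hd1 : s * x₀ * s⁻¹ * x₀⁻¹ ∈ X := X.mul_mem hsX (X.inv_mem hx₀X)
  have hd1c : co (s * x₀ * s⁻¹ * x₀⁻¹) = (co x₀).2.1 • co a := by
    rw [h.add _ (h.conjMem s x₀ hx₀) _ (E.inv_mem hx₀), h.co_inv hx₀, co_conj_s h hx₀, h.co_a]
    ext <;> simp
  have hd2 : y x₀ * x₀⁻¹ ∈ X := X.mul_mem hyX (X.inv_mem hx₀X)
  have hd2c : co (y x₀ * x₀⁻¹) = (co x₀).1 • co b := by
    rw [h.add _ (m.y_mem x₀ hx₀) _ (E.inv_mem hx₀), h.co_inv hx₀, co_y h m hx₀, h.co_b]
    ext <;> simp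
  have hplane : a ∈ X ∧ b ∈ X := by
    by_cases h2' : (co x₀).2.1 = 0
    · have h1' : (co x₀).1 ≠ 0 := fun e => hx₀C ⟨e, h2'⟩
      refine ⟨hscale h.aE (h.rep_mem ((co x₀).1, 0, 0)) ((hX _).2 ⟨h.rep_mem _, ?_⟩) h1' ?_,
        hscale h.bE (E.mul_mem (m.y_mem x₀ hx₀) (E.inv_mem hx₀)) hd2 h1' hd2c⟩
      · rw [h.co_rep, pw_zero, mul_one]
        have := ((hX x₀).1 hx₀X).2
        rwa [h2', pw_zero, mul_one] at this
      · rw [h.co_rep, h.co_a]; simp [Prod.smul_mk]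
    · have ha : a ∈ X :=
        hscale h.aE (E.mul_mem (h.conjMem s x₀ hx₀) (E.inv_mem hx₀)) hd1 h2' hd1c
      refine ⟨ha, ?_⟩
      have h3 : x₀ * (a ^ (co x₀).1.val)⁻¹ ∈ X := X.mul_mem hx₀X (X.inv_mem (X.pow_mem ha _))
      refine hscale h.bE (h.rep_mem (0, (co x₀).2.1, 0)) ((hX _).2 ⟨h.rep_mem _, ?_⟩) h2' ?_
      · rw [h.co_rep, pw_zero, one_mul]
        have := ((hX _).1 h3).2
        rw [h.add _ hx₀ _ (E.inv_mem (E.pow_mem h.aE _)), h.co_inv (E.pow_mem h.aE _), h.co_pow h.aE,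
          h.co_a] at this
        simpa [Prod.smul_mk, pw_zero] using this
      · rw [h.co_rep, h.co_b]; simp [Prod.smul_mk]
  -- the contradiction
  obtain ⟨w, hw, hw3, hwK⟩ := h1 e₀ he₀
  have hwX : w ∈ X := by
    have := X.mul_mem (hUX (h.mul_rep_inv hw)) (show Frame.rep a b c (co w) ∈ X by
      unfold Frame.rep
      rw [hw3, pw_zero, mul_one]
      exact X.mul_mem (X.pow_mem hplane.1 _) (X.pow_mem hplane.2 _))
    rwa [inv_mul_cancel_right] at this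
  obtain ⟨u, hu, hue⟩ := ((hX w).1 hwX).2
  have hv := h.value (f := fun x => q (x ^ p)) (fun x hx x' hx' => hq ▸ d.mul_pow hp2 hx hx')
    (fun u hu => (hq1 _).2 (d.pow u hu)) hw
  rw [hw3, pw_zero, mul_one, ← hue] at hv
  have hv' : w ^ p * u⁻¹ ∈ K := by
    rw [← hq1, map_mul, map_inv, mul_inv_eq_one]; exact hv
  refine hne₀ ?_
  have := Subgroup.mul_mem _ (hK' hwK) (Subgroup.mul_mem _ (hK' hv') hu)
  rwa [inv_mul_cancel_right, inv_mul_cancel_right] at this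

/-- The exponent modulo `U`. -/
theorem pow_mem_U [Finite G] (hp5 : 5 ≤ p) : ∀ x : G, x ^ p ∈ U := by
  have hp2 : p ≠ 2 := by omega
  have d : Section p ⊤ (h.sub (midZero p)) U :=
    ⟨h.normalU, le_top, fun x _ x' _ => (h.top_section x x').1, fun x _ u hu => h.comm_midZero x hu,
      fun u hu => h.pow u hu.1⟩
  haveI := h.normalU
  obtain ⟨q, hq⟩ : ∃ q, q = QuotientGroup.mk' U := ⟨_, rfl⟩
  have hq1 : ∀ x, q x = 1 ↔ x ∈ U := fun x => hq ▸ d.mk_eq_one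
  have htU : U ≤ U.comap t.toMonoidHom := fun u hu => t_U h m u hu
  obtain ⟨θ, hθ⟩ : ∃ θ : G ⧸ U →* G ⧸ U, ∀ x, θ (q x) = q (t x) :=
    ⟨QuotientGroup.map U U t.toMonoidHom htU, fun x => by subst hq; rfl⟩
  obtain ⟨y₀, hy₀⟩ : ∃ y₀, y₀ = q (s ^ p) := ⟨_, rfl⟩
  have hsZ : s ^ p ∈ h.sub (midZero p) := (h.top_section s s).2
  have hval : ∀ e ∈ E, q e = pw (q a) (co e).1 * pw (q b) (co e).2.1 * pw (q c) (co e).2.2 := fun e he =>
    h.value (f := fun x => q x) (fun x _ x' _ => map_mul q x x') (fun u hu => (hq1 u).2 hu) he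
  obtain ⟨g1, g2, g3, -⟩ := g_facts h m hp5
  have hy1 : y₀ = 1 := by
    refine eigen_zero (A := (h.sub (midZero p)).map q) ?_ ?_ θ ?_ [g₀, 1] (k := g₀ * g₀)
      (by simp [g1, g3]) {q a, q c} ?_ ?_ y₀ ?_ ?_
    · rintro _ ⟨u, -, rfl⟩ _ ⟨v, hv, rfl⟩
      exact hq ▸ d.commute (Subgroup.mem_top u) hv
    · rintro _ ⟨u, hu, rfl⟩; exact hq ▸ d.pow_eq hu
    · rintro _ ⟨u, hu, rfl⟩
      refine ⟨t u, ⟨m.t_mem u hu.1, ?_⟩, (hθ u).symm⟩
      rw [co_t h m hu.1]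
      show g₀⁻¹ * (co u).2.1 = 0
      rw [show (co u).2.1 = 0 from hu.2, mul_zero]
    · rintro x (rfl | rfl)
      · exact ⟨a, ⟨h.aE, by rw [h.co_a]; rfl⟩, rfl⟩
      · exact ⟨c, ⟨h.cE, by rw [h.co_c]; rfl⟩, rfl⟩
    · rintro x (rfl | rfl)
      · refine Or.inr ⟨g₀, by simp, ?_⟩
        rw [hθ, hval _ (m.t_mem a h.aE), m.t_a, pw_zero, pw_zero, mul_one, mul_one]
      · refine Or.inr ⟨1, by simp, ?_⟩
        rw [hθ, hval _ (m.t_mem c h.cE), m.t_c, pw_zero, pw_zero, one_mul, one_mul]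
    · rw [hy₀, hval _ hsZ.1, show (co (s ^ p)).2.1 = 0 from hsZ.2, pw_zero, mul_one]
      have hs : ∀ z, z ∈ ({q a, q c} : Set (G ⧸ U)) → ∀ i : ZMod p, pw z i ∈ Subgroup.closure {q a, q c} :=
        fun z hz i => Subgroup.pow_mem _ (Subgroup.subset_closure hz) _
      exact Subgroup.mul_mem _ (hs (q a) (Set.mem_insert _ _) _)
        (hs (q c) (Set.mem_insert_of_mem _ (Set.mem_singleton _)) _)
    · obtain ⟨e, he, i, hts⟩ := h.exists_dec h.s_not (t s)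
      have hr : (i : ZMod p) = g₀ * g₀ := by
        rw [← rot_t h m, hts, h.rot_mul, h.rot_of_mem he, h.rot_pow, h.rot_s, zero_add, mul_one]
      rw [hy₀, hθ, map_pow, hts, show q ((e * s ^ i) ^ p) = q (e ^ p) * q ((s ^ i) ^ p) from
        hq ▸ d.mul_pow hp2 (Subgroup.mem_top e) (Subgroup.mem_top _), (hq1 _).2 (h.pow e he), one_mul,
        ← hr, pw_natCast (hq ▸ d.pow_eq hsZ), ← map_pow, ← pow_mul, ← pow_mul, mul_comm]
  intro x
  obtain ⟨e, he, i, rfl⟩ := h.exists_dec h.s_not x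
  rw [← hq1, show q ((e * s ^ i) ^ p) = q (e ^ p) * q ((s ^ i) ^ p) from
    hq ▸ d.mul_pow hp2 (Subgroup.mem_top e) (Subgroup.mem_top _), (hq1 _).2 (h.pow e he), one_mul,
    ← pow_mul, mul_comm, pow_mul, map_pow, ← hy₀, hy1, one_pow]

/-- Every automorphism fixes `U` and the preimage of the centre modulo `U`. -/
theorem stable [Finite G] (hp5 : 5 ≤ p) (hsr : Cfsg.SectionalPRankLE p 3 G) (g : MulAut G) :
    U.map g.toMonoidHom = U ∧ (h.sub (midZero p)).map g.toMonoidHom = h.sub (midZero p) := by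
  obtain ⟨Z, hZ⟩ : ∃ Z, Z = h.sub (midZero p) := ⟨_, rfl⟩
  obtain ⟨hcm, hUE', haE', -⟩ := h.conj_facts g
  have hcE' := c_mem h m hp5 hsr g
  obtain ⟨E', hE'⟩ : ∃ E', E' = E.map g.toMonoidHom := ⟨_, rfl⟩
  rw [← hE'] at hUE' haE' hcE'
  have hZle : Z ≤ E' := by
    intro x hx
    rw [hZ] at hx
    have h1 := E'.mul_mem (hUE' (h.mul_rep_inv hx.1)) (show Frame.rep a b c (co x) ∈ E' by
      unfold Frame.rep
      rw [show (co x).2.1 = 0 from hx.2, pw_zero, mul_one]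
      exact E'.mul_mem (E'.pow_mem haE' _) (E'.pow_mem hcE' _))
    rwa [inv_mul_cancel_right] at h1
  have hcard : Nat.card E' = Nat.card E := by rw [hE', Subgroup.card_map_of_injective g.injective]
  have hcomm : ∀ x ∈ E', ∀ x' ∈ E', ⁅x, x'⁆ ∈ U := by
    by_cases hEE : E' ≤ E
    · exact fun x hx x' hx' => h.comm x (hEE hx) x' (hEE hx')
    · obtain ⟨s', hs', hs'E⟩ := SetLike.not_le_iff_exists.1 hEE
      have hWZ : E ⊓ E' = Z := by
        refine (Subgroup.eq_of_le_of_card_ge (le_inf (hZ ▸ fun x hx => hx.1) hZle) ?_).symm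
        have hlt : E ⊓ E' < E := lt_of_le_of_ne inf_le_left fun e => hEE (le_of_eq
          (Subgroup.eq_of_le_of_card_ge (inf_eq_left.1 e) (le_of_eq hcard)).symm)
        obtain ⟨k, hk⟩ := Subgroup.card_dvd_of_le (inf_le_left : E ⊓ E' ≤ E)
        obtain ⟨l, hl⟩ := Subgroup.card_dvd_of_le (le_inf (hZ ▸ fun x hx => hx.1) hZle : Z ≤ E ⊓ E')
        have hZc : Nat.card Z = p * p * Nat.card U := by rw [hZ, h.card_sub, card_midZero]
        have hkl : l * k = p := by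
          refine Nat.eq_of_mul_eq_mul_left (show 0 < Nat.card Z from Nat.card_pos) ?_
          rw [← mul_assoc, ← hl, ← hk, h.card, hZc]; ring
        have hk1 : k ≠ 1 := fun e => hlt.ne (Subgroup.eq_of_le_of_card_ge inf_le_left (by
          rw [hk, e, mul_one]))
        rcases (Nat.dvd_prime hp.out).1 (Dvd.intro k hkl) with hl1 | hlp
        · rw [hl, hl1, mul_one]
        · exact absurd (Nat.eq_of_mul_eq_mul_left hp.out.pos (by rw [mul_one]; rwa [hlp] at hkl)) hk1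
      have hgen : ∀ x ∈ E', ∃ z ∈ Z, ∃ i : ℕ, x = z * s' ^ i := by
        intro x hx
        obtain ⟨e, he, i, rfl⟩ := h.exists_dec hs'E x
        exact ⟨e, hWZ.le ⟨he, by simpa using E'.mul_mem hx (E'.inv_mem (E'.pow_mem hs' i))⟩, i, rfl⟩
      haveI := h.normalU
      have hc0 : ∀ z ∈ Z, ∀ x : G, Commute (QuotientGroup.mk' U x) (QuotientGroup.mk' U z) := fun z hz x =>
        commutatorElement_eq_one_iff_commute.1 (by
          rw [← map_commutatorElement]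
          exact (QuotientGroup.eq_one_iff _).2 (h.comm_midZero x (hZ ▸ hz)))
      intro x hx x' hx'
      obtain ⟨z, hz, i, rfl⟩ := hgen x hx
      obtain ⟨z', hz', j, rfl⟩ := hgen x' hx'
      rw [← QuotientGroup.eq_one_iff, ← QuotientGroup.mk'_apply, map_commutatorElement,
        commutatorElement_eq_one_iff_commute, map_mul, map_mul]
      refine Commute.mul_left ((hc0 z hz z').symm.mul_right (hc0 z hz (s' ^ j)).symm) ?_
      refine (hc0 z' hz' (s' ^ i)).mul_right ?_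
      rw [map_pow, map_pow]
      exact Commute.pow_pow_self _ i j
  have hUle : U.map g.toMonoidHom ≤ U :=
    (h.toPhi.map_equiv g).min U (fun x _ => pow_mem_U h m hp5 x)
      fun x hx x' hx' => hcomm x (hE' ▸ hx) x' (hE' ▸ hx')
  have hUeq : U.map g.toMonoidHom = U :=
    Subgroup.eq_of_le_of_card_ge hUle (by rw [Subgroup.card_map_of_injective g.injective])
  refine ⟨hUeq, Subgroup.eq_of_le_of_card_ge ?_ (by rw [Subgroup.card_map_of_injective g.injective])⟩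
  rintro _ ⟨x, hx, rfl⟩
  have hgx : ∀ v : G, ⁅v, g x⁆ ∈ U := fun v => by
    rw [← hUeq]
    refine ⟨⁅g.symm v, x⁆, h.comm_midZero _ hx, ?_⟩
    simp [map_commutatorElement]
  have hgE : g x ∈ E := h.faithful fun e _ => by
    rw [← commutatorElement_inv]; exact U.inv_mem (hgx e)
  refine ⟨hgE, ?_⟩
  have := h.co_U (hgx s)
  rw [h.co_comm s hgE, h.rot_s, one_mul] at this
  exact congrArg Prod.fst this

end Moves

end Cfsg.Agent.Local.FS.RankThreeNormal
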