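import Cfsg.Agent.Lib.Local.FS.RankThreeNormal.Frame
import Cfsg.Agent.Lib.Local.FS.RankThreeNormal.Stable

/-!
When the automorphisms of `E` are irreducible on its Frattini quotient and the outer element does
not act as a transvection, every automorphism of the group fixes `E`.
-/

set_option autoImplicit false

open scoped commutatorElement

namespace Cfsg.Agent.Local.FS.RankThreeNormal

variable {G : Type*} [Group G] {p : ℕ} [hp : Fact p.Prime]

/-- An automorphism of `E`, as a function on the ambient group. -/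
structure IsAuto (E : Subgroup G) (f : G → G) : Prop where
  mem : ∀ x ∈ E, f x ∈ E
  mul : ∀ x ∈ E, ∀ y ∈ E, f (x * y) = f x * f y
  inj : Set.InjOn f (E : Set G)

namespace IsAuto

variable {E : Subgroup G} {f : G → G} (hf : IsAuto E f)
include hf

omit hp in
theorem surj [Finite G] {y : G} (hy : y ∈ E) : ∃ x ∈ E, f x = y := by
  have hb : Function.Surjective fun x : E => (⟨f x, hf.mem x x.2⟩ : E) :=
    Finite.surjective_of_injective fun a b e =>
      Subtype.ext (hf.inj a.2 b.2 (congrArg Subtype.val e))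
  obtain ⟨x, hx⟩ := hb ⟨y, hy⟩
  exact ⟨x, x.2, congrArg Subtype.val hx⟩

omit hp in
theorem orderOf_eq {x : G} (hx : x ∈ E) : orderOf (f x) = orderOf x := by
  refine orderOf_eq_orderOf_iff.2 fun n => ?_
  rw [← map_pow_of_mul hf.mul hx]
  exact ⟨fun e => hf.inj (E.pow_mem hx n) E.one_mem (e.trans (map_one_of_mul hf.mul).symm),
    fun e => by rw [e, map_one_of_mul hf.mul]⟩

end IsAuto

omit hp in
theorem isAuto_conj {E : Subgroup G} (hE : E.Normal) (x : G) : IsAuto E fun e => x * e * x⁻¹ :=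
  ⟨fun e he => hE.conj_mem e he x, fun a _ b _ => by group, fun a _ b _ e => by simpa using e⟩

/-- A proper inclusion in a `p`-group multiplies the order by at least `p`. -/
theorem mul_card_le_of_lt [Finite G] (hG : IsPGroup p G) {A B : Subgroup G} (h : A < B) :
    Nat.card A * p ≤ Nat.card B := by
  obtain ⟨i, hi⟩ := IsPGroup.iff_card.1 (hG.to_subgroup A)
  obtain ⟨j, hj⟩ := IsPGroup.iff_card.1 (hG.to_subgroup B)
  have hlt : Nat.card A < Nat.card B := lt_of_le_of_ne (Subgroup.card_le_of_le h.le) fun e =>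
    h.ne (Subgroup.eq_of_le_of_card_ge h.le e.ge)
  rw [hi, hj] at hlt ⊢
  rw [← pow_succ]
  exact Nat.pow_le_pow_right hp.out.pos ((Nat.pow_lt_pow_iff_right hp.out.one_lt).1 hlt)

namespace Phi

variable {E U : Subgroup G} (h : Phi p E U)
include h

theorem comm_mem_E (x y : G) : ⁅x, y⁆ ∈ E := by
  haveI := h.normalE
  have hc : Nat.card (G ⧸ E) = p := by rw [← Subgroup.index_eq_card, h.index]
  haveI : IsCyclic (G ⧸ E) := isCyclic_of_prime_card hc
  rw [← QuotientGroup.eq_one_iff, ← QuotientGroup.mk'_apply, map_commutatorElement,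
    commutatorElement_eq_one_iff_mul_comm]
  exact (IsCyclic.commGroup (α := G ⧸ E)).mul_comm _ _

/-- With an irreducible automiser, the commutators lie in `E^p [E,U] U^p`. -/
theorem comm_mem_of_irreducible [Finite G] (hG : IsPGroup p G) (hp2 : p ≠ 2)
    (hsr : Cfsg.SectionalPRankLE p 3 G)
    (hirr : ∀ N : Subgroup G, U ≤ N → N ≤ E → (∀ f, IsAuto E f → ∀ x ∈ N, f x ∈ N) → N = U ∨ N = E) :
    ∀ x ∈ E, ∀ y ∈ E, ⁅x, y⁆ ∈ layer p E U ⊔ Subgroup.closure {z | ∃ e ∈ E, e ^ p = z} := by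
  obtain ⟨K, hK⟩ : ∃ K, K = layer p E U := ⟨_, rfl⟩
  obtain ⟨J, hJ⟩ : ∃ J, J = K ⊔ Subgroup.closure {z | ∃ e ∈ E, e ^ p = z} := ⟨_, rfl⟩
  rw [← hK, ← hJ]
  have hKU : K ≤ U := hK ▸ layer_le h.normalU
  have hKJ : K ≤ J := hJ ▸ le_sup_left
  have hJU : J ≤ U := hJ ▸ sup_le hKU ((Subgroup.closure_le _).2 fun z ⟨e, he, hz⟩ => hz ▸ h.pow e he)
  have hJn : J.Normal := by
    haveI : K.Normal := hK ▸ h.layer_normal h.normalE
    haveI : (Subgroup.closure {z | ∃ e ∈ E, e ^ p = z}).Normal := by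
      refine ⟨fun z hz x => ?_⟩
      induction hz using Subgroup.closure_induction with
      | mem z hz =>
        obtain ⟨e, he, rfl⟩ := hz
        exact Subgroup.subset_closure ⟨x * e * x⁻¹, h.normalE.conj_mem e he x, conj_pow⟩
      | one => simp
      | mul a b _ _ iha ihb =>
        rw [show x * (a * b) * x⁻¹ = (x * a * x⁻¹) * (x * b * x⁻¹) by group]; exact mul_mem iha ihb
      | inv a _ iha => rw [show x * a⁻¹ * x⁻¹ = (x * a * x⁻¹)⁻¹ by group]; exact inv_mem iha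
    rw [hJ]
    exact Subgroup.sup_normal _ _
  have d : Section p E U J := ⟨hJn, h.le, h.comm,
    fun x hx u hu => hKJ (hK ▸ comm_mem_layer hx hu), fun u hu => hKJ (hK ▸ pow_mem_layer hu)⟩
  have hJpow : ∀ e ∈ E, e ^ p ∈ J := fun e he =>
    hJ ▸ Subgroup.mem_sup_right (Subgroup.subset_closure ⟨e, he, rfl⟩)
  have hJinv : ∀ f, IsAuto E f → ∀ x ∈ J, f x ∈ J := by
    intro f hf x hx
    rw [hJ] at hx
    obtain ⟨X, hX⟩ : ∃ X : Subgroup G, ∀ z, z ∈ X ↔ z ∈ E ∧ f z ∈ J :=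
      ⟨{ carrier := {z | z ∈ E ∧ f z ∈ J}
         one_mem' := ⟨E.one_mem, by rw [map_one_of_mul hf.mul]; exact J.one_mem⟩
         mul_mem' := fun {u v} hu hv => ⟨E.mul_mem hu.1 hv.1, by
           rw [hf.mul u hu.1 v hv.1]; exact J.mul_mem hu.2 hv.2⟩
         inv_mem' := fun {u} hu => ⟨E.inv_mem hu.1, by
           rw [map_inv_of_mul hf.mul hu.1]; exact J.inv_mem hu.2⟩ }, fun z => Iff.rfl⟩
    refine ((hX x).1 ((sup_le ?_ ?_ : K ⊔ Subgroup.closure {z | ∃ e ∈ E, e ^ p = z} ≤ X) hx)).2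
    · intro z hz
      refine (hX z).2 ⟨h.le (hKU hz), hKJ ?_⟩
      rw [hK]
      exact map_mem_layer h.le h.normalU hf.mem hf.mul (h.map_mem hf.mem hf.mul) z (hK ▸ hz)
    · refine (Subgroup.closure_le _).2 fun z ⟨e, he, hz⟩ => hz ▸ (hX _).2 ⟨E.pow_mem he p, ?_⟩
      rw [map_pow_of_mul hf.mul he]
      exact hJpow _ (hf.mem e he)
  haveI := hJn
  haveI := h.normalU
  obtain ⟨q, hq⟩ : ∃ q, q = QuotientGroup.mk' J := ⟨_, rfl⟩
  have hq1 : ∀ x, q x = 1 ↔ x ∈ J := fun x => hq ▸ d.mk_eq_one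
  obtain ⟨R, hR⟩ : ∃ R : Subgroup G, ∀ x, x ∈ R ↔ x ∈ E ∧ ∀ y ∈ E, Commute (q x) (q y) :=
    ⟨E ⊓ (Subgroup.centralizer ((E.map q : Subgroup (G ⧸ J)) : Set (G ⧸ J))).comap q, fun x => by
      rw [Subgroup.mem_inf, Subgroup.mem_comap, Subgroup.mem_centralizer_iff]
      exact ⟨fun hx => ⟨hx.1, fun y hy => (hx.2 _ ⟨y, hy, rfl⟩).symm⟩,
        fun hx => ⟨hx.1, fun z ⟨y, hy, hz⟩ => hz ▸ (hx.2 y hy).eq.symm⟩⟩⟩
  have hRcases : R = U ∨ R = E := by
    refine hirr R (fun u hu => (hR u).2 ⟨h.le hu, fun y hy => ?_⟩) (fun x hx => ((hR x).1 hx).1) fun f hf x hx => ?_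
    · exact (hq ▸ d.commute hy hu).symm
    · obtain ⟨hxE, hxc⟩ := (hR x).1 hx
      refine (hR _).2 ⟨hf.mem x hxE, fun y hy => ?_⟩
      obtain ⟨y', hy', rfl⟩ := hf.surj hy
      rw [← commutatorElement_eq_one_iff_commute, ← map_commutatorElement, ← map_comm_of_mul hf.mul hxE hy', hq1]
      refine hJinv f hf _ ?_
      rw [← hq1, map_commutatorElement]
      exact commutatorElement_eq_one_iff_commute.2 (hxc y' hy')
  rcases hRcases with hRU | hRE
  swap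
  · intro x hx y hy
    rw [← hq1, map_commutatorElement]
    exact commutatorElement_eq_one_iff_commute.2 (((hR x).1 (hRE.ge hx)).2 y hy)
  exfalso
  obtain ⟨S, hS⟩ : ∃ S : G → Subgroup G, ∀ e, S e = U ⊔ Subgroup.zpowers e := ⟨_, fun e => rfl⟩
  have hUS : ∀ e, U ≤ S e := fun e => hS e ▸ le_sup_left
  have heS : ∀ e, e ∈ S e := fun e => hS e ▸ Subgroup.mem_sup_right (Subgroup.mem_zpowers e)
  have hSE : ∀ {e}, e ∈ E → S e ≤ E := fun he => hS _ ▸ sup_le h.le (Subgroup.zpowers_le.2 he)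
  obtain ⟨e₁, he₁, he₁U⟩ : ∃ e ∈ E, e ∉ U := by
    by_contra hno
    push Not at hno
    have := Subgroup.card_le_of_le (show E ≤ U from hno)
    rw [h.card] at this
    have : 1 * Nat.card U < p ^ 3 * Nat.card U :=
      Nat.mul_lt_mul_of_pos_right (Nat.one_lt_pow (by norm_num) hp.out.one_lt) Nat.card_pos
    omega
  have hgt : ∀ {e}, e ∉ U → Nat.card U * p ≤ Nat.card (S e) := fun he =>
    mul_card_le_of_lt hG (lt_of_le_of_ne (hUS _) fun h' => he (h' ▸ heS _))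
  have hle : ∀ {e}, e ∈ E → Nat.card (S e) ≤ Nat.card U * p := by
    intro e he
    haveI := h.normalU
    rw [card_eq_mul_map (hUS e), hS, Subgroup.map_sup, (Subgroup.map_eq_bot_iff U).2 (by
      rw [QuotientGroup.ker_mk']), bot_sup_eq, MonoidHom.map_zpowers, Nat.card_zpowers]
    refine Nat.mul_le_mul_left _ (orderOf_le_of_pow_eq_one hp.out.pos ?_)
    rw [← map_pow]
    exact (QuotientGroup.eq_one_iff _).2 (h.pow e he)
  have habel : ∀ {e}, e ∈ E → ∀ x ∈ S e, ∀ y ∈ S e, Commute (q x) (q y) := by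
    intro e he x hx y hy
    rw [hS, Subgroup.mem_sup_of_normal_left] at hx hy
    obtain ⟨u, hu, z, hz, rfl⟩ := hx
    obtain ⟨u', hu', z', hz', rfl⟩ := hy
    obtain ⟨i, rfl⟩ := Subgroup.mem_zpowers_iff.1 hz
    obtain ⟨j, rfl⟩ := Subgroup.mem_zpowers_iff.1 hz'
    rw [map_mul, map_mul]
    refine Commute.mul_left ((hq ▸ d.commute (h.le hu) hu').mul_right ((hq ▸ d.commute (E.zpow_mem he j) hu).symm))
      ((hq ▸ d.commute (E.zpow_mem he i) hu').mul_right ?_)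
    rw [map_zpow, map_zpow]
    exact Commute.zpow_zpow_self _ i j
  obtain ⟨A, hA⟩ : ∃ A, A = U.map q := ⟨_, rfl⟩
  have hA2 : Nat.card A ≤ p ^ 2 := by
    have h1 : Nat.card (S e₁) ≤ p ^ 3 * Nat.card J := by
      refine card_le_rank hsr (hJU.trans (hUS e₁)) (fun x _ z hz => hJn.conj_mem z hz x) (fun x hx y hy => ?_)
        fun x hx => hJpow x (hSE he₁ hx)
      rw [← hq1, map_commutatorElement]
      exact commutatorElement_eq_one_iff_commute.2 (habel he₁ x hx y hy)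
    have h2 := (hgt he₁U).trans h1
    rw [card_eq_mul_map hJU, ← hq, ← hA] at h2
    refine Nat.le_of_mul_le_mul_left ?_ (Nat.mul_pos (Nat.card_pos (α := J)) hp.out.pos)
    calc Nat.card J * p * Nat.card A = Nat.card J * Nat.card A * p := by ring
      _ ≤ p ^ 3 * Nat.card J := h2
      _ = Nat.card J * p * p ^ 2 := by ring
  -- a basis
  obtain ⟨e₂, he₂, he₂S⟩ : ∃ e ∈ E, e ∉ S e₁ := by
    by_contra hno
    push Not at hno
    have := (Subgroup.card_le_of_le (show E ≤ S e₁ from hno)).trans (hle he₁)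
    rw [h.card, mul_comm (Nat.card U)] at this
    have hlt : p * Nat.card U < p ^ 3 * Nat.card U := Nat.mul_lt_mul_of_pos_right
      (by conv_lhs => rw [← pow_one p]
          exact Nat.pow_lt_pow_right hp.out.one_lt (by norm_num)) Nat.card_pos
    omega
  obtain ⟨P₂, hP₂⟩ : ∃ P₂, P₂ = S e₁ ⊔ S e₂ := ⟨_, rfl⟩
  obtain ⟨e₃, he₃, he₃P⟩ : ∃ e ∈ E, e ∉ P₂ := by
    by_contra hno
    push Not at hno
    have h1 : Nat.card P₂ ≤ Nat.card U * p * p := by
      rw [card_eq_mul_map (hP₂ ▸ (hUS e₁).trans le_sup_left : U ≤ P₂), hP₂, hS, hS, Subgroup.map_sup,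
        Subgroup.map_sup, Subgroup.map_sup, (Subgroup.map_eq_bot_iff U).2 (by
          rw [QuotientGroup.ker_mk']), bot_sup_eq, bot_sup_eq, MonoidHom.map_zpowers,
        MonoidHom.map_zpowers, mul_assoc]
      refine Nat.mul_le_mul_left _ ?_
      have hcm : ∀ x ∈ Subgroup.zpowers (QuotientGroup.mk' U e₁), ∀ y ∈ Subgroup.zpowers (QuotientGroup.mk' U e₂),
          Commute x y := by
        intro x hx y hy
        obtain ⟨i, rfl⟩ := Subgroup.mem_zpowers_iff.1 hx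
        obtain ⟨j, rfl⟩ := Subgroup.mem_zpowers_iff.1 hy
        refine Commute.zpow_zpow (commutatorElement_eq_one_iff_commute.1 ?_) i j
        rw [← map_commutatorElement]
        exact (QuotientGroup.eq_one_iff _).2 (h.comm e₁ he₁ e₂ he₂)
      have ho : ∀ {e}, e ∈ E → Nat.card (Subgroup.zpowers (QuotientGroup.mk' U e)) ≤ p := fun {e} he => by
        rw [Nat.card_zpowers]
        refine orderOf_le_of_pow_eq_one hp.out.pos ?_
        rw [← map_pow]
        exact (QuotientGroup.eq_one_iff _).2 (h.pow e he)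
      have hr := MonoidHom.noncommCoprod_range (Subgroup.zpowers (QuotientGroup.mk' U e₁)).subtype
        (Subgroup.zpowers (QuotientGroup.mk' U e₂)).subtype (fun x y => hcm x x.2 y y.2)
      rw [Subgroup.range_subtype, Subgroup.range_subtype] at hr
      rw [← hr]
      refine (Nat.card_le_card_of_surjective _ (MonoidHom.rangeRestrict_surjective _)).trans ?_
      rw [Nat.card_prod]
      exact Nat.mul_le_mul (ho he₁) (ho he₂)
    have := (Subgroup.card_le_of_le (show E ≤ P₂ from hno)).trans h1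
    rw [h.card] at this
    have hlt : Nat.card U * p * p < p ^ 3 * Nat.card U := by
      calc Nat.card U * p * p = p ^ 2 * Nat.card U := by ring
        _ < _ := Nat.mul_lt_mul_of_pos_right (Nat.pow_lt_pow_right hp.out.one_lt (by norm_num)) Nat.card_pos
    omega
  have hinvS : ∀ {X : Subgroup G} {x : G} {r : ZMod p}, U ≤ X → x ∈ E → r ≠ 0 → x ^ r.val ∈ X → x ∈ X := by
    intro X x r hUX hx hr hxr
    have h2 : x ^ (r.val * (r⁻¹).val) ∈ X := by rw [pow_mul]; exact X.pow_mem hxr _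
    have hmod : r.val * (r⁻¹).val % p = 1 := by
      have h3 : ((r.val * (r⁻¹).val : ℕ) : ZMod p) = ((1 : ℕ) : ZMod p) := by
        push_cast
        rw [ZMod.natCast_zmod_val, ZMod.natCast_zmod_val, mul_inv_cancel₀ hr]
      rw [ZMod.natCast_eq_natCast_iff] at h3
      rw [h3, Nat.one_mod_eq_one.2 hp.out.one_lt.ne']
    rw [← Nat.mod_add_div (r.val * (r⁻¹).val) p, hmod, pow_add, pow_one, pow_mul] at h2
    exact (X.mul_mem_cancel_right (X.pow_mem (hUX (h.pow x hx)) _)).1 h2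
  have hv : ∀ {x y : G}, x ∈ E → y ∈ E → q ⁅x, y⁆ ∈ A := fun hx hy => hA ▸ ⟨_, h.comm _ hx _ hy, rfl⟩
  have hAp : ∀ {x}, x ∈ A → x ^ p = 1 := by
    intro x hx
    rw [hA] at hx
    obtain ⟨u, hu, rfl⟩ := hx
    exact hq ▸ d.pow_eq hu
  have hAc : ∀ {x y}, x ∈ A → y ∈ A → Commute x y := by
    intro x y hx hy
    rw [hA] at hx hy
    obtain ⟨u, hu, rfl⟩ := hx
    obtain ⟨v, hv, rfl⟩ := hy
    exact hq ▸ d.commute (h.le hu) hv
  -- an isotropic pair
  obtain ⟨e, f₀, he, hf₀, heU, hf₀S, hef⟩ : ∃ e f₀, e ∈ E ∧ f₀ ∈ E ∧ e ∉ U ∧ f₀ ∉ S e ∧ q ⁅e, f₀⁆ = 1 := by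
    obtain ⟨Φ, hΦ⟩ : ∃ Φ : ZMod p × ZMod p × ZMod p → A, ∀ v, (Φ v : G ⧸ J) =
        pw (q ⁅e₁, e₂⁆) v.1 * pw (q ⁅e₁, e₃⁆) v.2.1 * pw (q ⁅e₂, e₃⁆) v.2.2 :=
      ⟨fun v => ⟨_, A.mul_mem (A.mul_mem (A.pow_mem (hv he₁ he₂) _) (A.pow_mem (hv he₁ he₃) _))
        (A.pow_mem (hv he₂ he₃) _)⟩, fun v => rfl⟩
    have hni : ¬ Function.Injective Φ := fun hi => by
      have := Nat.card_le_card_of_injective Φ hi
      rw [Nat.card_prod, Nat.card_prod, Nat.card_zmod] at this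
      have hlt : p ^ 2 < p * (p * p) := by
        rw [show p * (p * p) = p ^ 3 by ring]; exact Nat.pow_lt_pow_right hp.out.one_lt (by norm_num)
      omega
    rw [Function.Injective] at hni
    push Not at hni
    obtain ⟨v, v', hvv, hne⟩ := hni
    obtain ⟨r, hr⟩ : ∃ r, r = v - v' := ⟨_, rfl⟩
    have hr0 : r ≠ 0 := hr ▸ sub_ne_zero.2 hne
    have hrel : pw (q ⁅e₁, e₂⁆) r.1 * pw (q ⁅e₁, e₃⁆) r.2.1 * pw (q ⁅e₂, e₃⁆) r.2.2 = 1 := by
      have e1 : (Φ v : G ⧸ J) = Φ v' := by rw [hvv]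
      rw [hΦ, hΦ] at e1
      have hr' : r = (v.1 - v'.1, v.2.1 - v'.2.1, v.2.2 - v'.2.2) := by rw [hr]; rfl
      have hm : ∀ {z}, z ∈ A → ∀ i : ZMod p, pw z i ∈ A := fun hz i => A.pow_mem hz _
      have c12 := hm (hv he₁ he₂)
      have c13 := hm (hv he₁ he₃)
      have c23 := hm (hv he₂ he₃)
      have hh : ∀ r : ZMod p × ZMod p × ZMod p, ∀ r' : ZMod p × ZMod p × ZMod p,
          pw (q ⁅e₁, e₂⁆) (r.1 + r'.1) * pw (q ⁅e₁, e₃⁆) (r.2.1 + r'.2.1) * pw (q ⁅e₂, e₃⁆) (r.2.2 + r'.2.2) =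
          (pw (q ⁅e₁, e₂⁆) r.1 * pw (q ⁅e₁, e₃⁆) r.2.1 * pw (q ⁅e₂, e₃⁆) r.2.2) *
          (pw (q ⁅e₁, e₂⁆) r'.1 * pw (q ⁅e₁, e₃⁆) r'.2.1 * pw (q ⁅e₂, e₃⁆) r'.2.2) := by
        intro r r'
        rw [pw_add (hAp (hv he₁ he₂)), pw_add (hAp (hv he₁ he₃)), pw_add (hAp (hv he₂ he₃)),
          (hAc (c12 r'.1) (c13 r.2.1)).mul_mul_mul_comm,
          (hAc (A.mul_mem (c12 r'.1) (c13 r'.2.1)) (c23 r.2.2)).mul_mul_mul_comm]
      have e2 := hh r v'
      rw [hr'] at e2 ⊢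
      simp only [sub_add_cancel] at e2 ⊢
      exact mul_eq_right.1 (e2.symm.trans e1)
    have h23 : ∀ {w x y}, w ∈ E → x ∈ E → y ∈ E → ∀ i j : ℕ,
        q ⁅w, x ^ i * y ^ j⁆ = q ⁅w, x⁆ ^ i * q ⁅w, y⁆ ^ j := by
      intro w x y hw hx hy i j
      have hpowr : ∀ {w z}, w ∈ E → z ∈ E → ∀ n : ℕ, q ⁅w, z ^ n⁆ = q ⁅w, z⁆ ^ n := by
        intro w z hw hz n
        induction n with
        | zero => simp
        | succ n ih =>
          rw [pow_succ, show q ⁅w, z ^ n * z⁆ = q ⁅w, z ^ n⁆ * q ⁅w, z⁆ from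
            hq ▸ d.comm_mul_right hw (E.pow_mem hz n) hz, ih, pow_succ]
      rw [show q ⁅w, x ^ i * y ^ j⁆ = q ⁅w, x ^ i⁆ * q ⁅w, y ^ j⁆ from
        hq ▸ d.comm_mul_right hw (E.pow_mem hx i) (E.pow_mem hy j), hpowr hw hx, hpowr hw hy]
    by_cases h0 : r.2.2 = 0
    · refine ⟨e₁, e₂ ^ r.1.val * e₃ ^ r.2.1.val, he₁, E.mul_mem (E.pow_mem he₂ _) (E.pow_mem he₃ _), he₁U,
        fun hin => ?_, ?_⟩
      · by_cases h1 : r.2.1 = 0
        · have h2 : r.1 ≠ 0 := fun e0 => hr0 (Prod.ext e0 (Prod.ext h1 h0))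
          rw [h1, ZMod.val_zero, pow_zero, mul_one] at hin
          exact he₂S (hinvS (hUS e₁) he₂ h2 hin)
        · refine he₃P (hinvS (hP₂ ▸ (hUS e₁).trans le_sup_left) he₃ h1 ?_)
          have := P₂.mul_mem (P₂.inv_mem (hP₂ ▸ Subgroup.mem_sup_right (pow_mem (heS e₂) r.1.val) :
            e₂ ^ r.1.val ∈ P₂)) (hP₂ ▸ Subgroup.mem_sup_left hin : e₂ ^ r.1.val * e₃ ^ r.2.1.val ∈ P₂)
          rwa [inv_mul_cancel_left] at this
      · rw [h23 he₁ he₂ he₃]
        have := hrel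
        rwa [h0, pw_zero, mul_one] at this
    · obtain ⟨α, hα⟩ : ∃ α, α = r.2.1 / r.2.2 := ⟨_, rfl⟩
      refine ⟨e₂ * e₁ ^ α.val, e₃ ^ r.2.2.val * e₁ ^ (-r.1).val, E.mul_mem he₂ (E.pow_mem he₁ _),
        E.mul_mem (E.pow_mem he₃ _) (E.pow_mem he₁ _), fun hin => ?_, fun hin => ?_, ?_⟩
      · refine he₂S ?_
        have := (S e₁).mul_mem (hUS e₁ hin) ((S e₁).inv_mem (pow_mem (heS e₁) α.val))
        rwa [mul_inv_cancel_right] at this
      · refine he₃P (hinvS (hP₂ ▸ (hUS e₁).trans le_sup_left) he₃ h0 ?_)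
        have hSle : S (e₂ * e₁ ^ α.val) ≤ P₂ := by
          rw [hS, hP₂]
          refine sup_le ((hUS e₁).trans le_sup_left) (Subgroup.zpowers_le.2 ?_)
          exact mul_mem (Subgroup.mem_sup_right (heS e₂)) (Subgroup.mem_sup_left (pow_mem (heS e₁) _))
        have := P₂.mul_mem (hSle hin) (P₂.inv_mem (hP₂ ▸ Subgroup.mem_sup_left (pow_mem (heS e₁) (-r.1).val) :
          e₁ ^ (-r.1).val ∈ P₂))
        rwa [mul_inv_cancel_right] at this
      · have k1 : q ⁅e₂, e₁⁆ = (q ⁅e₁, e₂⁆)⁻¹ := by rw [← map_inv, commutatorElement_inv]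
        have k2 : ∀ n : ℕ, ∀ {z}, z ∈ E → q ⁅e₁ ^ n, z⁆ = q ⁅e₁, z⁆ ^ n := by
          intro n z hz
          induction n with
          | zero => simp
          | succ n ih =>
            rw [pow_succ, show q ⁅e₁ ^ n * e₁, z⁆ = q ⁅e₁ ^ n, z⁆ * q ⁅e₁, z⁆ from
              hq ▸ d.comm_mul_left (E.pow_mem he₁ n) he₁ hz, ih, pow_succ]
        rw [show q ⁅e₂ * e₁ ^ α.val, e₃ ^ r.2.2.val * e₁ ^ (-r.1).val⁆ =
          q ⁅e₂, e₃ ^ r.2.2.val * e₁ ^ (-r.1).val⁆ * q ⁅e₁ ^ α.val, e₃ ^ r.2.2.val * e₁ ^ (-r.1).val⁆ from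
          hq ▸ d.comm_mul_left he₂ (E.pow_mem he₁ _) (E.mul_mem (E.pow_mem he₃ _) (E.pow_mem he₁ _)),
          k2 _ (E.mul_mem (E.pow_mem he₃ _) (E.pow_mem he₁ _)), h23 he₂ he₃ he₁, h23 he₁ he₃ he₁,
          commutatorElement_self, map_one, one_pow, mul_one, k1]
        show pw (q ⁅e₂, e₃⁆) r.2.2 * pw (q ⁅e₁, e₂⁆)⁻¹ (-r.1) * pw (pw (q ⁅e₁, e₃⁆) r.2.2) α = 1
        have e4 : pw (q ⁅e₁, e₂⁆)⁻¹ (-r.1) = pw (q ⁅e₁, e₂⁆) r.1 := by
          conv_rhs => rw [← neg_neg r.1, pw_neg (hAp (hv he₁ he₂))]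
          exact inv_pow _ _
        rw [e4, pw_mul (hAp (hv he₁ he₃)), hα, mul_div_cancel₀ _ h0]
        have hm : ∀ {z}, z ∈ A → ∀ i : ZMod p, pw z i ∈ A := fun hz i => A.pow_mem hz _
        rw [(hAc (hm (hv he₂ he₃) r.2.2) (hm (hv he₁ he₂) r.1)).eq, mul_assoc,
          (hAc (hm (hv he₂ he₃) r.2.2) (hm (hv he₁ he₃) r.2.1)).eq, ← mul_assoc]
        exact hrel
  -- the isotropic plane
  obtain ⟨H, hH⟩ : ∃ H, H = S e ⊔ S f₀ := ⟨_, rfl⟩
  have hUH : U ≤ H := hH ▸ (hUS e).trans le_sup_left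
  have hHE : H ≤ E := hH ▸ sup_le (hSE he) (hSE hf₀)
  have hHab : ∀ x ∈ H, ∀ y ∈ H, Commute (q x) (q y) := by
    have hgen : ∀ x ∈ H, q x ∈ Subgroup.centralizer (((S e ⊔ S f₀).map q : Subgroup (G ⧸ J)) : Set (G ⧸ J)) := by
      intro x hx
      have hle : (H.map q) ≤ Subgroup.centralizer (((S e ⊔ S f₀).map q : Subgroup (G ⧸ J)) : Set (G ⧸ J)) := by
        rw [hH, Subgroup.le_centralizer_iff]
        have hA1 : ∀ z ∈ S e, ∀ z' ∈ S f₀, Commute (q z) (q z') := by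
          intro z hz z' hz'
          rw [hS, Subgroup.mem_sup_of_normal_left] at hz hz'
          obtain ⟨u, hu, z, hzz, rfl⟩ := hz
          obtain ⟨u', hu', z', hzz', rfl⟩ := hz'
          obtain ⟨i, rfl⟩ := Subgroup.mem_zpowers_iff.1 hzz
          obtain ⟨j, rfl⟩ := Subgroup.mem_zpowers_iff.1 hzz'
          rw [map_mul, map_mul]
          refine Commute.mul_left ((hq ▸ d.commute (h.le hu) hu').mul_right
              (hq ▸ d.commute (E.zpow_mem hf₀ j) hu).symm)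
            ((hq ▸ d.commute (E.zpow_mem he i) hu').mul_right ?_)
          rw [map_zpow, map_zpow]
          refine Commute.zpow_zpow (commutatorElement_eq_one_iff_commute.1 ?_) i j
          rw [← map_commutatorElement]; exact hef
        rw [Subgroup.map_sup, sup_le_iff]
        constructor
        · rintro _ ⟨z, hz, rfl⟩
          rw [Subgroup.mem_centralizer_iff]
          have : Subgroup.map q (S e) ⊔ Subgroup.map q (S f₀) ≤ Subgroup.centralizer ({q z} : Set (G ⧸ J)) := by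
            refine sup_le ?_ ?_ <;> rintro _ ⟨w, hw, rfl⟩ <;> rw [Subgroup.mem_centralizer_singleton_iff]
            · exact (habel he z hz w hw).eq.symm
            · exact (hA1 z hz w hw).eq.symm
          exact fun w hw => Subgroup.mem_centralizer_singleton_iff.1 (this hw)
        · rintro _ ⟨z, hz, rfl⟩
          rw [Subgroup.mem_centralizer_iff]
          have : Subgroup.map q (S e) ⊔ Subgroup.map q (S f₀) ≤ Subgroup.centralizer ({q z} : Set (G ⧸ J)) := by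
            refine sup_le ?_ ?_ <;> rintro _ ⟨w, hw, rfl⟩ <;> rw [Subgroup.mem_centralizer_singleton_iff]
            · exact (hA1 w hw z hz).eq
            · exact (habel hf₀ z hz w hw).eq.symm
          exact fun w hw => Subgroup.mem_centralizer_singleton_iff.1 (this hw)
      exact hle ⟨x, hx, rfl⟩
    intro x hx y hy
    exact (Subgroup.mem_centralizer_iff.1 (hgen x hx) (q y) ⟨y, hH ▸ hy, rfl⟩).symm
  have hHcard : Nat.card U * p * p ≤ Nat.card H := by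
    have h1 := hgt heU
    have h2 : S e < H := lt_of_le_of_ne (hH ▸ le_sup_left) fun h' => hf₀S (by
      rw [h', hH]; exact Subgroup.mem_sup_right (heS f₀))
    exact (Nat.mul_le_mul_right p h1).trans (mul_card_le_of_lt hG h2)
  have hHne : H ≠ E := fun hHE' => he₁U (hRU.le ((hR e₁).2
    ⟨he₁, fun y hy => hHab e₁ (hHE'.ge he₁) y (hHE'.ge hy)⟩))
  have hHU : H ≠ U := fun h' => by
    rw [h'] at hHcard
    have : Nat.card U * 1 < Nat.card U * (p * p) :=
      Nat.mul_lt_mul_of_pos_left (Nat.one_lt_mul_iff.2 ⟨hp.out.pos, hp.out.pos, Or.inl hp.out.one_lt⟩) Nat.card_pos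
    rw [mul_assoc] at hHcard
    omega
  obtain ⟨f, hf, x₁, hx₁, hfx₁⟩ : ∃ f, IsAuto E f ∧ ∃ x ∈ H, f x ∉ H := by
    by_contra hno
    push Not at hno
    rcases hirr H hUH hHE hno with h1 | h1
    exacts [hHU h1, hHne h1]
  obtain ⟨H', hH'⟩ : ∃ H' : Subgroup G, ∀ z, z ∈ H' ↔ ∃ x ∈ H, f x = z :=
    ⟨{ carrier := {z | ∃ x ∈ H, f x = z}
       one_mem' := ⟨1, H.one_mem, map_one_of_mul hf.mul⟩
       mul_mem' := by
         rintro a b ⟨x, hx, rfl⟩ ⟨y, hy, rfl⟩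
         exact ⟨x * y, H.mul_mem hx hy, hf.mul x (hHE hx) y (hHE hy)⟩
       inv_mem' := by
         rintro a ⟨x, hx, rfl⟩
         exact ⟨x⁻¹, H.inv_mem hx, map_inv_of_mul hf.mul (hHE hx)⟩ }, fun z => Iff.rfl⟩
  have hH'c : Nat.card H' = Nat.card H := by
    refine (Nat.card_eq_of_bijective (fun x : H => (⟨f x, (hH' _).2 ⟨x, x.2, rfl⟩⟩ : H')) ⟨?_, ?_⟩).symm
    · exact fun a b e => Subtype.ext (hf.inj (hHE a.2) (hHE b.2) (congrArg Subtype.val e))
    · intro z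
      obtain ⟨x, hx, hxz⟩ := (hH' z).1 z.2
      exact ⟨⟨x, hx⟩, Subtype.ext hxz⟩
  have hH'E : H' ≤ E := fun z hz => by
    obtain ⟨x, hx, rfl⟩ := (hH' z).1 hz; exact hf.mem x (hHE hx)
  have hHp : Nat.card H * p ≤ Nat.card E := mul_card_le_of_lt hG (lt_of_le_of_ne hHE hHne)
  have hsup : H ⊔ H' = E := by
    refine Subgroup.eq_of_le_of_card_ge (sup_le hHE hH'E) ?_
    have hlt : H < H ⊔ H' := lt_of_le_of_ne le_sup_left fun e' => hfx₁ (e' ▸
      Subgroup.mem_sup_right ((hH' _).2 ⟨x₁, hx₁, rfl⟩))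
    calc Nat.card E = Nat.card U * p * p * p := by rw [h.card]; ring
      _ ≤ Nat.card H * p := Nat.mul_le_mul_right p hHcard
      _ ≤ _ := mul_card_le_of_lt hG hlt
  obtain ⟨z, hzH, hzH', hzU⟩ : ∃ z, z ∈ H ∧ z ∈ H' ∧ z ∉ U := by
    by_contra hno
    push Not at hno
    have h1 := Subgroup.relIndex_le_of_le_right (H := H) hH'E (by
      exact fun e0 => (Nat.card_pos (α := E)).ne' (by
        rw [← Subgroup.relIndex_mul_relIndex ⊥ H E bot_le hHE |>.trans (Subgroup.relIndex_bot_left E)]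
        rw [e0, mul_zero]))
    have h2 : Nat.card H * H.relIndex E = Nat.card E := by
      have := Subgroup.relIndex_mul_relIndex ⊥ H E bot_le hHE
      rwa [Subgroup.relIndex_bot_left, Subgroup.relIndex_bot_left] at this
    have h3 : Nat.card (H ⊓ H' : Subgroup G) * H.relIndex H' = Nat.card H' := by
      have := Subgroup.relIndex_mul_relIndex ⊥ (H ⊓ H') H' bot_le inf_le_right
      rwa [Subgroup.relIndex_bot_left, Subgroup.relIndex_bot_left, Subgroup.inf_relIndex_right] at this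
    have h4 : Nat.card (H ⊓ H' : Subgroup G) ≤ Nat.card U :=
      Subgroup.card_le_of_le fun z hz => hno z hz.1 hz.2
    have h5 : Nat.card H * Nat.card H' ≤ Nat.card U * Nat.card E := by
      rw [← h3, ← h2]
      calc Nat.card H * (Nat.card (H ⊓ H' : Subgroup G) * H.relIndex H')
          ≤ Nat.card H * (Nat.card U * H.relIndex E) := Nat.mul_le_mul_left _ (Nat.mul_le_mul h4 h1)
        _ = _ := by ring
    rw [hH'c, h.card] at h5
    have h6 : Nat.card U * p * p * (Nat.card U * p * p) ≤ Nat.card U * (p ^ 3 * Nat.card U) :=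
      (Nat.mul_le_mul hHcard hHcard).trans h5
    have h7 : p ^ 3 * (Nat.card U * Nat.card U) < p ^ 4 * (Nat.card U * Nat.card U) :=
      Nat.mul_lt_mul_of_pos_right (Nat.pow_lt_pow_right hp.out.one_lt (by norm_num))
        (Nat.mul_pos Nat.card_pos Nat.card_pos)
    have h8 : Nat.card U * p * p * (Nat.card U * p * p) = p ^ 4 * (Nat.card U * Nat.card U) := by ring
    have h9 : Nat.card U * (p ^ 3 * Nat.card U) = p ^ 3 * (Nat.card U * Nat.card U) := by ring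
    omega
  refine hzU (hRU.le ((hR z).2 ⟨hHE hzH, fun y hy => ?_⟩))
  have hH'ab : ∀ x ∈ H', ∀ y ∈ H', Commute (q x) (q y) := by
    intro x hx y hy
    obtain ⟨x', hx', rfl⟩ := (hH' x).1 hx
    obtain ⟨y', hy', rfl⟩ := (hH' y).1 hy
    rw [← commutatorElement_eq_one_iff_commute, ← map_commutatorElement,
      ← map_comm_of_mul hf.mul (hHE hx') (hHE hy'), hq1]
    refine hJinv f hf _ ?_
    rw [← hq1, map_commutatorElement]
    exact commutatorElement_eq_one_iff_commute.2 (hHab x' hx' y' hy')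
  have hle : (H ⊔ H').map q ≤ Subgroup.centralizer ({q z} : Set (G ⧸ J)) := by
    rw [Subgroup.map_sup, sup_le_iff]
    constructor <;> rintro _ ⟨w, hw, rfl⟩ <;> rw [Subgroup.mem_centralizer_singleton_iff]
    · exact (hHab z hzH w hw).eq.symm
    · exact (hH'ab z hzH' w hw).eq.symm
  exact (Subgroup.mem_centralizer_singleton_iff.1 (hle ⟨y, hsup.ge hy, rfl⟩)).symm

/-- In the irreducible case the Frattini subgroup is fixed by all automorphisms, and so is `E`. -/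
theorem stable_of_irreducible [Finite G] (hG : IsPGroup p G) (hp2 : p ≠ 2)
    (hsr : Cfsg.SectionalPRankLE p 3 G)
    (hirr : ∀ N : Subgroup G, U ≤ N → N ≤ E → (∀ f, IsAuto E f → ∀ x ∈ N, f x ∈ N) → N = U ∨ N = E)
    (hnc : ¬ ∃ a₀ : G, ∀ x : G, ∀ e ∈ E, ⁅x, e⁆ ∈ Subgroup.zpowers a₀ ⊔ U) (g : MulAut G) :
    E.map g.toMonoidHom = E := by
  classical
  obtain ⟨K, hK⟩ : ∃ K, K = layer p E U := ⟨_, rfl⟩
  have hJ := h.comm_mem_of_irreducible hG hp2 hsr hirr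
  have hne : ∃ x ∈ E, x ∉ U := by
    by_contra hno
    push Not at hno
    have := Subgroup.card_le_of_le (show E ≤ U from hno)
    rw [h.card] at this
    have : 1 * Nat.card U < p ^ 3 * Nat.card U :=
      Nat.mul_lt_mul_of_pos_right (Nat.one_lt_pow (by norm_num) hp.out.one_lt) Nat.card_pos
    omega
  obtain ⟨x₀, ⟨hx₀, hx₀U⟩, hmin⟩ := Set.exists_min_image {x : G | x ∈ E ∧ x ∉ U} orderOf (Set.toFinite _) hne
  have hfU : ∀ f, IsAuto E f → ∀ x ∈ E, x ∉ U → f x ∉ U := by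
    intro f hf x hx hxU hfx
    obtain ⟨X, hX⟩ : ∃ X : Subgroup G, ∀ z, z ∈ X ↔ z ∈ E ∧ f z ∈ U :=
      ⟨{ carrier := {z | z ∈ E ∧ f z ∈ U}
         one_mem' := ⟨E.one_mem, by rw [map_one_of_mul hf.mul]; exact U.one_mem⟩
         mul_mem' := fun {u v} hu hv => ⟨E.mul_mem hu.1 hv.1, by
           rw [hf.mul u hu.1 v hv.1]; exact U.mul_mem hu.2 hv.2⟩
         inv_mem' := fun {u} hu => ⟨E.inv_mem hu.1, by
           rw [map_inv_of_mul hf.mul hu.1]; exact U.inv_mem hu.2⟩ }, fun z => Iff.rfl⟩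
    have hUX : U ≤ X := fun u hu => (hX u).2 ⟨h.le hu, h.map_mem hf.mem hf.mul u hu⟩
    have hc : Nat.card X ≤ Nat.card U :=
      Nat.card_le_card_of_injective (fun z : X => (⟨f z, ((hX z).1 z.2).2⟩ : U))
        fun a b e => Subtype.ext (hf.inj ((hX a).1 a.2).1 ((hX b).1 b.2).1 (congrArg Subtype.val e))
    exact hxU ((Subgroup.eq_of_le_of_card_ge hUX hc).ge ((hX x).2 ⟨hx, hfx⟩))
  -- the powers of elements of least order generate `U`
  obtain ⟨J₀, hJ₀⟩ : ∃ J₀, J₀ = Subgroup.closure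
      {z | ∃ x ∈ E, x ∉ U ∧ orderOf x = orderOf x₀ ∧ x ^ p = z} := ⟨_, rfl⟩
  have hJ₀U : J₀ ≤ U := hJ₀ ▸ (Subgroup.closure_le _).2 fun z ⟨x, hx, _, _, hz⟩ => hz ▸ h.pow x hx
  haveI hJ₀n : J₀.Normal := by
    subst hJ₀
    refine ⟨fun z hz y => ?_⟩
    induction hz using Subgroup.closure_induction with
    | mem z hz =>
      obtain ⟨x, hx, hxU, ho, rfl⟩ := hz
      exact Subgroup.subset_closure ⟨y * x * y⁻¹, h.normalE.conj_mem x hx y,
        hfU _ (isAuto_conj h.normalE y) x hx hxU,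
        ((isAuto_conj h.normalE y).orderOf_eq hx).trans ho, conj_pow⟩
    | one => simp
    | mul a b _ _ iha ihb =>
      rw [show y * (a * b) * y⁻¹ = (y * a * y⁻¹) * (y * b * y⁻¹) by group]; exact mul_mem iha ihb
    | inv a _ iha => rw [show y * a⁻¹ * y⁻¹ = (y * a * y⁻¹)⁻¹ by group]; exact inv_mem iha
  haveI := h.normalU
  have hUJ₀ : U ≤ J₀ := by
    refine le_of_le_sup (E := E) hG hJ₀U fun X hXn hJX hXc hXp => ?_
    have hKX : K ≤ X := hK ▸ layer_le_iff.2 ⟨hXc, hXp⟩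
    have d : Section p E U K := hK ▸ h.isSection
    haveI := d.normal
    obtain ⟨X₀, hX₀⟩ : ∃ X₀, X₀ = J₀ ⊔ K := ⟨_, rfl⟩
    have hX₀X : X₀ ≤ X := hX₀ ▸ sup_le hJX hKX
    haveI hX₀n : X₀.Normal := hX₀ ▸ Subgroup.sup_normal _ _
    obtain ⟨Y, hY⟩ : ∃ Y : Subgroup G, ∀ z, z ∈ Y ↔ z ∈ E ∧ z ^ p ∈ X₀ := by
      have hmul : ∀ {u v}, u ∈ E → v ∈ E → u ^ p ∈ X₀ → v ^ p ∈ X₀ → (u * v) ^ p ∈ X₀ := by
        intro u v hu hv h1 h2
        have e := d.mul_pow hp2 hu hv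
        rw [← map_mul] at e
        have h3 : ((u * v) ^ p)⁻¹ * (u ^ p * v ^ p) ∈ K := QuotientGroup.eq.1 e
        have h4 := X₀.mul_mem (X₀.mul_mem h1 h2) (X₀.inv_mem (hX₀ ▸ Subgroup.mem_sup_right h3 : _ ∈ X₀))
        rwa [mul_inv_rev, inv_inv, mul_inv_cancel_left] at h4
      exact ⟨{ carrier := {z | z ∈ E ∧ z ^ p ∈ X₀}
               one_mem' := ⟨E.one_mem, by rw [one_pow]; exact X₀.one_mem⟩
               mul_mem' := fun {u v} hu hv => ⟨E.mul_mem hu.1 hv.1, hmul hu.1 hv.1 hu.2 hv.2⟩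
               inv_mem' := fun {u} hu => ⟨E.inv_mem hu.1, by rw [inv_pow]; exact X₀.inv_mem hu.2⟩ },
        fun z => Iff.rfl⟩
    have hUY : U ≤ Y := fun u hu =>
      (hY u).2 ⟨h.le hu, hX₀ ▸ Subgroup.mem_sup_right (hK ▸ pow_mem_layer hu)⟩
    have hx₀Y : x₀ ∈ Y := (hY x₀).2 ⟨hx₀, hX₀ ▸ Subgroup.mem_sup_left
      (hJ₀ ▸ Subgroup.subset_closure ⟨x₀, hx₀, hx₀U, rfl, rfl⟩)⟩
    obtain ⟨Y₀, hY₀⟩ : ∃ Y₀, Y₀ = Subgroup.closure
        ((U : Set G) ∪ {z | ∃ x ∈ E, x ∉ U ∧ orderOf x = orderOf x₀ ∧ x = z}) := ⟨_, rfl⟩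
    have hY₀Y : Y₀ ≤ Y := hY₀ ▸ (Subgroup.closure_le _).2 (Set.union_subset hUY fun z ⟨x, hx, hxU, ho, hz⟩ =>
      hz ▸ (hY x).2 ⟨hx, hX₀ ▸ Subgroup.mem_sup_left (hJ₀ ▸ Subgroup.subset_closure ⟨x, hx, hxU, ho, rfl⟩)⟩)
    have hY₀E : Y₀ = E := by
      have hY₀le : Y₀ ≤ E := fun z hz => ((hY z).1 (hY₀Y hz)).1
      rcases hirr Y₀ (fun u hu => hY₀ ▸ Subgroup.subset_closure (Or.inl hu)) hY₀le (fun f hf z hz => by
        subst hY₀
        induction hz using Subgroup.closure_induction with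
        | mem z hz =>
          rcases hz with hz | ⟨x, hx, hxU, ho, rfl⟩
          · exact Subgroup.subset_closure (Or.inl (h.map_mem hf.mem hf.mul z hz))
          · exact Subgroup.subset_closure
              (Or.inr ⟨f x, hf.mem x hx, hfU f hf x hx hxU, (hf.orderOf_eq hx).trans ho, rfl⟩)
        | one => rw [map_one_of_mul hf.mul]; exact one_mem _
        | mul a b ha hb iha ihb => rw [hf.mul a (hY₀le ha) b (hY₀le hb)]; exact mul_mem iha ihb
        | inv a ha iha => rw [map_inv_of_mul hf.mul (hY₀le ha)]; exact inv_mem iha) with h1 | h1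
      · exact absurd (h1.le (hY₀ ▸ Subgroup.subset_closure (Or.inr ⟨x₀, hx₀, hx₀U, rfl, rfl⟩))) hx₀U
      · exact h1
    have hpX : ∀ x ∈ E, x ^ p ∈ X₀ := fun x hx => ((hY x).1 (hY₀Y (hY₀E.ge hx))).2
    refine (h.min X₀ hpX fun x hx y hy => ?_).trans hX₀X
    exact (sup_le (hK ▸ (hX₀ ▸ le_sup_right : K ≤ X₀))
      ((Subgroup.closure_le _).2 fun z ⟨e, he, hz⟩ => hz ▸ hpX e he) :
      layer p E U ⊔ Subgroup.closure {z | ∃ e ∈ E, e ^ p = z} ≤ X₀) (hJ x hx y hy)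
  -- hence `U` is fixed
  have h' := h.map_equiv g
  have hUE' : U ≤ E.map g.toMonoidHom := h.min _ (fun x _ => h'.pow_mem_E x) fun x _ y _ => h'.comm_mem_E x y
  have hUU' : U ≤ U.map g.toMonoidHom := by
    refine hUJ₀.trans (hJ₀ ▸ (Subgroup.closure_le _).2 fun z ⟨x, hx, hxU, ho, hz⟩ => hz ▸ ?_)
    have hmem : x ^ p ∈ E.map g.toMonoidHom := hUE' (h.pow x hx)
    by_contra hno
    have hv : g.symm (x ^ p) ∈ E := Subgroup.mem_map_equiv.1 hmem
    have hvU : g.symm (x ^ p) ∉ U := fun e => hno (Subgroup.mem_map_equiv.2 e)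
    have hle := hmin _ ⟨hv, hvU⟩
    rw [MulEquiv.orderOf_eq, ← ho] at hle
    have hpd : p ∣ orderOf x := by
      rcases Nat.coprime_or_dvd_of_prime hp.out (orderOf x) with hcop | hd
      · exfalso
        refine hxU ?_
        obtain ⟨n, hn⟩ := exists_pow_eq_self_of_coprime hcop
        rw [← hn]
        exact U.pow_mem (h.pow x hx) n
      · exact hd
    have hxf : IsOfFinOrder x := isOfFinOrder_of_finite x
    have hlt : orderOf (x ^ p) < orderOf x := by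
      rw [hxf.orderOf_pow, Nat.gcd_eq_right hpd]
      exact Nat.div_lt_self hxf.orderOf_pos hp.out.one_lt
    omega
  have hUeq : U.map g.toMonoidHom = U := (Subgroup.eq_of_le_of_card_ge hUU'
    (by rw [Subgroup.card_map_of_injective g.injective])).symm
  by_contra hEE
  obtain ⟨E', hE'⟩ : ∃ E', E' = E.map g.toMonoidHom := ⟨_, rfl⟩
  rw [← hE'] at hEE hUE' h'
  rw [hUeq] at h'
  have hcard : Nat.card E' = Nat.card E := by rw [hE', Subgroup.card_map_of_injective g.injective]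
  obtain ⟨s', hs', hs'E⟩ := SetLike.not_le_iff_exists.1 fun hle : E' ≤ E =>
    hEE (Subgroup.eq_of_le_of_card_ge hle hcard.ge)
  obtain ⟨e₀, he₀, he₀E'⟩ := SetLike.not_le_iff_exists.1 fun hle : E ≤ E' =>
    hEE (Subgroup.eq_of_le_of_card_ge hle hcard.le).symm
  obtain ⟨q, hq⟩ : ∃ q, q = QuotientGroup.mk' U := ⟨_, rfl⟩
  have hq1 : ∀ x, q x = 1 ↔ x ∈ U := fun x => hq ▸ QuotientGroup.eq_one_iff x
  have hEc : ∀ x ∈ E, ∀ y ∈ E, Commute (q x) (q y) := fun x hx y hy =>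
    commutatorElement_eq_one_iff_commute.1 (by rw [← map_commutatorElement, hq1]; exact h.comm x hx y hy)
  have hE'c : ∀ x ∈ E', ∀ y ∈ E', Commute (q x) (q y) := fun x hx y hy =>
    commutatorElement_eq_one_iff_commute.1 (by rw [← map_commutatorElement, hq1]; exact h'.comm x hx y hy)
  have hWc : ∀ w ∈ E, w ∈ E' → ∀ x : G, Commute (q w) (q x) := by
    intro w hw hw' x
    obtain ⟨e, he, i, rfl⟩ := h.exists_dec hs'E x
    rw [map_mul]
    exact (hEc w hw e he).mul_right (hE'c w hw' _ (E'.pow_mem hs' i))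
  obtain ⟨a₀, ha₀⟩ : ∃ a₀, a₀ = ⁅s', e₀⁆ := ⟨_, rfl⟩
  have haW : ∀ x, Commute (q a₀) (q x) := hWc a₀
    (ha₀ ▸ by rw [commutatorElement_def]; exact E.mul_mem (h.normalE.conj_mem e₀ he₀ s') (E.inv_mem he₀))
    (ha₀ ▸ h'.comm_mem_E _ _)
  apply hnc
  refine ⟨a₀, fun x e he => ?_⟩
  obtain ⟨e₁, he₁, i, rfl⟩ := h.exists_dec hs'E x
  obtain ⟨w, hw', j, rfl⟩ := h'.exists_dec he₀E' e
  have hw : w ∈ E := by
    have := E.mul_mem he (E.inv_mem (E.pow_mem he₀ j))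
    rwa [mul_inv_cancel_right] at this
  have key : q ⁅e₁ * s' ^ i, w * e₀ ^ j⁆ = q a₀ ^ (i * j) := by
    have hj : ∀ j : ℕ, ⁅q s', q e₀ ^ j⁆ = q a₀ ^ j := by
      intro j
      induction j with
      | zero => simp
      | succ j ih =>
        rw [pow_succ', show ⁅q s', q e₀ * q e₀ ^ j⁆ = ⁅q s', q e₀⁆ * (q e₀ * ⁅q s', q e₀ ^ j⁆ * (q e₀)⁻¹) by
          simp only [commutatorElement_def]; group, ih, ((haW e₀).pow_left j).symm.eq, mul_inv_cancel_right,
          ← map_commutatorElement, ← ha₀, pow_succ']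
    have hi : ∀ i : ℕ, ⁅q s' ^ i, q e₀ ^ j⁆ = q a₀ ^ (i * j) := by
      intro i
      induction i with
      | zero => simp
      | succ i ih =>
        rw [pow_succ', show ⁅q s' * q s' ^ i, q e₀ ^ j⁆ = q s' * ⁅q s' ^ i, q e₀ ^ j⁆ * (q s')⁻¹ * ⁅q s', q e₀ ^ j⁆ by
          simp only [commutatorElement_def]; group, ih, ((haW s').pow_left (i * j)).symm.eq,
          mul_inv_cancel_right, hj, ← pow_add, Nat.succ_mul]
    rw [map_commutatorElement, map_mul, map_mul, map_pow, map_pow]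
    have hww : Commute (q w) (q s' ^ i) := by rw [← map_pow]; exact hWc w hw hw' _
    have hwe : Commute (q w) (q e₀ ^ j) := by rw [← map_pow]; exact hWc w hw hw' _
    have he1 : Commute (q e₁) (q e₀ ^ j) := by rw [← map_pow]; exact hEc _ he₁ _ (E.pow_mem he₀ j)
    have he2 : Commute (q e₁) (q w) := hEc _ he₁ _ hw
    have c1 : ⁅q s' ^ i, q w⁆ = 1 := commutatorElement_eq_one_iff_commute.2 hww.symm
    have c2 : ⁅q e₁, q w * q e₀ ^ j⁆ = 1 := commutatorElement_eq_one_iff_commute.2 (he2.mul_right he1)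
    rw [show ⁅q e₁ * q s' ^ i, q w * q e₀ ^ j⁆ =
        q e₁ * ⁅q s' ^ i, q w * q e₀ ^ j⁆ * (q e₁)⁻¹ * ⁅q e₁, q w * q e₀ ^ j⁆ by
      simp only [commutatorElement_def]; group, c2, mul_one,
      show ⁅q s' ^ i, q w * q e₀ ^ j⁆ = ⁅q s' ^ i, q w⁆ * (q w * ⁅q s' ^ i, q e₀ ^ j⁆ * (q w)⁻¹) by
        simp only [commutatorElement_def]; group, c1, one_mul, hi,
      ((haW w).pow_left (i * j)).symm.eq, mul_inv_cancel_right, ((haW e₁).pow_left (i * j)).symm.eq,
      mul_inv_cancel_right]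
  have h1 : ⁅e₁ * s' ^ i, w * e₀ ^ j⁆ * (a₀ ^ (i * j))⁻¹ ∈ U := by
    rw [← hq1, map_mul, key, map_inv, map_pow, mul_inv_cancel]
  have := Subgroup.mul_mem _ (Subgroup.mem_sup_right h1 : _ ∈ Subgroup.zpowers a₀ ⊔ U)
    (Subgroup.mem_sup_left (Subgroup.pow_mem _ (Subgroup.mem_zpowers a₀) (i * j)))
  rwa [inv_mul_cancel_right] at this

end Phi

end Cfsg.Agent.Local.FS.RankThreeNormal
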