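import Cfsg.Agent.Lib.Local.FS.RankThreeNormal.RankTwoShape
import Cfsg.Agent.Lib.Local.FS.RankThreeNormal.Irreducible
import Cfsg.Agent.Lib.Local.FS.RankThreeNormal.Stable

/-!
The irreducible three-generated case: the elements of order `p` lie in `E` unless `E` is elementary
abelian, and a second essential shape in the same group is restricted.
-/

set_option autoImplicit false

open scoped commutatorElement

namespace Cfsg.Agent.Local.FS.RankThreeNormal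

variable {G : Type*} [Group G] {p : ℕ} [hp : Fact p.Prime]

/-- In a normal section of order at most `p²` a double commutator vanishes. -/
theorem comm_comm_mem [Finite G] (hG : IsPGroup p G) {A B : Subgroup G} (hA : A.Normal) (hB : B.Normal)
    (hBA : B ≤ A) (hc : Nat.card A ≤ Nat.card B * p ^ 2) (x : G) {z : G} (hz : z ∈ A) : ⁅x, ⁅x, z⁆⁆ ∈ B := by
  haveI := hB
  by_cases hAB : A ≤ B
  · exact hAB (comm_mem_of_card hG hA hA le_rfl (Nat.le_mul_of_pos_right _ hp.out.pos) x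
      (comm_mem_of_card hG hA hA le_rfl (Nat.le_mul_of_pos_right _ hp.out.pos) x hz))
  haveI : (A.map (QuotientGroup.mk' B)).Normal := hA.map _ (QuotientGroup.mk'_surjective B)
  obtain ⟨w, hwA, hwC, hwo⟩ := Solv.exists_central_order (hG.to_quotient B) (A.map (QuotientGroup.mk' B))
    (fun h0 => hAB (by rw [Subgroup.map_eq_bot_iff, QuotientGroup.ker_mk'] at h0; exact h0))
  haveI hwn : (Subgroup.zpowers w).Normal := Solv.normal_of_le_center' (Subgroup.zpowers_le.2 hwC)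
  obtain ⟨C, hC⟩ : ∃ C, C = (Subgroup.zpowers w).comap (QuotientGroup.mk' B) := ⟨_, rfl⟩
  have hCn : C.Normal := hC ▸ hwn.comap _
  have hBC : B ≤ C := fun b hb => hC ▸ Subgroup.mem_comap.2 (by
    rw [show QuotientGroup.mk' B b = 1 from (QuotientGroup.eq_one_iff b).2 hb]; exact one_mem _)
  have hCA : C ≤ A := fun y hy => by
    rw [hC, Subgroup.mem_comap] at hy
    obtain ⟨u, hu, he⟩ := Subgroup.zpowers_le.2 hwA hy
    simpa using A.mul_mem hu (hBA (QuotientGroup.eq.1 he))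
  have hCc : Nat.card C = Nat.card B * p := by
    rw [card_eq_mul_map hBC, hC, Subgroup.map_comap_eq_self_of_surjective (QuotientGroup.mk'_surjective B),
      Nat.card_zpowers, hwo]
  exact comm_mem_of_card hG hCn hB hBC hCc.le x
    (comm_mem_of_card hG hA hCn hCA (hc.trans (le_of_eq (by rw [hCc]; ring))) x hz)

/-- The commutators of a two-generated part are cyclic modulo the layer. -/
theorem Section.comm_zpowers {E U N : Subgroup G} (d : Section p E U N) {A : Subgroup G} (hAE : A ≤ E) {a b : G}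
    (ha : a ∈ E) (hb : b ∈ E) (hgen : A ≤ Subgroup.closure ({a, b} ∪ (U : Set G))) :
    haveI := d.normal
    ∀ x ∈ A, ∀ y ∈ A, QuotientGroup.mk' N ⁅x, y⁆ ∈ Subgroup.zpowers (QuotientGroup.mk' N ⁅a, b⁆) := by
  haveI := d.normal
  obtain ⟨π, hπ⟩ : ∃ π, π = QuotientGroup.mk' N := ⟨_, rfl⟩
  rw [← hπ]
  obtain ⟨Z, hZ⟩ : ∃ Z, Z = Subgroup.zpowers (π ⁅a, b⁆) := ⟨_, rfl⟩
  rw [← hZ]
  have hca : π ⁅a, b⁆ ∈ Z := hZ ▸ Subgroup.mem_zpowers _
  have inner : ∀ x ∈ E, π ⁅x, a⁆ ∈ Z → π ⁅x, b⁆ ∈ Z → ∀ y ∈ A, π ⁅x, y⁆ ∈ Z := by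
    intro x hx hxa hxb y hy
    obtain ⟨Y, hY⟩ : ∃ Y : Subgroup G, ∀ y, y ∈ Y ↔ y ∈ E ∧ π ⁅x, y⁆ ∈ Z :=
      ⟨{ carrier := {y | y ∈ E ∧ π ⁅x, y⁆ ∈ Z}
         one_mem' := ⟨E.one_mem, by simp⟩
         mul_mem' := fun {u v} hu hv => ⟨E.mul_mem hu.1 hv.1, by
           rw [hπ, d.comm_mul_right hx hu.1 hv.1, ← hπ]; exact Z.mul_mem hu.2 hv.2⟩
         inv_mem' := fun {u} hu => ⟨E.inv_mem hu.1, by
           have e := d.comm_mul_right hx hu.1 (E.inv_mem hu.1)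
           rw [mul_inv_cancel, commutatorElement_one_right, map_one, ← hπ, eq_comm, mul_eq_one_iff_eq_inv'] at e
           rw [e]; exact Z.inv_mem hu.2⟩ }, fun y => Iff.rfl⟩
    refine ((hY y).1 (((Subgroup.closure_le _).2 ?_) (hgen hy))).2
    rintro w ((rfl | rfl) | hw)
    exacts [(hY _).2 ⟨ha, hxa⟩, (hY _).2 ⟨hb, hxb⟩, (hY _).2 ⟨d.le hw, by
      rw [hπ, d.mk_eq_one.2 (d.cent x hx w hw)]; exact Z.one_mem⟩]
  intro x hx y hy
  have hcb : π ⁅b, a⁆ ∈ Z := by rw [← commutatorElement_inv, map_inv]; exact Z.inv_mem hca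
  have h1 : ∀ {u}, u ∈ E → π ⁅u, a⁆ ∈ Z → π ⁅a, u⁆ ∈ Z := fun {u} _ h => by
    rw [← commutatorElement_inv, map_inv]; exact Z.inv_mem h
  have h2 : π ⁅a, x⁆ ∈ Z := inner a ha (by simp) hca x hx
  have h3 : π ⁅b, x⁆ ∈ Z := inner b hb hcb (by simp) x hx
  refine inner x (hAE hx) ?_ ?_ y hy <;>
    (rw [← commutatorElement_inv, map_inv]; refine Z.inv_mem ?_; assumption)

/-- A subgroup with at most `p²` cosets over `U` is generated by two elements and `U`. -/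
theorem exists_two_gen [Finite G] (hG : IsPGroup p G) {A U : Subgroup G} (hUA : U ≤ A)
    (hc : Nat.card A ≤ Nat.card U * p ^ 2) :
    ∃ z₁ ∈ A, ∃ z₂ ∈ A, A ≤ Subgroup.closure ({z₁, z₂} ∪ (U : Set G)) := by
  have hU : ∀ z₁ z₂ : G, U ≤ Subgroup.closure ({z₁, z₂} ∪ (U : Set G)) := fun z₁ z₂ u hu =>
    Subgroup.subset_closure (Or.inr hu)
  by_cases h0 : A ≤ U
  · exact ⟨1, A.one_mem, 1, A.one_mem, h0.trans (hU 1 1)⟩
  obtain ⟨z₁, hz₁, hz₁U⟩ := SetLike.not_le_iff_exists.1 h0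
  by_cases h1 : A ≤ Subgroup.closure ({z₁} ∪ (U : Set G))
  · exact ⟨z₁, hz₁, 1, A.one_mem, h1.trans (Subgroup.closure_mono (Set.union_subset_union_left _ (by simp)))⟩
  obtain ⟨z₂, hz₂, hz₂n⟩ := SetLike.not_le_iff_exists.1 h1
  refine ⟨z₁, hz₁, z₂, hz₂, ?_⟩
  obtain ⟨X₁, hX₁⟩ : ∃ X₁, X₁ = Subgroup.closure ({z₁} ∪ (U : Set G)) := ⟨_, rfl⟩
  obtain ⟨X₂, hX₂⟩ : ∃ X₂, X₂ = Subgroup.closure ({z₁, z₂} ∪ (U : Set G)) := ⟨_, rfl⟩
  rw [← hX₁] at hz₂n
  rw [← hX₂]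
  have l1 : U < X₁ := lt_of_le_of_ne (fun u hu => hX₁ ▸ Subgroup.subset_closure (Or.inr hu))
    fun e => hz₁U (e.ge (hX₁ ▸ Subgroup.subset_closure (Or.inl rfl)))
  have l2 : X₁ < X₂ := lt_of_le_of_ne
    (hX₁ ▸ hX₂ ▸ Subgroup.closure_mono (Set.union_subset_union_left _ (by simp)))
    fun e => hz₂n (e.ge (hX₂ ▸ Subgroup.subset_closure (Or.inl (by simp))))
  have l3 : X₂ ≤ A := hX₂ ▸ (Subgroup.closure_le _).2 (Set.union_subset
    (by rintro x (rfl | rfl); exacts [hz₁, hz₂]) hUA)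
  refine (Subgroup.eq_of_le_of_card_ge l3 (hc.trans ?_)).ge
  calc Nat.card U * p ^ 2 = Nat.card U * p * p := by ring
    _ ≤ Nat.card X₁ * p := Nat.mul_le_mul_right _ (mul_card_le_of_lt hG l1)
    _ ≤ _ := mul_card_le_of_lt hG l2

namespace Phi

variable {E U : Subgroup G} (h : Phi p E U)
include h

theorem exists_notMem [Finite G] : ∃ x : G, x ∉ E := by
  by_contra hno
  push Not at hno
  exact hp.out.one_lt.ne (h.index ▸ (Subgroup.index_eq_one.2 (eq_top_iff.2 fun x _ => hno x)).symm)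

/-- If one outer element moves `E` into a normal subgroup then the group does. -/
theorem comm_mem_of_one [Finite G] {Y : Subgroup G} (hY : Y.Normal) (hUY : U ≤ Y) {x : G} (hx : x ∉ E)
    (hxY : ∀ e ∈ E, ⁅x, e⁆ ∈ Y) (g : G) {e : G} (he : e ∈ E) : ⁅g, e⁆ ∈ Y := by
  haveI := hY
  obtain ⟨q, hq⟩ : ∃ q, q = QuotientGroup.mk' Y := ⟨_, rfl⟩
  have hq1 : ∀ x, q x = 1 ↔ x ∈ Y := fun x => hq ▸ QuotientGroup.eq_one_iff x
  obtain ⟨e', he', i, rfl⟩ := h.exists_dec hx g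
  rw [← hq1, map_commutatorElement, commutatorElement_eq_one_iff_commute, map_mul, map_pow]
  refine Commute.mul_left ?_ (Commute.pow_left ?_ i) <;>
    rw [← commutatorElement_eq_one_iff_commute, ← map_commutatorElement, hq1]
  exacts [hUY (h.comm e' he' e he), hxY e he]

/-- Two maximal subgroups abelian modulo `U` give commutators in a line. -/
theorem nc_of_abelian [Finite G] (hG : IsPGroup p G) {M : Subgroup G} (hMn : M.Normal) (hMi : M.index = p)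
    (hne : M ≠ E) (hUM : U ≤ M) (hM : ∀ x ∈ M, ∀ y ∈ M, ⁅x, y⁆ ∈ U) :
    ∃ a₀ : G, ∀ x : G, ∀ e ∈ E, ⁅x, e⁆ ∈ Subgroup.zpowers a₀ ⊔ U := by
  haveI := h.normalU
  have hcard : Nat.card M = Nat.card E := by
    have h1 := E.card_mul_index
    have h2 := M.card_mul_index
    rw [h.index] at h1
    rw [hMi, ← h1] at h2
    exact Nat.eq_of_mul_eq_mul_right hp.out.pos h2
  obtain ⟨x, hxM, hxE⟩ := SetLike.not_le_iff_exists.1 fun hle : M ≤ E =>
    hne (Subgroup.eq_of_le_of_card_ge hle hcard.ge)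
  obtain ⟨e₀, he₀, he₀M⟩ := SetLike.not_le_iff_exists.1 fun hle : E ≤ M =>
    hne (Subgroup.eq_of_le_of_card_ge hle hcard.le).symm
  obtain ⟨a₀, ha₀⟩ : ∃ a₀, a₀ = ⁅x, e₀⁆ := ⟨_, rfl⟩
  have haE : a₀ ∈ E := by
    rw [ha₀, commutatorElement_def]; exact E.mul_mem (h.normalE.conj_mem e₀ he₀ x) (E.inv_mem he₀)
  have haM : a₀ ∈ M := by
    rw [ha₀, show ⁅x, e₀⁆ = x * (e₀ * x⁻¹ * e₀⁻¹) by simp only [commutatorElement_def]; group]
    exact M.mul_mem hxM (hMn.conj_mem _ (M.inv_mem hxM) e₀)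
  -- the intersection is central modulo `U`
  have hI : ∀ w, w ∈ E → w ∈ M → ∀ g : G, ⁅g, w⁆ ∈ U := by
    intro w hwE hwM g
    obtain ⟨e, he, i, rfl⟩ := h.exists_dec hxE g
    obtain ⟨q, hq⟩ : ∃ q, q = QuotientGroup.mk' U := ⟨_, rfl⟩
    have hq1 : ∀ x, q x = 1 ↔ x ∈ U := fun x => hq ▸ QuotientGroup.eq_one_iff x
    rw [← hq1, map_commutatorElement, commutatorElement_eq_one_iff_commute, map_mul, map_pow]
    refine Commute.mul_left ?_ (Commute.pow_left ?_ i) <;>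
      rw [← commutatorElement_eq_one_iff_commute, ← map_commutatorElement, hq1]
    exacts [h.comm e he w hwE, hM x hxM w hwM]
  obtain ⟨Y, hYd⟩ : ∃ Y, Y = Subgroup.zpowers a₀ ⊔ U := ⟨_, rfl⟩
  have haY : a₀ ∈ Y := hYd ▸ Subgroup.mem_sup_left (Subgroup.mem_zpowers _)
  have hUY : U ≤ Y := hYd ▸ le_sup_right
  have hYI : Y ≤ E ⊓ M :=
    hYd ▸ sup_le (Subgroup.zpowers_le.2 ⟨haE, haM⟩) (le_inf h.le hUM)
  have hYn : Y.Normal := ⟨fun z hz g => by
    rw [show g * z * g⁻¹ = ⁅g, z⁆ * z by rw [commutatorElement_def]; group]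
    exact Y.mul_mem (hUY (hI z (hYI hz).1 (hYI hz).2 g)) hz⟩
  refine ⟨a₀, fun g e he => hYd ▸ h.comm_mem_of_one hYn hUY hxE (fun e he => ?_) g he⟩
  -- write `e` in `(E ∩ M) ⟨e₀⟩`
  haveI := hMn
  have hc : Nat.card (G ⧸ M) = p := by rw [← Subgroup.index_eq_card, hMi]
  obtain ⟨i, hi⟩ := Subgroup.mem_zpowers_iff.1 (mem_zpowers_of_prime_card (g' := QuotientGroup.mk' M e) hc
    (show QuotientGroup.mk' M e₀ ≠ 1 from fun e' => he₀M ((QuotientGroup.eq_one_iff e₀).1 e')))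
  have h2 : (e₀ ^ i)⁻¹ * e ∈ M := QuotientGroup.eq.1 (show QuotientGroup.mk' M (e₀ ^ i) = _ by
    rw [map_zpow]; exact hi)
  haveI := hYn
  obtain ⟨q, hq⟩ : ∃ q, q = QuotientGroup.mk' Y := ⟨_, rfl⟩
  have hq1 : ∀ x, q x = 1 ↔ x ∈ Y := fun x => hq ▸ QuotientGroup.eq_one_iff x
  rw [show e = e₀ ^ i * ((e₀ ^ i)⁻¹ * e) by rw [mul_inv_cancel_left], ← hq1, map_commutatorElement,
    commutatorElement_eq_one_iff_commute, map_mul, map_zpow]
  refine Commute.mul_right (Commute.zpow_right ?_ i) ?_ <;>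
    rw [← commutatorElement_eq_one_iff_commute, ← map_commutatorElement, hq1]
  exacts [ha₀ ▸ haY, hUY (hM x hxM _ h2)]

/-- With irreducible automorphisms the elements outside `E` have order above `p`, unless `U = 1`. -/
theorem pow_ne_one [Finite G] (hG : IsPGroup p G) (hp5 : 5 ≤ p) (hsr : Cfsg.SectionalPRankLE p 3 G)
    (hirr : ∀ N : Subgroup G, U ≤ N → N ≤ E → (∀ f, IsAuto E f → ∀ x ∈ N, f x ∈ N) → N = U ∨ N = E)
    (hnc : ¬ ∃ a₀ : G, ∀ x : G, ∀ e ∈ E, ⁅x, e⁆ ∈ Subgroup.zpowers a₀ ⊔ U) (hU : U ≠ ⊥) {x : G}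
    (hx : x ^ p = 1) : x ∈ E := by
  classical
  by_contra hxE
  haveI := h.normalE
  haveI := h.normalU
  have hp2 : p ≠ 2 := by omega
  obtain ⟨K, hK⟩ : ∃ K, K = layer p E U := ⟨_, rfl⟩
  haveI hKn : K.Normal := hK ▸ layer_normal_of h.normalE h.normalU
  have hKU : K ≤ U := hK ▸ layer_le h.normalU
  have dK : Section p E U K := hK ▸ h.isSection
  have hKinv : ∀ f, IsAuto E f → ∀ z ∈ K, f z ∈ K := fun f hf => hK ▸
    map_mem_layer h.le h.normalU hf.mem hf.mul (h.map_mem hf.mem hf.mul)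
  obtain ⟨π, hπ⟩ : ∃ π, π = QuotientGroup.mk' K := ⟨_, rfl⟩
  have hπ1 : ∀ x, π x = 1 ↔ x ∈ K := fun x => hπ ▸ QuotientGroup.eq_one_iff x
  have hPm : ∀ {u v}, u ∈ E → v ∈ E → π ((u * v) ^ p) = π (u ^ p) * π (v ^ p) := fun hu hv =>
    hπ ▸ dK.mul_pow hp2 hu hv
  -- the power map is injective
  have hinj : ∀ e ∈ E, e ^ p ∈ K → e ∈ U := by
    obtain ⟨R, hR⟩ : ∃ R : Subgroup G, ∀ x, x ∈ R ↔ x ∈ E ∧ x ^ p ∈ K :=
      ⟨{ carrier := {x | x ∈ E ∧ x ^ p ∈ K}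
         one_mem' := ⟨E.one_mem, by rw [one_pow]; exact K.one_mem⟩
         mul_mem' := fun {u v} hu hv => ⟨E.mul_mem hu.1 hv.1, by
           rw [← hπ1, hPm hu.1 hv.1, (hπ1 _).2 hu.2, (hπ1 _).2 hv.2, one_mul]⟩
         inv_mem' := fun {u} hu => ⟨E.inv_mem hu.1, by rw [inv_pow]; exact K.inv_mem hu.2⟩ }, fun x => Iff.rfl⟩
    rcases hirr R (fun u hu => (hR u).2 ⟨h.le hu, hK ▸ pow_mem_layer hu⟩) (fun x hx => ((hR x).1 hx).1)
      (fun f hf x hx => (hR _).2 ⟨hf.mem x ((hR x).1 hx).1, by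
        rw [← map_pow_of_mul hf.mul ((hR x).1 hx).1]; exact hKinv f hf _ ((hR x).1 hx).2⟩) with hRU | hRE
    · exact fun e he hek => hRU.le ((hR e).2 ⟨he, hek⟩)
    exfalso
    have hJ := h.comm_mem_of_irreducible hG hp2 hsr hirr
    have hle : layer p E U ⊔ Subgroup.closure {z | ∃ e ∈ E, e ^ p = z} ≤ K :=
      sup_le hK.ge ((Subgroup.closure_le _).2 fun z ⟨e, he, hz⟩ => hz ▸ ((hR e).1 (hRE.ge he)).2)
    have hUK : U ≤ K := h.min K (fun e he => ((hR e).1 (hRE.ge he)).2) fun x hx y hy => hle (hJ x hx y hy)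
    exact hU (le_bot_iff.1 (le_of_le_sup (E := E) hG bot_le fun X _ _ hXc hXp =>
      hUK.trans (hK ▸ layer_le_iff.2 ⟨hXc, hXp⟩)))
  -- `U` is the image of the power map
  have hUP : ∀ u ∈ U, ∃ e ∈ E, π u = π (e ^ p) := by
    obtain ⟨M, hM⟩ : ∃ M : Subgroup G, ∀ z, z ∈ M ↔ ∃ e ∈ E, π z = π (e ^ p) :=
      ⟨{ carrier := {z | ∃ e ∈ E, π z = π (e ^ p)}
         one_mem' := ⟨1, E.one_mem, by rw [one_pow]⟩
         mul_mem' := by
           rintro u v ⟨e, he, hu⟩ ⟨e', he', hv⟩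
           exact ⟨e * e', E.mul_mem he he', by rw [map_mul, hu, hv, hPm he he']⟩
         inv_mem' := by
           rintro u ⟨e, he, hu⟩
           exact ⟨e⁻¹, E.inv_mem he, by rw [inv_pow, map_inv, map_inv, hu]⟩ }, fun z => Iff.rfl⟩
    have hJ := h.comm_mem_of_irreducible hG hp2 hsr hirr
    have hP : ∀ e ∈ E, e ^ p ∈ M := fun e he => (hM _).2 ⟨e, he, rfl⟩
    have hle : layer p E U ⊔ Subgroup.closure {z | ∃ e ∈ E, e ^ p = z} ≤ M :=
      sup_le (fun z hz => (hM z).2 ⟨1, E.one_mem, by rw [one_pow, map_one, hπ1, hK]; exact hz⟩)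
        ((Subgroup.closure_le _).2 fun z ⟨e, he, hz⟩ => hz ▸ hP e he)
    exact fun u hu => (hM u).1 (h.min M hP (fun x hx y hy => hle (hJ x hx y hy)) hu)
  -- the Frattini subgroup
  obtain ⟨A, hA⟩ : ∃ A, A = frattini G := ⟨_, rfl⟩
  haveI hAn : A.Normal := hA ▸ inferInstance
  have hAc : ∀ x y : G, ⁅x, y⁆ ∈ A := fun x y => hA ▸ Solv.commutatorElement_mem_frattini hG x y
  have hUA : U ≤ A := h.min _ (fun x _ => hA ▸ Solv.pow_mem_frattini hG x) fun x _ y _ => hAc x y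
  have hAE : A ≤ E := hA ▸ Solv.frattini_le (p := p) E h.comm_mem_E h.pow_mem_E
  have hAc2 : Nat.card A ≤ Nat.card U * p ^ 2 := by
    have hlt : A < E := by
      refine lt_of_le_of_ne hAE fun e => hnc ⟨1, fun g w hw => ?_⟩
      have htop : Subgroup.zpowers x = ⊤ := frattini_nongenerating (eq_top_iff.2 fun y _ => by
        obtain ⟨w, hw, i, rfl⟩ := h.exists_dec hxE y
        exact mul_mem (Subgroup.mem_sup_right (hA ▸ e.ge hw))
          (pow_mem (Subgroup.mem_sup_left (Subgroup.mem_zpowers x)) i))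
      obtain ⟨i, hi⟩ := Subgroup.mem_zpowers_iff.1 (htop ▸ Subgroup.mem_top g)
      obtain ⟨j, hj⟩ := Subgroup.mem_zpowers_iff.1 (htop ▸ Subgroup.mem_top w)
      rw [← hi, ← hj, commutatorElement_eq_one_iff_commute.2 ((Commute.refl x).zpow_zpow i j)]
      exact one_mem _
    have h1 := mul_card_le_of_lt hG hlt
    rw [h.card] at h1
    refine Nat.le_of_mul_le_mul_right (h1.trans (le_of_eq ?_)) hp.out.pos
    ring
  -- make the Frattini subgroup abelian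
  obtain ⟨D, hD⟩ : ∃ D, D = K ⊔ Subgroup.closure {z | ∃ u ∈ A, ∃ v ∈ A, ⁅u, v⁆ = z} := ⟨_, rfl⟩
  haveI hCn : (Subgroup.closure {z : G | ∃ u ∈ A, ∃ v ∈ A, ⁅u, v⁆ = z}).Normal := by
    refine ⟨fun z hz g => ?_⟩
    induction hz using Subgroup.closure_induction with
    | mem z hz =>
      obtain ⟨u, hu, v, hv, rfl⟩ := hz
      exact Subgroup.subset_closure ⟨g * u * g⁻¹, hAn.conj_mem u hu g, g * v * g⁻¹,
        hAn.conj_mem v hv g, by simp only [commutatorElement_def]; group⟩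
    | one => simp
    | mul u v _ _ iha ihb =>
      rw [show g * (u * v) * g⁻¹ = (g * u * g⁻¹) * (g * v * g⁻¹) by group]; exact mul_mem iha ihb
    | inv u _ iha => rw [show g * u⁻¹ * g⁻¹ = (g * u * g⁻¹)⁻¹ by group]; exact inv_mem iha
  haveI hDn : D.Normal := hD ▸ Subgroup.sup_normal _ _
  have hKD : K ≤ D := hD ▸ le_sup_left
  have hDc : ∀ u ∈ A, ∀ v ∈ A, ⁅u, v⁆ ∈ D := fun u hu v hv =>
    hD ▸ Subgroup.mem_sup_right (Subgroup.subset_closure ⟨u, hu, v, hv, rfl⟩)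
  obtain ⟨z₁, hz₁, z₂, hz₂, hgen⟩ := exists_two_gen hG hUA hAc2
  obtain ⟨Y, hY⟩ : ∃ Y : Subgroup G, ∀ z, z ∈ Y ↔ z ∈ E ∧ z ^ p ∈ D :=
    ⟨{ carrier := {z | z ∈ E ∧ z ^ p ∈ D}
       one_mem' := ⟨E.one_mem, by rw [one_pow]; exact D.one_mem⟩
       mul_mem' := fun {u v} hu hv => ⟨E.mul_mem hu.1 hv.1, by
         have e := hPm hu.1 hv.1
         rw [← map_mul, hπ] at e
         have := D.mul_mem (D.mul_mem hu.2 hv.2) (D.inv_mem (hKD (QuotientGroup.eq.1 e)))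
         rwa [mul_inv_rev, inv_inv, mul_inv_cancel_left] at this⟩
       inv_mem' := fun {u} hu => ⟨E.inv_mem hu.1, by rw [inv_pow]; exact D.inv_mem hu.2⟩ }, fun z => Iff.rfl⟩
  have hUY : U ≤ Y := fun u hu => (hY u).2 ⟨h.le hu, hKD (hK ▸ pow_mem_layer hu)⟩
  have hYn : Y.Normal := ⟨fun z hz g => (hY _).2 ⟨h.normalE.conj_mem z ((hY z).1 hz).1 g, by
    rw [conj_pow]; exact hDn.conj_mem _ ((hY z).1 hz).2 g⟩⟩
  have hDU : D ≤ U := hD ▸ sup_le hKU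
    ((Subgroup.closure_le _).2 fun z ⟨u, hu, v, hv, hz⟩ => hz ▸ h.comm u (hAE hu) v (hAE hv))
  have hDmap : D.map π ≤ Subgroup.zpowers (π ⁅z₁, z₂⁆) := by
    rw [hD, Subgroup.map_sup, (Subgroup.map_eq_bot_iff K).2 (by rw [hπ, QuotientGroup.ker_mk']), bot_sup_eq,
      Subgroup.map_le_iff_le_comap]
    exact (Subgroup.closure_le _).2 fun z ⟨u, hu, v, hv, hz⟩ => hz ▸
      hπ ▸ dK.comm_zpowers hAE (hAE hz₁) (hAE hz₂) hgen u hu v hv
  -- `Y / U` is cyclic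
  obtain ⟨a₀, ha₀Y, ha₀⟩ : ∃ a₀ ∈ Y, Y ≤ Subgroup.zpowers a₀ ⊔ U := by
    by_cases hYU : Y ≤ U
    · exact ⟨1, Y.one_mem, hYU.trans le_sup_right⟩
    obtain ⟨w₀, hw₀, hw₀U⟩ := SetLike.not_le_iff_exists.1 hYU
    refine ⟨w₀, hw₀, fun w hw => ?_⟩
    obtain ⟨i, hi⟩ := Subgroup.mem_zpowers_iff.1 (hDmap ⟨_, ((hY w₀).1 hw₀).2, rfl⟩)
    obtain ⟨j, hj⟩ := Subgroup.mem_zpowers_iff.1 (hDmap ⟨_, ((hY w).1 hw).2, rfl⟩)
    have hcp : π ⁅z₁, z₂⁆ ^ p = 1 := by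
      rw [← map_pow, hπ1]; exact hK ▸ pow_mem_layer (h.comm _ (hAE hz₁) _ (hAE hz₂))
    have hi' : ¬ (p : ℤ) ∣ i := fun ⟨k, hk⟩ => hw₀U (hinj _ ((hY w₀).1 hw₀).1 (by
      rw [← hπ1, ← hi, hk, zpow_mul, zpow_natCast, hcp, one_zpow]))
    obtain ⟨u, v, huv⟩ := ((Nat.prime_iff_prime_int.1 hp.out).coprime_iff_not_dvd).2 hi'
    have hwE := ((hY w).1 hw).1
    have hw₀E := ((hY w₀).1 hw₀).1
    have key : w * (w₀ ^ (v * j))⁻¹ ∈ U := by
      refine hinj _ (E.mul_mem hwE (E.inv_mem (E.zpow_mem hw₀E _))) ?_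
      rw [← hπ1, hPm hwE (E.inv_mem (E.zpow_mem hw₀E _)), inv_pow, map_inv, mul_inv_eq_one, ← hj,
        ← zpow_natCast (w₀ ^ (v * j)), ← zpow_mul, mul_comm, zpow_mul, zpow_natCast, map_zpow, ← hi, ← zpow_mul,
        show i * (v * j) = (1 - (p : ℤ) * u) * j by
          rw [← mul_assoc]; congr 1; linarith, sub_mul, one_mul, zpow_sub, mul_assoc (p : ℤ), zpow_mul _ (p : ℤ),
        zpow_natCast, hcp, one_zpow, inv_one, mul_one]
    have := Subgroup.mul_mem_sup (Subgroup.zpow_mem_zpowers w₀ (v * j)) (show (w₀ ^ (v * j))⁻¹ * w ∈ U by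
      have := h.normalU.conj_mem _ key (w₀ ^ (v * j))⁻¹
      simpa [mul_assoc] using this)
    rwa [mul_inv_cancel_left] at this
  -- work modulo `D`
  obtain ⟨q, hq⟩ : ∃ q, q = QuotientGroup.mk' D := ⟨_, rfl⟩
  have hq1 : ∀ x, q x = 1 ↔ x ∈ D := fun x => hq ▸ QuotientGroup.eq_one_iff x
  have hqc : ∀ {u v}, u ∈ A → v ∈ A → Commute (q u) (q v) := fun hu hv =>
    commutatorElement_eq_one_iff_commute.1 (by rw [← map_commutatorElement, hq1]; exact hDc _ hu _ hv)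
  have hqP : ∀ {u v}, u ∈ E → v ∈ E → q ((u * v) ^ p) = q (u ^ p) * q (v ^ p) := fun {u v} hu hv => by
    have e := hPm hu hv
    rw [← map_mul, hπ] at e
    rw [← map_mul, hq]
    exact QuotientGroup.eq.2 (hKD (QuotientGroup.eq.1 e))
  have hUq : ∀ {u}, u ∈ U → q u ^ p = 1 := fun {u} hu => by
    rw [← map_pow, hq1]; exact hKD (hK ▸ pow_mem_layer hu)
  -- commutation with `x` commutes with powers
  have hxp : ∀ {z}, z ∈ E → q ⁅x, z ^ p⁆ = q (⁅x, z⁆ ^ p) := fun {z} hz => by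
    have e := hqP (hAE (hAc x z)) hz
    rw [show ⁅x, z⁆ * z = x * z * x⁻¹ by rw [commutatorElement_def]; group, conj_pow] at e
    rw [commutatorElement_def, map_mul, e, map_inv, mul_inv_cancel_right]
  have h3 : ∀ {z}, z ∈ E → ⁅x, ⁅x, ⁅x, z⁆⁆⁆ ∈ U := fun {z} hz =>
    comm_comm_mem hG hAn h.normalU hUA hAc2 x (hAc x z)
  have key : ∀ b ∈ E, ∃ y ∈ E, ∃ m j : ℕ, ⁅x, b⁆ * ⁅x, ⁅x, b⁆⁆ ^ m * ⁅x, ⁅x, y⁆⁆ ^ j ∈ Y := by
    intro b hb
    -- iterate the action of `x` on `b`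
    obtain ⟨a, haa⟩ : ∃ a : ℕ → G, (a 0 = ⁅x, b⁆) ∧ ∀ k, a (k + 1) = ⁅x, a k⁆ :=
      ⟨fun k => Nat.rec ⁅x, b⁆ (fun _ r => ⁅x, r⁆) k, rfl, fun k => rfl⟩
    have haA : ∀ k, a k ∈ A := fun k => by
      cases k with
      | zero => exact haa.1 ▸ hAc _ _
      | succ k => exact haa.2 k ▸ hAc _ _
    have hstepq : ∀ k, q x * q (a k) * (q x)⁻¹ = q (a (k + 1)) * q (a k) := fun k => by
      rw [haa.2, map_commutatorElement, commutatorElement_def]; group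
    have hb1 : q x * q b * (q x)⁻¹ = q (a 0) * q b := by
      rw [haa.1, map_commutatorElement, commutatorElement_def]; group
    have ha2U : a 2 ∈ U := by rw [haa.2, haa.2, haa.1]; exact h3 hb
    obtain ⟨y, hy, hya⟩ := hUP _ ha2U
    have hya' : q (a 2) = q (y ^ p) := by
      rw [hπ] at hya
      rw [hq]
      exact QuotientGroup.eq.2 (hKD (QuotientGroup.eq.1 hya))
    have hxq : ∀ {u v}, q u = q v → q ⁅x, u⁆ = q ⁅x, v⁆ := fun {u v} e => by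
      rw [map_commutatorElement, map_commutatorElement, e]
    have ha3 : q (a 3) = q (⁅x, y⁆ ^ p) := by rw [haa.2, hxq hya', hxp hy]
    have ha4 : q (a 4) = q (⁅x, ⁅x, y⁆⁆ ^ p) := by rw [haa.2, hxq ha3, hxp (hAE (hAc x y))]
    have ha5 : q (a 5) = 1 := by
      rw [haa.2, hxq ha4, hxp (hAE (hAc _ _)), map_pow, hUq (h3 hy)]
    have hpa : ∀ k, 2 ≤ k → k ≤ 4 → ∀ n, p ∣ n → q (a k) ^ n = 1 := by
      intro k hk hk' n hn
      obtain ⟨j, rfl⟩ := hn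
      rw [pow_mul]
      have h2 : q (a k) ^ p = 1 := by
        interval_cases k
        · exact hUq ha2U
        · rw [ha3, ← map_pow, hq1]
          exact hKD (hK ▸ pow_mem_layer (h.pow _ (hAE (hAc x y))))
        · rw [ha4, ← map_pow, hq1]
          exact hKD (hK ▸ pow_mem_layer (h.pow _ (hAE (hAc _ _))))
      rw [h2, one_pow]
    have hcA : ∀ i j, Commute (q (a i)) (q (a j)) := fun i j => hqc (haA i) (haA j)
    have hit : ∀ n : ℕ, q x ^ n * q b * (q x ^ n)⁻¹ = q (a 0) ^ n.choose 1 * q (a 1) ^ n.choose 2 *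
        q (a 2) ^ n.choose 3 * q (a 3) ^ n.choose 4 * q (a 4) ^ n.choose 5 * q b := by
      intro n
      induction n with
      | zero => simp
      | succ n ih =>
        have c : ∀ (k m : ℕ), q x * q (a k) ^ m * (q x)⁻¹ = q (a k) ^ m * q (a (k + 1)) ^ m := fun k m => by
          rw [← conj_pow, hstepq, (hcA (k + 1) k).mul_pow, ((hcA (k + 1) k).pow_pow m m).eq]
        rw [pow_succ', show q x * q x ^ n * q b * (q x * q x ^ n)⁻¹ =
            q x * (q x ^ n * q b * (q x ^ n)⁻¹) * (q x)⁻¹ by group, ih,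
          show q x * (q (a 0) ^ n.choose 1 * q (a 1) ^ n.choose 2 * q (a 2) ^ n.choose 3 * q (a 3) ^ n.choose 4 *
            q (a 4) ^ n.choose 5 * q b) * (q x)⁻¹ =
            (q x * q (a 0) ^ n.choose 1 * (q x)⁻¹) * (q x * q (a 1) ^ n.choose 2 * (q x)⁻¹) *
            (q x * q (a 2) ^ n.choose 3 * (q x)⁻¹) * (q x * q (a 3) ^ n.choose 4 * (q x)⁻¹) *
            (q x * q (a 4) ^ n.choose 5 * (q x)⁻¹) * (q x * q b * (q x)⁻¹) by group,
          c, c, c, c, c, hb1, ha5, one_pow, mul_one,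
          Nat.choose_succ_succ' n 0, Nat.choose_succ_succ' n 1, Nat.choose_succ_succ' n 2,
          Nat.choose_succ_succ' n 3, Nat.choose_succ_succ' n 4, Nat.choose_zero_right]
        simp only [← mul_assoc]
        refine congrArg (fun z => z * q b) ?_
        -- everything commutes
        obtain ⟨W, hW⟩ : ∃ W, W = Subgroup.closure (Set.range fun i => q (a i)) := ⟨_, rfl⟩
        have hWa : ∀ i m, q (a i) ^ m ∈ W := fun i m => W.pow_mem (hW ▸ Subgroup.subset_closure ⟨i, rfl⟩) m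
        haveI : IsMulCommutative W := hW ▸ Subgroup.isMulCommutative_closure (by
          rintro _ ⟨i, rfl⟩ _ ⟨j, rfl⟩
          exact (hcA i j).eq)
        letI : CommGroup W := IsMulCommutative.instCommGroup
        obtain ⟨v, hv⟩ : ∃ v : ℕ → W, ∀ i, q (a i) = v i :=
          ⟨fun i => ⟨q (a i), hW ▸ Subgroup.subset_closure ⟨i, rfl⟩⟩, fun i => rfl⟩
        simp only [hv, ← SubgroupClass.coe_pow, ← Subgroup.coe_mul]
        refine congrArg Subtype.val ?_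
        simp only [pow_add, pow_one, Nat.reduceAdd]
        ac_rfl
    have h1 := hit p
    rw [← map_pow q x, hx, map_one, one_mul, inv_one, mul_one, Nat.choose_one_right, right_eq_mul,
      hpa 2 le_rfl (by norm_num) _ (hp.out.dvd_choose_self (by norm_num) (by omega)),
      hpa 3 (by norm_num) (by norm_num) _ (hp.out.dvd_choose_self (by norm_num) (by omega)), mul_one, mul_one] at h1
    obtain ⟨m, hm⟩ := hp.out.dvd_choose_self (by norm_num : 2 ≠ 0) (by omega : 2 < p)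
    obtain ⟨j, hj⟩ : ∃ j, j = p.choose 5 := ⟨_, rfl⟩
    rw [← hj, hm] at h1
    obtain ⟨w, hw⟩ : ∃ w, w = a 0 * a 1 ^ m * ⁅x, ⁅x, y⁆⁆ ^ j := ⟨_, rfl⟩
    have hwY : w ∈ Y := by
      refine (hY w).2 ⟨hw ▸ E.mul_mem (E.mul_mem (hAE (haA 0)) (E.pow_mem (hAE (haA 1)) m))
        (E.pow_mem (hAE (hAc _ _)) j), ?_⟩
      rw [← hq1, hw, hqP (E.mul_mem (hAE (haA 0)) (E.pow_mem (hAE (haA 1)) m)) (E.pow_mem (hAE (hAc _ _)) j),
        hqP (hAE (haA 0)) (E.pow_mem (hAE (haA 1)) m), ← pow_mul, ← pow_mul, mul_comm m, mul_comm j, pow_mul,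
        pow_mul (⁅x, ⁅x, y⁆⁆), map_pow _ _ m, map_pow _ _ j, ← ha4, map_pow, map_pow q (a 1), ← pow_mul]
      exact h1
    refine ⟨y, hy, m, j, ?_⟩
    rwa [hw, haa.2, haa.1] at hwY
  -- commuting with `x` gives the second commutator
  have hYd : ∀ z ∈ Y, ⁅x, z⁆ ∈ U := by
    intro z hz
    refine comm_mem_of_card hG hYn h.normalU hUY ?_ x hz
    refine (Subgroup.card_le_of_le ha₀).trans ?_
    rw [card_eq_mul_map (le_sup_right : U ≤ Subgroup.zpowers a₀ ⊔ U), Subgroup.map_sup,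
      (Subgroup.map_eq_bot_iff U).2 (by rw [QuotientGroup.ker_mk']), sup_bot_eq, MonoidHom.map_zpowers,
      Nat.card_zpowers]
    refine Nat.mul_le_mul_left _ (orderOf_le_of_pow_eq_one hp.out.pos ?_)
    rw [← map_pow]
    exact (QuotientGroup.eq_one_iff _).2 (h.pow _ ((hY a₀).1 ha₀Y).1)
  obtain ⟨ψ, hψ⟩ : ∃ ψ, ψ = QuotientGroup.mk' U := ⟨_, rfl⟩
  have hψ1 : ∀ x, ψ x = 1 ↔ x ∈ U := fun x => hψ ▸ QuotientGroup.eq_one_iff x
  have hψc : ∀ {u v}, u ∈ E → v ∈ E → Commute (ψ u) (ψ v) := fun hu hv =>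
    commutatorElement_eq_one_iff_commute.1 (by rw [← map_commutatorElement, hψ1]; exact h.comm _ hu _ hv)
  have hlin : ∀ {u v}, u ∈ A → v ∈ A → ψ ⁅x, u * v⁆ = ψ ⁅x, u⁆ * ψ ⁅x, v⁆ := fun {u v} hu hv => by
    rw [show ⁅x, u * v⁆ = ⁅x, u⁆ * (u * ⁅x, v⁆ * u⁻¹) by simp only [commutatorElement_def]; group, map_mul,
      map_mul, map_mul, map_inv, (hψc (hAE hu) (hAE (hAc x v))).eq, mul_inv_cancel_right]
  have hlinp : ∀ {u}, u ∈ A → ⁅x, u⁆ ∈ U → ∀ n : ℕ, ψ ⁅x, u ^ n⁆ = 1 := by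
    intro u hu hxu n
    induction n with
    | zero => simp
    | succ n ih => rw [pow_succ, hlin (A.pow_mem hu n) hu, ih, (hψ1 _).2 hxu, one_mul]
  have step : ∀ b ∈ E, ⁅x, ⁅x, b⁆⁆ ∈ U := by
    intro b hb
    obtain ⟨y, hy, m, j, hw⟩ := key b hb
    have h1 := (hψ1 _).2 (hYd _ hw)
    rw [hlin (A.mul_mem (hAc _ _) (A.pow_mem (hAc _ _) m)) (A.pow_mem (hAc _ _) j),
      hlin (hAc _ _) (A.pow_mem (hAc _ _) m), hlinp (hAc _ _) (h3 hb) m, hlinp (hAc _ _) (h3 hy) j, mul_one,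
      mul_one, hψ1] at h1
    exact h1
  refine hnc ⟨a₀, fun g e he => ha₀ (h.comm_mem_of_one hYn hUY hxE (fun b hb => ?_) g he)⟩
  obtain ⟨y, hy, m, j, hw⟩ := key b hb
  exact (Y.mul_mem_cancel_right (Y.pow_mem (hUY (step b hb)) m)).1
    ((Y.mul_mem_cancel_right (Y.pow_mem (hUY (step y hy)) j)).1 hw)

end Phi

end Cfsg.Agent.Local.FS.RankThreeNormal
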