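import Cfsg.Agent.Lib.Local.FS.RankThreeNormal.Stable

/-!
The weight argument in the normaliser of `P`: an element moving the line of `E` produces an
elementary abelian section of order `p⁴`.
-/

set_option autoImplicit false

open scoped commutatorElement

namespace Cfsg.Agent.Local.FS.RankThreeNormal

variable {p : ℕ} [hp : Fact p.Prime]

theorem pw_mem {H : Type*} [Group H] (K : Subgroup H) {x : H} (hx : x ∈ K) (i : ZMod p) : pw x i ∈ K :=
  K.pow_mem hx _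

theorem conj_pw {H : Type*} [Group H] (y x : H) (i : ZMod p) : y * pw x i * y⁻¹ = pw (y * x * y⁻¹) i :=
  (conj_pow (a := y) (b := x) (i := i.val)).symm

/-- A multiplicative function to `ZMod p` on a `p`-group is trivial. -/
theorem eq_one_of_mult {G : Type*} [Group G] (hG : IsPGroup p G) {f : G → ZMod p} (h1 : f 1 = 1)
    (hm : ∀ x y, f (x * y) = f x * f y) (x : G) : f x = 1 := by
  obtain ⟨n, hn⟩ := hG x
  have h2 : ∀ m : ℕ, f (x ^ m) = f x ^ m := by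
    intro m
    induction m with
    | zero => rw [pow_zero, pow_zero, h1]
    | succ m ih => rw [pow_succ, hm, ih, pow_succ]
  have h3 := h2 (p ^ n)
  rwa [hn, h1, ZMod.pow_card_pow, eq_comm] at h3

variable {G : Type*} [Group G] [Finite G]

/-- The configuration of the top step. -/
structure TopData (p : ℕ) (U Z P : Subgroup G) (a c e s : G) (t : MulAut G) (g₀ : ZMod p) : Prop where
  U_le : U ≤ Z
  Z_le : Z ≤ P
  aZ : a ∈ Z
  cZ : c ∈ Z
  eP : e ∈ P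
  sP : s ∈ P
  genP : ∀ y ∈ P, ∃ i j : ℕ, y * (e ^ i * s ^ j)⁻¹ ∈ Z
  genZ : ∀ z ∈ Z, ∃ i j : ℕ, z * (a ^ i * c ^ j)⁻¹ ∈ U
  indP : ∀ i j : ZMod p, e ^ i.val * s ^ j.val ∈ Z → i = 0 ∧ j = 0
  indZ : ∀ i j : ZMod p, a ^ i.val * c ^ j.val ∈ U → i = 0 ∧ j = 0
  pow : ∀ y ∈ P, y ^ p ∈ U
  cent : ∀ y ∈ P, ∀ z ∈ Z, ⁅y, z⁆ ∈ U
  se : ⁅s, e⁆ * a⁻¹ ∈ U
  line : ∀ y : G, ∃ j : ℕ, y * s * y⁻¹ * (s ^ j)⁻¹ ∈ Z
  move : ∀ y : G, (∃ i : ℕ, y * e * y⁻¹ * (e ^ i)⁻¹ ∈ Z) → y ∈ P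
  tU : ∀ u ∈ U, t u ∈ U
  tZ : ∀ z ∈ Z, t z ∈ Z
  ta : t a * (a ^ g₀.val)⁻¹ ∈ U
  tc : t c * c⁻¹ ∈ U
  te : t e * (e ^ (g₀⁻¹).val)⁻¹ ∈ Z
  ts : t s * (s ^ (g₀ * g₀).val)⁻¹ ∈ Z
  g_ne : g₀ ≠ 0
  ord : ∀ m : ℕ, g₀ ^ m = 1 → p - 1 ∣ m

/-- The top configuration does not exist. -/
theorem TopData.false (hG : IsPGroup p G) (hp5 : 5 ≤ p) (hsr : Cfsg.SectionalPRankLE p 3 G)
    {U Z P : Subgroup G} [hUn : U.Normal] [hZn : Z.Normal] [hPn : P.Normal] (hPt : P ≠ ⊤)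
    {a c e s : G} {t : MulAut G} {g₀ : ZMod p} (d : TopData p U Z P a c e s t g₀) : False := by
  classical
  have hsmall : ∀ n : ℕ, 0 < n → n < p - 1 → g₀ ^ n ≠ 1 := fun n h0 hlt he =>
    absurd (Nat.le_of_dvd h0 (d.ord n he)) (by omega)
  have hg2 : g₀ ^ 2 ≠ 1 := hsmall 2 (by norm_num) (by omega)
  have hg3 : g₀ ^ 3 ≠ 1 := hsmall 3 (by norm_num) (by omega)
  have hg1 : g₀ ≠ 1 := fun he => hg2 (by rw [he, one_pow])
  have hg5 : g₀ ^ 5 ≠ 1 := fun he => by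
    have h1 := d.ord 5 he
    have h2 := Nat.le_of_dvd (by norm_num) h1
    rcases (Nat.dvd_prime (by norm_num : Nat.Prime 5)).1 h1 with h3 | h3
    · omega
    · have : p = 6 := by omega
      have h6 := hp.out
      rw [this] at h6
      exact absurd h6 (by norm_num)
  -- modulo `Z`
  obtain ⟨π, hπd⟩ : ∃ π, π = QuotientGroup.mk' Z := ⟨_, rfl⟩
  have hπ1 : ∀ x, π x = 1 ↔ x ∈ Z := fun x => hπd ▸ QuotientGroup.eq_one_iff x
  have hπeq : ∀ {x y : G}, x * y⁻¹ ∈ Z → π x = π y := fun {x y} h => by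
    rwa [← mul_inv_eq_one, ← map_inv, ← map_mul, hπ1]
  have hπp : ∀ {y : G}, y ∈ P → π y ^ p = 1 := fun hy => by
    rw [← map_pow, hπ1]; exact d.U_le (d.pow _ hy)
  have hes : Commute (π e) (π s) := by
    refine (commutatorElement_eq_one_iff_commute.1 ?_).symm
    rw [← map_commutatorElement, hπ1]
    have := Z.mul_mem (d.U_le d.se) d.aZ
    rwa [inv_mul_cancel_right] at this
  have hdecP : ∀ {y : G}, y ∈ P → ∃ i j : ZMod p, π y = pw (π e) i * pw (π s) j := by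
    intro y hy
    obtain ⟨i, j, hij⟩ := d.genP y hy
    refine ⟨i, j, ?_⟩
    rw [pw_natCast (hπp d.eP), pw_natCast (hπp d.sP), ← map_pow, ← map_pow, ← map_mul]
    exact hπeq hij
  have huniq : ∀ {i j i' j' : ZMod p}, pw (π e) i * pw (π s) j = pw (π e) i' * pw (π s) j' → i = i' ∧ j = j' := by
    intro i j i' j' he
    have key : pw (π e) (i - i') * pw (π s) (j - j') = 1 := by
      rw [pw_sub (hπp d.eP), pw_sub (hπp d.sP),
        ((commute_pw (p := p) hes.symm : Commute (pw (π s) j) (pw (π e) i')).inv_right).symm.mul_mul_mul_comm,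
        he, ← (commute_pw (p := p) hes : Commute (pw (π e) i') (pw (π s) j')).inv_inv.eq.symm, ← mul_inv_rev,
        (commute_pw (p := p) hes : Commute (pw (π e) i') (pw (π s) j')).eq, mul_inv_cancel]
    have h1 : π (e ^ (i - i').val * s ^ (j - j').val) = 1 := by rw [map_mul, map_pow, map_pow]; exact key
    obtain ⟨h2, h3⟩ := d.indP _ _ ((hπ1 _).1 h1)
    exact ⟨sub_eq_zero.1 h2, sub_eq_zero.1 h3⟩
  have hline : ∀ y : G, ∃ j : ZMod p, π (y * s * y⁻¹) = pw (π s) j := fun y => by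
    obtain ⟨j, hj⟩ := d.line y
    exact ⟨j, by rw [pw_natCast (hπp d.sP), ← map_pow]; exact hπeq hj⟩
  choose Jf hJf using hline
  have hJ1 : ∀ y, Jf y = 1 := by
    have hu : ∀ {y j}, π (y * s * y⁻¹) = pw (π s) j → Jf y = j := fun {y j} he =>
      (huniq (i := 0) (i' := 0) (by rw [pw_zero, one_mul, one_mul, ← hJf, he])).2
    refine eq_one_of_mult hG (hu (by simp [pw_one_exp])) fun x y => hu ?_
    rw [show x * y * s * (x * y)⁻¹ = x * (y * s * y⁻¹) * x⁻¹ by group, map_mul, map_mul, map_inv, hJf y,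
      conj_pw, ← map_inv, ← map_mul, ← map_mul, hJf x, pw_mul (hπp d.sP)]
  have hconjs : ∀ y, π y * π s * (π y)⁻¹ = π s := fun y => by
    have := hJf y
    rwa [hJ1 y, pw_one_exp, map_mul, map_mul, map_inv] at this
  have hconje : ∀ y : G, ∃ i r : ZMod p, π (y * e * y⁻¹) = pw (π e) i * pw (π s) r := fun y =>
    hdecP (hPn.conj_mem e d.eP y)
  choose If Rf hIR using hconje
  have hmove : ∀ y y' : G, π (y * y' * e * (y * y')⁻¹) =
      pw (π e) (If y * If y') * pw (π s) (Rf y * If y' + Rf y') := fun y y' => by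
    rw [show y * y' * e * (y * y')⁻¹ = y * (y' * e * y'⁻¹) * y⁻¹ by group, map_mul, map_mul, map_inv, hIR y',
      show π y * (pw (π e) (If y') * pw (π s) (Rf y')) * (π y)⁻¹ =
        (π y * pw (π e) (If y') * (π y)⁻¹) * (π y * pw (π s) (Rf y') * (π y)⁻¹) by group,
      conj_pw, conj_pw, hconjs, ← map_inv, ← map_mul, ← map_mul, hIR y,
      mul_pw (commute_pw hes), pw_mul (hπp d.eP), pw_mul (hπp d.sP), mul_assoc, ← pw_add (hπp d.sP)]
  have hIm : ∀ y y', If (y * y') = If y * If y' ∧ Rf (y * y') = Rf y * If y' + Rf y' := fun y y' =>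
    huniq (by rw [← hIR]; exact hmove y y')
  have h10 : If 1 = 1 ∧ Rf 1 = 0 :=
    huniq (by rw [← hIR, one_mul, inv_one, mul_one, pw_one_exp, pw_zero, mul_one])
  have hI1 : ∀ y, If y = 1 := eq_one_of_mult hG h10.1 fun x y => (hIm x y).1
  have hRm : ∀ y y', Rf (y * y') = Rf y + Rf y' := fun y y' => by
    rw [(hIm y y').2, hI1, mul_one]
  have hRP : ∀ {y}, Rf y = 0 → y ∈ P := fun {y} h0 => d.move y ⟨1, by
    rw [pow_one]
    rw [← hπ1, map_mul, map_inv, hIR, hI1, h0, pw_one_exp, pw_zero, mul_one, mul_inv_cancel]⟩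
  have hRpow : ∀ y, ∀ n : ℕ, Rf (y ^ n) = n * Rf y := by
    intro y n
    induction n with
    | zero => rw [pow_zero, h10.2]; simp
    | succ n ih => rw [pow_succ, hRm, ih]; push_cast; ring
  have hxp : ∀ y : G, y ^ p ∈ P := fun y => hRP (by rw [hRpow, ZMod.natCast_self, zero_mul])
  obtain ⟨x, hx⟩ : ∃ x, x ∉ P := by
    by_contra hno
    push Not at hno
    exact hPt (eq_top_iff.2 fun y _ => hno y)
  have hrx : Rf x ≠ 0 := fun h0 => hx (hRP h0)
  -- the image of `x` under `t`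
  obtain ⟨n, hn⟩ : ∃ n : ℕ, (n : ZMod p) = g₀ * g₀ * g₀ := ⟨_, ZMod.natCast_zmod_val _⟩
  have htx : ∃ w ∈ P, t x = x ^ n * w := by
    refine ⟨(x ^ n)⁻¹ * t x, hRP ?_, by rw [mul_inv_cancel_left]⟩
    obtain ⟨θ, hθ⟩ : ∃ θ : G ⧸ Z →* G ⧸ Z, ∀ y, θ (π y) = π (t y) :=
      ⟨QuotientGroup.map Z Z t.toMonoidHom (fun z hz => d.tZ z hz), fun y => by subst hπd; rfl⟩
    have h1 : θ (π e) = pw (π e) g₀⁻¹ := by rw [hθ, pw, ← map_pow]; exact hπeq d.te
    have h2 : θ (π s) = pw (π s) (g₀ * g₀) := by rw [hθ, pw, ← map_pow]; exact hπeq d.ts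
    have h3 : θ (π (x * e * x⁻¹)) = pw (π (t x * e * (t x)⁻¹)) g₀⁻¹ := by
      rw [map_mul, map_mul, map_mul, map_mul, map_inv, map_inv, hθ x, h1, conj_pw, map_mul, map_mul, map_inv]
    rw [hIR, hI1, pw_one_exp, map_mul, map_pw, h1, h2, hIR, hI1, pw_one_exp, pw_mul (hπp d.sP),
      mul_pw (show Commute (π e) (pw (π s) (Rf (t x))) from hes.pow_right _), pw_mul (hπp d.sP)] at h3
    have h4 := mul_left_cancel h3
    have h4' : pw (π e) (0 : ZMod p) * pw (π s) (g₀ * g₀ * Rf x) = pw (π e) (0 : ZMod p) * pw (π s) (Rf (t x) * g₀⁻¹) := by rw [h4]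
    have h5 := (huniq h4').2
    have h6 : Rf (t x) = g₀ * g₀ * g₀ * Rf x := by
      rw [← mul_inv_cancel_right₀ (inv_ne_zero d.g_ne) (Rf (t x)), ← h5, inv_inv]; ring
    have h7 := hRm (x ^ n) ((x ^ n)⁻¹ * t x)
    rw [mul_inv_cancel_left, h6, hRpow, hn] at h7
    exact left_eq_add.1 h7
  obtain ⟨w, hwP, hw⟩ := htx
  -- modulo `U`
  obtain ⟨ρ, hρd⟩ : ∃ ρ, ρ = QuotientGroup.mk' U := ⟨_, rfl⟩
  have hρ1 : ∀ x, ρ x = 1 ↔ x ∈ U := fun x => hρd ▸ QuotientGroup.eq_one_iff x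
  have hρeq : ∀ {x y : G}, x * y⁻¹ ∈ U → ρ x = ρ y := fun {x y} h => by
    rwa [← mul_inv_eq_one, ← map_inv, ← map_mul, hρ1]
  have hρp : ∀ {y : G}, y ∈ P → ρ y ^ p = 1 := fun hy => by rw [← map_pow, hρ1]; exact d.pow _ hy
  have hcz : ∀ {y z : G}, y ∈ P → z ∈ Z → Commute (ρ y) (ρ z) := fun hy hz =>
    commutatorElement_eq_one_iff_commute.1 (by rw [← map_commutatorElement, hρ1]; exact d.cent _ hy _ hz)
  have haP := d.Z_le d.aZ
  have hcP := d.Z_le d.cZ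
  have hA : ⁅ρ s, ρ e⁆ = ρ a := by rw [← map_commutatorElement]; exact hρeq d.se
  have hSE : ρ e * ρ s * (ρ e)⁻¹ = (ρ a)⁻¹ * ρ s := by
    rw [← hA, commutatorElement_inv, commutatorElement_def]; group
  have hdecZ : ∀ {z : G}, z ∈ Z → ∃ i j : ZMod p, ρ z = pw (ρ a) i * pw (ρ c) j := by
    intro z hz
    obtain ⟨i, j, hij⟩ := d.genZ z hz
    refine ⟨i, j, ?_⟩
    rw [pw_natCast (hρp haP), pw_natCast (hρp hcP), ← map_pow, ← map_pow, ← map_mul]
    exact hρeq hij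
  have huniqZ : ∀ {i j : ZMod p}, pw (ρ a) i * pw (ρ c) j = 1 → i = 0 ∧ j = 0 := fun {i j} he =>
    d.indZ i j ((hρ1 _).1 (by rw [map_mul, map_pow, map_pow]; exact he))
  have hac : Commute (ρ a) (ρ c) := hcz haP d.cZ
  have huniqZ' : ∀ {i j i' j' : ZMod p}, pw (ρ a) i * pw (ρ c) j = pw (ρ a) i' * pw (ρ c) j' → i = i' ∧ j = j' := by
    intro i j i' j' he
    have key : pw (ρ a) (i - i') * pw (ρ c) (j - j') = 1 := by
      rw [pw_sub (hρp haP), pw_sub (hρp hcP),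
        ((commute_pw (p := p) hac.symm : Commute (pw (ρ c) j) (pw (ρ a) i')).inv_right).symm.mul_mul_mul_comm,
        he, ← (commute_pw (p := p) hac : Commute (pw (ρ a) i') (pw (ρ c) j')).inv_inv.eq.symm, ← mul_inv_rev,
        (commute_pw (p := p) hac : Commute (pw (ρ a) i') (pw (ρ c) j')).eq, mul_inv_cancel]
    obtain ⟨h2, h3⟩ := huniqZ key
    exact ⟨sub_eq_zero.1 h2, sub_eq_zero.1 h3⟩
  -- `a` is central modulo `U`
  have haG : ∀ y, ρ y * ρ a * (ρ y)⁻¹ = ρ a := by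
    intro y
    have h1 : π (y * s * y⁻¹ * s⁻¹) = 1 := by rw [map_mul, map_mul, map_mul, map_inv, map_inv, hconjs, mul_inv_cancel]
    have h2 : π (y * e * y⁻¹ * (e * s ^ (Rf y).val)⁻¹) = 1 := by
      rw [map_mul, hIR, hI1, pw_one_exp, map_inv, map_mul, map_pow]
      exact mul_inv_cancel _
    obtain ⟨z₁, hz₁, hs'⟩ : ∃ z ∈ Z, y * s * y⁻¹ = z * s := ⟨_, (hπ1 _).1 h1, by rw [inv_mul_cancel_right]⟩
    obtain ⟨z₂, hz₂, he'⟩ : ∃ z ∈ Z, y * e * y⁻¹ = z * (e * s ^ (Rf y).val) :=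
      ⟨_, (hπ1 _).1 h2, by rw [inv_mul_cancel_right]⟩
    conv_lhs => rw [← hA]
    rw [show ρ y * ⁅ρ s, ρ e⁆ * (ρ y)⁻¹ = ⁅ρ y * ρ s * (ρ y)⁻¹, ρ y * ρ e * (ρ y)⁻¹⁆ by
      simp only [commutatorElement_def]; group, ← map_inv, ← map_mul, ← map_mul, ← map_mul, ← map_mul, hs', he',
      map_mul, map_mul, map_mul, map_pow]
    have c1 := hcz d.sP hz₁
    have c2 := hcz d.eP hz₁
    have c3 := hcz d.sP hz₂
    have c4 := hcz d.eP hz₂
    have c5 : Commute (ρ z₁) (ρ z₂) := hcz (d.Z_le hz₁) hz₂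
    have c12 : Commute (ρ z₁) (ρ z₂ * (ρ e * ρ s ^ (Rf y).val)) :=
      c5.mul_right (c2.symm.mul_right (c1.symm.pow_right _))
    rw [show ⁅ρ z₁ * ρ s, ρ z₂ * (ρ e * ρ s ^ (Rf y).val)⁆ =
      ρ z₁ * ⁅ρ s, ρ z₂ * (ρ e * ρ s ^ (Rf y).val)⁆ * (ρ z₁)⁻¹ * ⁅ρ z₁, ρ z₂ * (ρ e * ρ s ^ (Rf y).val)⁆ by
        simp only [commutatorElement_def]; group,
      commutatorElement_eq_one_iff_commute.2 c12, mul_one,
      show ⁅ρ s, ρ z₂ * (ρ e * ρ s ^ (Rf y).val)⁆ =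
        ⁅ρ s, ρ z₂⁆ * (ρ z₂ * (⁅ρ s, ρ e⁆ * (ρ e * ⁅ρ s, ρ s ^ (Rf y).val⁆ * (ρ e)⁻¹)) * (ρ z₂)⁻¹) by
        simp only [commutatorElement_def]; group,
      commutatorElement_eq_one_iff_commute.2 c3, commutatorElement_eq_one_iff_commute.2 (Commute.self_pow (ρ s) _),
      hA, one_mul, mul_one, mul_inv_cancel, mul_one, (hcz (d.Z_le hz₂) d.aZ).eq, mul_inv_cancel_right,
      (hcz (d.Z_le hz₁) d.aZ).eq, mul_inv_cancel_right]
  have hapw : ∀ y (i : ZMod p), ρ y * pw (ρ a) i * (ρ y)⁻¹ = pw (ρ a) i := fun y i => by rw [conj_pw, haG]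
  -- conjugates of `c`
  have hconjc : ∀ y : G, ∃ k l : ZMod p, ρ (y * c * y⁻¹) = pw (ρ a) k * pw (ρ c) l := fun y =>
    hdecZ (hZn.conj_mem c d.cZ y)
  choose Kf Lf hKL using hconjc
  have hmovec : ∀ y y', Kf (y * y') = Kf y' + Kf y * Lf y' ∧ Lf (y * y') = Lf y * Lf y' := fun y y' => by
    refine huniqZ' ?_
    rw [← hKL, show y * y' * c * (y * y')⁻¹ = y * (y' * c * y'⁻¹) * y⁻¹ by group, map_mul, map_mul, map_inv,
      hKL y', show ρ y * (pw (ρ a) (Kf y') * pw (ρ c) (Lf y')) * (ρ y)⁻¹ =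
        (ρ y * pw (ρ a) (Kf y') * (ρ y)⁻¹) * (ρ y * pw (ρ c) (Lf y') * (ρ y)⁻¹) by group,
      hapw, conj_pw, ← map_inv, ← map_mul, ← map_mul, hKL y, mul_pw (commute_pw hac), pw_mul (hρp haP),
      pw_mul (hρp hcP), ← mul_assoc, ← pw_add (hρp haP)]
  have hc10 : Kf 1 = 0 ∧ Lf 1 = 1 :=
    huniqZ' (by rw [← hKL, one_mul, inv_one, mul_one, pw_one_exp, pw_zero, one_mul])
  have hL1 : ∀ y, Lf y = 1 := eq_one_of_mult hG hc10.2 fun x y => (hmovec x y).2
  have hKm : ∀ y y', Kf (y * y') = Kf y + Kf y' := fun y y' => by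
    rw [(hmovec y y').1, hL1, mul_one, add_comm]
  have hKP : ∀ {y}, y ∈ P → Kf y = 0 := fun {y} hy => by
    refine ((huniqZ' (i := Kf y) (j := Lf y) (i' := 0) (j' := 1) ?_)).1
    rw [← hKL, map_mul, map_mul, map_inv, (hcz hy d.cZ).eq, mul_inv_cancel_right, pw_zero, pw_one_exp, one_mul]
  have hKpow : ∀ y, ∀ m : ℕ, Kf (y ^ m) = m * Kf y := by
    intro y m
    induction m with
    | zero => rw [pow_zero, hc10.1]; simp
    | succ m ih => rw [pow_succ, hKm, ih]; push_cast; ring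
  obtain ⟨θ, hθ⟩ : ∃ θ : G ⧸ U →* G ⧸ U, ∀ y, θ (ρ y) = ρ (t y) :=
    ⟨QuotientGroup.map U U t.toMonoidHom (fun z hz => d.tU z hz), fun y => by subst hρd; rfl⟩
  have hθa : θ (ρ a) = pw (ρ a) g₀ := by rw [hθ, pw, ← map_pow]; exact hρeq d.ta
  have hθc : θ (ρ c) = ρ c := by rw [hθ]; exact hρeq d.tc
  have hKx : Kf x = 0 := by
    have h1 : θ (ρ (x * c * x⁻¹)) = ρ (t x * c * (t x)⁻¹) := by
      rw [map_mul, map_mul, map_mul, map_mul, map_inv, map_inv, hθ, hθc, map_mul, map_mul, map_inv]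
    rw [hKL, hKL, map_mul, map_pw, map_pw, hθa, hθc, pw_mul (hρp haP), hL1, hL1] at h1
    have h2 := (huniqZ' h1).1
    rw [hw, hKm, hKpow, hKP hwP, add_zero, hn] at h2
    have h3 : (g₀ * g₀ * g₀ - g₀) * Kf x = 0 := by rw [sub_mul, ← h2, sub_self]
    refine (mul_eq_zero.1 h3).resolve_left fun h4 => hg2 ?_
    rw [sub_eq_zero] at h4
    exact mul_right_cancel₀ d.g_ne (by rw [one_mul, pow_two]; exact h4)
  have hxc : ρ x * ρ c * (ρ x)⁻¹ = ρ c := by
    have := hKL x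
    rwa [hKx, hL1, pw_zero, pw_one_exp, one_mul, map_mul, map_mul, map_inv] at this
  -- the commutator of `x` with `s`
  obtain ⟨u, hh, hxs⟩ : ∃ u hh : ZMod p, ρ (x * s * x⁻¹) = pw (ρ a) u * pw (ρ c) hh * ρ s := by
    have h1 : π (x * s * x⁻¹ * s⁻¹) = 1 := by rw [map_mul, map_mul, map_mul, map_inv, map_inv, hconjs, mul_inv_cancel]
    obtain ⟨u, hh, e1⟩ := hdecZ ((hπ1 _).1 h1)
    exact ⟨u, hh, by rw [← e1, ← map_mul, inv_mul_cancel_right]⟩
  -- `hh = 0`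
  have hh0 : hh = 0 := by
    obtain ⟨K, hK⟩ : ∃ K, K = Subgroup.zpowers (ρ a) := ⟨_, rfl⟩
    haveI hKn : K.Normal := hK ▸ Solv.normal_of_le_center' (Subgroup.zpowers_le.2 (Subgroup.mem_center_iff.2 fun g => by
      obtain ⟨y, rfl⟩ : ∃ y, ρ y = g := hρd ▸ QuotientGroup.mk'_surjective U g
      exact mul_inv_eq_iff_eq_mul.1 (haG y)))
    obtain ⟨σ, hσ⟩ : ∃ σ, σ = (QuotientGroup.mk' K).comp ρ := ⟨_, rfl⟩
    have hσρ : ∀ y, σ y = QuotientGroup.mk' K (ρ y) := fun y => by rw [hσ]; rfl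
    have hσa : ∀ i : ZMod p, QuotientGroup.mk' K (pw (ρ a) i) = 1 := fun i =>
      (QuotientGroup.eq_one_iff _).2 (hK ▸ Subgroup.pow_mem _ (Subgroup.mem_zpowers _) _)
    have hσc : σ c ^ p = 1 := by rw [hσρ, ← map_pow, hρp hcP, map_one]
    have hσs : σ s ^ p = 1 := by rw [hσρ, ← map_pow, hρp d.sP, map_one]
    have hσw : ∀ {y}, y ∈ P → Commute (σ y) (σ s) := by
      intro y hy
      obtain ⟨i, j, hij⟩ := d.genP y hy
      have hes' : Commute (σ e) (σ s) := by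
        refine (commutatorElement_eq_one_iff_commute.1 ?_).symm
        rw [hσρ, hσρ, ← map_commutatorElement, hA, ← pw_one_exp (p := p) (ρ a), hσa]
      have : σ y = σ (y * (e ^ i * s ^ j)⁻¹) * (σ e ^ i * σ s ^ j) := by
        rw [← map_pow, ← map_pow, ← map_mul, ← map_mul, inv_mul_cancel_right]
      rw [this]
      refine Commute.mul_left ?_ ((hes'.pow_left i).mul_left ((Commute.refl _).pow_left j))
      rw [hσρ, hσρ]
      exact ((hcz d.sP hij).map (QuotientGroup.mk' K)).symm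
    have hσx : σ x * σ s * (σ x)⁻¹ = pw (σ c) hh * σ s := by
      rw [← map_inv, ← map_mul, ← map_mul, hσρ, hxs, map_mul, map_mul, hσa, one_mul, map_pw, ← hσρ, ← hσρ]
    have hσxc : Commute (σ x) (σ c) := mul_inv_eq_iff_eq_mul.1 (by
      rw [hσρ, hσρ, ← map_inv, ← map_mul, ← map_mul, hxc])
    have hσsc : Commute (σ c) (σ s) := by rw [hσρ, hσρ]; exact ((hcz d.sP d.cZ).map _).symm
    have hiter : ∀ m : ℕ, σ x ^ m * σ s * (σ x ^ m)⁻¹ = pw (σ c) ((m : ZMod p) * hh) * σ s := by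
      intro m
      induction m with
      | zero => simp [pw_zero]
      | succ m ih =>
        rw [pow_succ, show σ x ^ m * σ x * σ s * (σ x ^ m * σ x)⁻¹ =
          σ x ^ m * (σ x * σ s * (σ x)⁻¹) * (σ x ^ m)⁻¹ by group, hσx,
          show σ x ^ m * (pw (σ c) hh * σ s) * (σ x ^ m)⁻¹ =
            (σ x ^ m * pw (σ c) hh * (σ x ^ m)⁻¹) * (σ x ^ m * σ s * (σ x ^ m)⁻¹) by group, ih,
          show σ x ^ m * pw (σ c) hh = pw (σ c) hh * σ x ^ m from (hσxc.pow_pow m hh.val).eq,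
          mul_inv_cancel_right, ← mul_assoc, ← pw_add hσc]
        congr 2
        push_cast
        ring
    have h2 : σ (t (x * s * x⁻¹)) = pw (σ c) hh * σ (t s) := by
      rw [hσρ, ← hθ, hxs]
      simp only [map_mul, map_pw, hθa, hθc, pw_mul (hρp haP), hθ]
      rw [← map_pw, hσa, one_mul, ← hσρ, ← hσρ]
    obtain ⟨i, j, hij⟩ := hdecZ d.ts
    have h3 : σ (t s) = pw (σ c) j * pw (σ s) (g₀ * g₀) := by
      have h4 : σ (t s) = σ (t s * (s ^ (g₀ * g₀).val)⁻¹) * σ (s ^ (g₀ * g₀).val) := by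
        rw [← map_mul, inv_mul_cancel_right]
      rw [h4, hσρ (t s * _), hij, map_mul, hσa, one_mul, map_pw, ← hσρ, map_pow]
      rfl
    rw [map_mul, map_mul, map_inv, map_mul, map_mul, map_inv, h3, hw, map_mul, map_pow] at h2
    have hwc : Commute (σ w) (σ c) := by rw [hσρ, hσρ]; exact (hcz hwP d.cZ).map _
    have hM : σ w * (pw (σ c) j * pw (σ s) (g₀ * g₀)) * (σ w)⁻¹ = pw (σ c) j * pw (σ s) (g₀ * g₀) := by
      have : Commute (σ w) (pw (σ c) j * pw (σ s) (g₀ * g₀)) :=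
        (hwc.pow_right _).mul_right ((hσw hwP).pow_right _)
      rw [this.eq, mul_inv_cancel_right]
    rw [show σ x ^ n * σ w * (pw (σ c) j * pw (σ s) (g₀ * g₀)) * (σ x ^ n * σ w)⁻¹ =
      σ x ^ n * (σ w * (pw (σ c) j * pw (σ s) (g₀ * g₀)) * (σ w)⁻¹) * (σ x ^ n)⁻¹ by group, hM,
      show σ x ^ n * (pw (σ c) j * pw (σ s) (g₀ * g₀)) * (σ x ^ n)⁻¹ =
        (σ x ^ n * pw (σ c) j * (σ x ^ n)⁻¹) * (σ x ^ n * pw (σ s) (g₀ * g₀) * (σ x ^ n)⁻¹) by group,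
      conj_pw (σ x ^ n) (σ s), hiter, show σ x ^ n * pw (σ c) j = pw (σ c) j * σ x ^ n from
        (hσxc.pow_pow n j.val).eq, mul_inv_cancel_right,
      mul_pw (show Commute (pw (σ c) ((n : ZMod p) * hh)) (σ s) from hσsc.pow_left _), pw_mul hσc] at h2
    rw [← mul_assoc (pw (σ c) j), ← mul_assoc (pw (σ c) hh), ← pw_add hσc, ← pw_add hσc] at h2
    have h5 : pw (σ c) (j + (n : ZMod p) * hh * (g₀ * g₀)) = pw (σ c) (hh + j) := mul_right_cancel h2
    have h6 : pw (σ c) ((n : ZMod p) * hh * (g₀ * g₀) - hh) = 1 := by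
      rw [show (n : ZMod p) * hh * (g₀ * g₀) - hh = (j + (n : ZMod p) * hh * (g₀ * g₀)) - (hh + j) by ring,
        pw_sub hσc, h5, mul_inv_cancel]
    have h7 : (n : ZMod p) * hh * (g₀ * g₀) - hh = 0 := by
      have h8 : pw (ρ c) ((n : ZMod p) * hh * (g₀ * g₀) - hh) ∈ K := by
        rw [← QuotientGroup.eq_one_iff]
        rw [hσρ] at h6
        rw [← QuotientGroup.mk'_apply, map_pw]; exact h6
      rw [hK] at h8
      obtain ⟨m, hm⟩ := mem_powers_iff_mem_zpowers.2 h8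
      have h9 : pw (ρ a) (m : ZMod p) * pw (ρ c) (0 : ZMod p) = pw (ρ a) (0 : ZMod p) * pw (ρ c) ((n : ZMod p) * hh * (g₀ * g₀) - hh) := by
        rw [pw_zero, pw_zero, mul_one, one_mul, pw_natCast (hρp haP)]; exact hm
      exact (huniqZ' h9).2.symm
    have h10 : hh * (g₀ ^ 5 - 1) = 0 := by rw [← h7, hn]; ring
    exact (mul_eq_zero.1 h10).resolve_right (sub_ne_zero.2 hg5)
  rw [hh0, pw_zero, mul_one, map_mul, map_mul, map_inv] at hxs
  -- the new element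
  obtain ⟨X, hX⟩ : ∃ X, X = x * e ^ u.val := ⟨_, rfl⟩
  have hEi : ∀ i : ℕ, ρ e ^ i * ρ s * (ρ e ^ i)⁻¹ = (ρ a ^ i)⁻¹ * ρ s := by
    intro i
    induction i with
    | zero => simp
    | succ i ih =>
      rw [pow_succ', show ρ e * ρ e ^ i * ρ s * (ρ e * ρ e ^ i)⁻¹ =
        ρ e * (ρ e ^ i * ρ s * (ρ e ^ i)⁻¹) * (ρ e)⁻¹ by group, ih,
        show ρ e * ((ρ a ^ i)⁻¹ * ρ s) * (ρ e)⁻¹ = (ρ e * (ρ a ^ i)⁻¹) * (ρ s * (ρ e)⁻¹) by group,
        ((hcz d.eP d.aZ).pow_right i).inv_right.eq, show (ρ a ^ i)⁻¹ * ρ e * (ρ s * (ρ e)⁻¹) =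
          (ρ a ^ i)⁻¹ * (ρ e * ρ s * (ρ e)⁻¹) by group, hSE, pow_succ']
      group
  have hXs : Commute (ρ X) (ρ s) := by
    refine mul_inv_eq_iff_eq_mul.1 ?_
    rw [hX, map_mul, map_pow, show ρ x * ρ e ^ u.val * ρ s * (ρ x * ρ e ^ u.val)⁻¹ =
      ρ x * (ρ e ^ u.val * ρ s * (ρ e ^ u.val)⁻¹) * (ρ x)⁻¹ by group, hEi,
      show ρ x * ((ρ a ^ u.val)⁻¹ * ρ s) * (ρ x)⁻¹ =
        (ρ x * ρ a ^ u.val * (ρ x)⁻¹)⁻¹ * (ρ x * ρ s * (ρ x)⁻¹) by group,
      show ρ x * ρ a ^ u.val * (ρ x)⁻¹ = pw (ρ a) u from hapw x u, hxs, inv_mul_cancel_left]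
  have hXa : Commute (ρ X) (ρ a) := mul_inv_eq_iff_eq_mul.1 (haG X)
  have hXc : Commute (ρ X) (ρ c) := by
    rw [hX, map_mul, map_pow]
    exact (show Commute (ρ x) (ρ c) from mul_inv_eq_iff_eq_mul.1 hxc).mul_left ((hcz d.eP d.cZ).pow_left _)
  have hXP : X ∉ P := fun h1 => hx (by
    have := P.mul_mem h1 (P.inv_mem (P.pow_mem d.eP u.val))
    rwa [hX, mul_inv_cancel_right] at this)
  have hSA : Commute (ρ s) (ρ a) := hcz d.sP d.aZ
  have hSC : Commute (ρ s) (ρ c) := hcz d.sP d.cZ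
  -- elements of `P` centralising `s`
  have hcentS : ∀ {y : G}, y ∈ P → Commute (ρ y) (ρ s) → ∃ j k l : ZMod p,
      π y = pw (π s) j ∧ ρ y = pw (ρ a) k * pw (ρ c) l * pw (ρ s) j := by
    intro y hy hys
    obtain ⟨i, j, hij⟩ := hdecP hy
    have hz : y * (e ^ i.val * s ^ j.val)⁻¹ ∈ Z := by
      rw [← hπ1, map_mul, hij, map_inv, map_mul, map_pow, map_pow]; exact mul_inv_cancel _
    obtain ⟨k, l, hkl⟩ := hdecZ hz
    have hy' : ρ y = pw (ρ a) k * pw (ρ c) l * (ρ e ^ i.val * pw (ρ s) j) := by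
      rw [← hkl, show pw (ρ s) j = ρ (s ^ j.val) from (map_pow ρ s _).symm, ← map_pow, ← map_mul, ← map_mul,
        inv_mul_cancel_right]
    have hcc : Commute (ρ e ^ i.val) (ρ s) := by
      have h1 : ρ e ^ i.val = (pw (ρ a) k * pw (ρ c) l)⁻¹ * ρ y * (pw (ρ s) j)⁻¹ := by rw [hy']; group
      rw [h1]
      exact ((((hSA.pow_right _).symm).mul_left ((hSC.pow_right _).symm)).inv_left.mul_left hys).mul_left
        ((Commute.refl (ρ s)).pow_left _).inv_left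
    have hi0 : i = 0 := by
      have h1 : (ρ a ^ i.val)⁻¹ = 1 := by
        have h2 := hEi i.val
        rw [hcc.eq, mul_inv_cancel_right] at h2
        exact right_eq_mul.1 h2
      exact (huniqZ (i := i) (j := 0) (by rw [pw_zero, mul_one]; exact inv_eq_one.1 h1)).1
    refine ⟨j, k, l, by rw [hij, hi0, pw_zero, one_mul], ?_⟩
    rw [hy', hi0, ZMod.val_zero, pow_zero, one_mul]
  -- the image of `X`
  have htX : ∃ v ∈ P, t X = X ^ n * v ∧ Commute (ρ v) (ρ s) := by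
    have hRX : Rf X = Rf x := by
      rw [hX, hRm, hRpow]
      have h0 : Rf e = 0 := (huniq (i := If e) (j := Rf e) (i' := 1) (j' := 0) (by
        rw [← hIR, mul_inv_cancel_right, pw_one_exp, pw_zero, mul_one])).2
      rw [h0, mul_zero, add_zero]
    have hRt : Rf (t X) = (n : ZMod p) * Rf x := by
      rw [hX, map_mul, hw, hRm, hRm, hRpow]
      have h0 : ∀ {y}, y ∈ P → Rf y = 0 := fun {y} hy => by
        obtain ⟨i, j, hij⟩ := hdecP hy
        refine (huniq (i := If y) (j := Rf y) (i' := 1) (j' := 0) ?_).2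
        rw [← hIR, map_mul, map_mul, map_inv, pw_one_exp, pw_zero, mul_one, hij]
        exact mul_inv_eq_iff_eq_mul.2 (((Commute.refl _).pow_left _).mul_left (hes.symm.pow_left _)).eq
      have htP : t (e ^ u.val) ∈ P := by
        rw [map_pow]
        have h1 := P.mul_mem (d.Z_le d.te) (P.pow_mem d.eP (g₀⁻¹).val)
        rw [inv_mul_cancel_right] at h1
        exact P.pow_mem h1 _
      rw [h0 hwP, h0 htP, add_zero, add_zero]
    refine ⟨(X ^ n)⁻¹ * t X, hRP ?_, by rw [mul_inv_cancel_left], ?_⟩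
    · have h7 := hRm (X ^ n) ((X ^ n)⁻¹ * t X)
      rw [mul_inv_cancel_left, hRt, hRpow, hRX] at h7
      exact left_eq_add.1 h7
    · rw [map_mul, map_inv, map_pow]
      refine (hXs.pow_left n).inv_left.mul_left ?_
      obtain ⟨i, j, hij⟩ := hdecZ d.ts
      have hts : θ (ρ s) = pw (ρ a) i * pw (ρ c) j * pw (ρ s) (g₀ * g₀) := by
        rw [hθ, ← hij, show pw (ρ s) (g₀ * g₀) = ρ (s ^ (g₀ * g₀).val) from (map_pow ρ s _).symm, ← map_mul,
          inv_mul_cancel_right]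
      have h1 : Commute (ρ (t X)) (θ (ρ s)) := by rw [← hθ]; exact hXs.map θ
      have h2 : Commute (ρ (t X)) (ρ a) := mul_inv_eq_iff_eq_mul.1 (haG _)
      have h3 : Commute (ρ (t X)) (ρ c) := by
        have := hXc.map θ
        rwa [hθ, hθc] at this
      have h4 : Commute (ρ (t X)) (pw (ρ s) (g₀ * g₀)) := by
        have h5 : pw (ρ s) (g₀ * g₀) = (pw (ρ a) i * pw (ρ c) j)⁻¹ * θ (ρ s) := by
          rw [hts, inv_mul_cancel_left]
        rw [h5]
        exact ((h2.pow_right _).mul_right (h3.pow_right _)).inv_right.mul_right h1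
      have h6 := h4.pow_right ((g₀ * g₀)⁻¹).val
      rwa [← pw, pw_mul (hρp d.sP), mul_inv_cancel₀ (mul_ne_zero d.g_ne d.g_ne), pw_one_exp] at h6
  obtain ⟨v, hvP, hv, hvs⟩ := htX
  have hXp : ρ X ^ p = 1 := by
    have hcomm : Commute (ρ (X ^ p)) (ρ s) := by rw [map_pow]; exact hXs.pow_left _
    obtain ⟨j, k, l, hπy, hρy⟩ := hcentS (hxp X) hcomm
    obtain ⟨jv, kv, lv, -, hρv⟩ := hcentS hvP hvs
    have hv1 : ρ v ^ p = 1 := hρp hvP
    have hXv : Commute (ρ X) (ρ v) := by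
      rw [hρv]; exact ((hXa.pow_right _).mul_right (hXc.pow_right _)).mul_right (hXs.pow_right _)
    have htp : θ (ρ (X ^ p)) = pw (ρ (X ^ p)) (n : ZMod p) := by
      rw [pw_natCast (hρp (hxp X)), hθ, map_pow t, hv, map_pow, map_mul, map_pow,
        (hXv.pow_left n).mul_pow, hv1, mul_one, map_pow, ← pow_mul, ← pow_mul, mul_comm]
    have hθs : π (t s) = pw (π s) (g₀ * g₀) := by rw [pw, ← map_pow]; exact hπeq d.ts
    have hj0 : j = 0 := by
      have h1 : π (t (X ^ p)) = pw (π (X ^ p)) (n : ZMod p) := by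
        rw [pw_natCast (hπp (hxp X)), ← map_pow]
        refine hπeq (d.U_le ?_)
        rw [← hρ1, map_mul, map_inv, ← hθ, htp, pw_natCast (hρp (hxp X)), map_pow, map_pow, map_pow, mul_inv_cancel]
      obtain ⟨θ', hθ'⟩ : ∃ θ' : G ⧸ Z →* G ⧸ Z, ∀ y, θ' (π y) = π (t y) :=
        ⟨QuotientGroup.map Z Z t.toMonoidHom (fun z hz => d.tZ z hz), fun y => by subst hπd; rfl⟩
      rw [← hθ', hπy, map_pw, hθ', hθs, pw_mul (hπp d.sP), pw_mul (hπp d.sP)] at h1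
      have h1' : pw (π e) (0 : ZMod p) * pw (π s) (g₀ * g₀ * j) = pw (π e) (0 : ZMod p) * pw (π s) (j * (n : ZMod p)) := by rw [h1]
      have h2 := (huniq h1').2
      rw [hn] at h2
      have h3 : j * (g₀ * g₀ * (g₀ - 1)) = 0 := by linear_combination -h2
      exact (mul_eq_zero.1 h3).resolve_right
        (mul_ne_zero (mul_ne_zero d.g_ne d.g_ne) (sub_ne_zero.2 hg1))
    rw [hj0, pw_zero, mul_one] at hρy
    rw [hρy, map_mul, map_pw, map_pw, hθa, hθc, mul_pw (commute_pw hac), pw_mul (hρp haP), pw_mul (hρp haP),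
      pw_mul (hρp hcP), hn] at htp
    obtain ⟨h1, h2⟩ := huniqZ' htp
    have hk : k = 0 := by
      have h3 : k * (g₀ * (g₀ ^ 2 - 1)) = 0 := by linear_combination -h1
      exact (mul_eq_zero.1 h3).resolve_right (mul_ne_zero d.g_ne (sub_ne_zero.2 hg2))
    have hl : l = 0 := by
      have h3 : l * (g₀ ^ 3 - 1) = 0 := by linear_combination -h2
      exact (mul_eq_zero.1 h3).resolve_right (sub_ne_zero.2 hg3)
    rw [← map_pow, hρy, hk, hl, pw_zero, pw_zero, one_mul]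
  -- the section
  obtain ⟨L, hL⟩ : ∃ L : Subgroup (G ⧸ U), L = Subgroup.closure {ρ X, ρ s, ρ a, ρ c} := ⟨_, rfl⟩
  have hmem : ∀ {z}, z ∈ ({ρ X, ρ s, ρ a, ρ c} : Set (G ⧸ U)) → z ∈ L := fun hz =>
    hL ▸ Subgroup.subset_closure hz
  have hgenc : ∀ z ∈ ({ρ X, ρ s, ρ a, ρ c} : Set (G ⧸ U)), ∀ z' ∈ ({ρ X, ρ s, ρ a, ρ c} : Set (G ⧸ U)),
      Commute z z' := by
    intro z hz z' hz'
    simp only [Set.mem_insert_iff, Set.mem_singleton_iff] at hz hz'
    rcases hz with rfl | rfl | rfl | rfl <;> rcases hz' with rfl | rfl | rfl | rfl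
    exacts [Commute.refl _, hXs, hXa, hXc, hXs.symm, Commute.refl _, hSA, hSC, hXa.symm, hSA.symm,
      Commute.refl _, hac, hXc.symm, hSC.symm, hac.symm, Commute.refl _]
  have hLc : ∀ z ∈ L, ∀ z' ∈ L, Commute z z' := by
    intro z hz z' hz'
    rw [hL] at hz hz'
    induction hz, hz' using Subgroup.closure_induction₂ with
    | mem z z' hz hz' => exact hgenc z hz z' hz'
    | one_left z _ => exact Commute.one_left z
    | one_right z _ => exact Commute.one_right z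
    | mul_left z₁ z₂ z' _ _ _ h1 h2 => exact h1.mul_left h2
    | mul_right z₁ z₂ z' _ _ _ h1 h2 => exact h1.mul_right h2
    | inv_left z z' _ _ h1 => exact h1.inv_left
    | inv_right z z' _ _ h1 => exact h1.inv_right
  have hLp : ∀ z ∈ L, z ^ p = 1 := by
    intro z hz
    rw [hL] at hz
    induction hz using Subgroup.closure_induction with
    | mem z hz =>
      simp only [Set.mem_insert_iff, Set.mem_singleton_iff] at hz
      rcases hz with rfl | rfl | rfl | rfl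
      exacts [hXp, hρp d.sP, hρp haP, hρp hcP]
    | one => exact one_pow p
    | mul z₁ z₂ h1 h2 ih1 ih2 => rw [(hLc z₁ (hL ▸ h1) z₂ (hL ▸ h2)).mul_pow, ih1, ih2, one_mul]
    | inv z _ ih => rw [inv_pow, ih, inv_one]
  have hcard : p ^ 4 ≤ Nat.card L := by
    obtain ⟨Φ, hΦ⟩ : ∃ Φ : ZMod p × ZMod p × ZMod p × ZMod p → L, ∀ v,
        (Φ v : G ⧸ U) = pw (ρ a) v.2.2.1 * pw (ρ c) v.2.2.2 * pw (ρ s) v.2.1 * pw (ρ X) v.1 :=
      ⟨fun v => ⟨_, L.mul_mem (L.mul_mem (L.mul_mem (L.pow_mem (hmem (by simp)) _) (L.pow_mem (hmem (by simp)) _))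
        (L.pow_mem (hmem (by simp)) _)) (L.pow_mem (hmem (by simp)) _)⟩, fun v => rfl⟩
    have hlow : ∀ {j k l : ZMod p}, pw (ρ a) k * pw (ρ c) l * pw (ρ s) j = 1 → j = 0 ∧ k = 0 ∧ l = 0 := by
      intro j k l h1
      have h2 : π (s ^ j.val) = 1 := by
        rw [hπ1]
        have hU' : a ^ k.val * c ^ l.val * s ^ j.val ∈ U := by
          rw [← hρ1, map_mul, map_mul, map_pow, map_pow, map_pow]; exact h1
        have := Z.mul_mem (Z.inv_mem (Z.mul_mem (Z.pow_mem d.aZ k.val) (Z.pow_mem d.cZ l.val))) (d.U_le hU')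
        rwa [inv_mul_cancel_left] at this
      have hj : j = 0 := (huniq (i := 0) (j := j) (i' := 0) (j' := 0) (by
        rw [pw_zero, pw_zero, one_mul, mul_one]
        rw [map_pow] at h2
        exact h2)).2
      rw [hj, pw_zero, mul_one] at h1
      exact ⟨hj, huniqZ h1⟩
    have hinj : Function.Injective Φ := by
      intro v v' hvv
      have e1 : (Φ v : G ⧸ U) = Φ v' := by rw [hvv]
      rw [hΦ, hΦ] at e1
      have hm : ∀ {z}, z ∈ ({ρ X, ρ s, ρ a, ρ c} : Set (G ⧸ U)) → ∀ i : ZMod p, pw z i ∈ L := fun hz i =>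
        L.pow_mem (hmem hz) _
      have mul4 : ∀ r r' : ZMod p × ZMod p × ZMod p × ZMod p,
          pw (ρ a) (r.2.2.1 + r'.2.2.1) * pw (ρ c) (r.2.2.2 + r'.2.2.2) * pw (ρ s) (r.2.1 + r'.2.1) *
            pw (ρ X) (r.1 + r'.1) =
          (pw (ρ a) r.2.2.1 * pw (ρ c) r.2.2.2 * pw (ρ s) r.2.1 * pw (ρ X) r.1) *
          (pw (ρ a) r'.2.2.1 * pw (ρ c) r'.2.2.2 * pw (ρ s) r'.2.1 * pw (ρ X) r'.1) := by
        intro r r'
        rw [pw_add (hρp haP), pw_add (hρp hcP), pw_add (hρp d.sP), pw_add hXp]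
        rw [(hLc _ (hm (by simp) r'.2.2.1) _ (hm (by simp) r.2.2.2)).mul_mul_mul_comm,
          (hLc _ (L.mul_mem (hm (by simp) r'.2.2.1) (hm (by simp) r'.2.2.2)) _ (hm (by simp) r.2.1)).mul_mul_mul_comm,
          (hLc _ (L.mul_mem (L.mul_mem (hm (by simp) r'.2.2.1) (hm (by simp) r'.2.2.2)) (hm (by simp) r'.2.1))
            _ (hm (by simp) r.1)).mul_mul_mul_comm]
      have key : pw (ρ a) (v.2.2.1 - v'.2.2.1) * pw (ρ c) (v.2.2.2 - v'.2.2.2) * pw (ρ s) (v.2.1 - v'.2.1) *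
          pw (ρ X) (v.1 - v'.1) = 1 := by
        have e2 := mul4 (v.1 - v'.1, v.2.1 - v'.2.1, v.2.2.1 - v'.2.2.1, v.2.2.2 - v'.2.2.2) v'
        simp only [sub_add_cancel] at e2
        exact mul_eq_right.1 (e2.symm.trans e1)
      obtain ⟨r, hr⟩ : ∃ r, r = v.1 - v'.1 := ⟨_, rfl⟩
      rw [← hr] at key
      have hr0 : r = 0 := by
        by_contra hne
        refine hXP (hRP ?_)
        have h1 : X ^ r.val ∈ P := by
          have hU' : a ^ (v.2.2.1 - v'.2.2.1).val * c ^ (v.2.2.2 - v'.2.2.2).val * s ^ (v.2.1 - v'.2.1).val *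
              X ^ r.val ∈ U := by
            rw [← hρ1, map_mul, map_mul, map_mul, map_pow, map_pow, map_pow, map_pow]; exact key
          have := P.mul_mem (P.inv_mem (P.mul_mem (P.mul_mem (P.pow_mem haP (v.2.2.1 - v'.2.2.1).val)
            (P.pow_mem hcP (v.2.2.2 - v'.2.2.2).val)) (P.pow_mem d.sP (v.2.1 - v'.2.1).val)))
            (d.Z_le (d.U_le hU'))
          rwa [inv_mul_cancel_left] at this
        obtain ⟨i, j, hij⟩ := hdecP h1
        have h2 : Rf (X ^ r.val) = 0 := by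
          refine (huniq (i := If (X ^ r.val)) (j := Rf (X ^ r.val)) (i' := 1) (j' := 0) ?_).2
          rw [← hIR, map_mul, map_mul, map_inv, pw_one_exp, pw_zero, mul_one, hij]
          exact mul_inv_eq_iff_eq_mul.2 (((Commute.refl _).pow_left _).mul_left (hes.symm.pow_left _)).eq
        rw [hRpow, ZMod.natCast_zmod_val] at h2
        exact (mul_eq_zero.1 h2).resolve_left hne
      rw [hr0, pw_zero, mul_one] at key
      obtain ⟨h1, h2, h3⟩ := hlow key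
      refine Prod.ext (sub_eq_zero.1 (hr ▸ hr0)) (Prod.ext (sub_eq_zero.1 h1) (Prod.ext (sub_eq_zero.1 h2) (sub_eq_zero.1 h3)))
    have := Nat.card_le_card_of_injective Φ hinj
    rw [Nat.card_prod, Nat.card_prod, Nat.card_prod, Nat.card_zmod] at this
    calc p ^ 4 = p * (p * (p * p)) := by ring
      _ ≤ _ := this
  obtain ⟨R, hR⟩ : ∃ R, R = L.comap ρ := ⟨_, rfl⟩
  have hUR : U ≤ R := fun z hz => hR ▸ Subgroup.mem_comap.2 (by rw [(hρ1 z).2 hz]; exact L.one_mem)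
  have h1 : Nat.card R ≤ p ^ 3 * Nat.card U := by
    refine card_le_rank hsr hUR (fun y _ z hz => hUn.conj_mem z hz y) (fun y hy z hz => ?_) fun y hy => ?_
    · rw [hR, Subgroup.mem_comap] at hy hz
      rw [← hρ1, map_commutatorElement]
      exact commutatorElement_eq_one_iff_commute.2 (hLc _ hy _ hz)
    · rw [hR, Subgroup.mem_comap] at hy
      rw [← hρ1, map_pow]
      exact hLp _ hy
  have h2 : Nat.card R = Nat.card U * Nat.card L := by
    rw [card_eq_mul_map hUR, hR, ← hρd, Subgroup.map_comap_eq_self_of_surjective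
      (hρd ▸ QuotientGroup.mk'_surjective U)]
  have h3 : Nat.card U * p ^ 4 ≤ p ^ 3 * Nat.card U :=
    (Nat.mul_le_mul_left _ hcard).trans (h2 ▸ h1)
  have h4 : p ^ 3 * Nat.card U < p ^ 4 * Nat.card U :=
    Nat.mul_lt_mul_of_pos_right (Nat.pow_lt_pow_right hp.out.one_lt (by norm_num)) Nat.card_pos
  rw [mul_comm (Nat.card U)] at h3
  omega

end Cfsg.Agent.Local.FS.RankThreeNormal
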