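import Cfsg.Agent.Lib.Local.FS.RankThreeNormal.Stable
import Cfsg.Agent.Lib.Local.FS.RankThreeNormal.Coprime
import Cfsg.Agent.Lib.Local.FS.RankThreeNormal.Top
import Cfsg.Agent.Lib.Fusion.Basic

/-!
The lines of the top quotient: a Sylow subgroup of a group of automorphisms that moves the line of
`E` fixes a line which is, after moving the frame by an automorphism, fixed by the torus, and is
then normalised by it.
-/

set_option autoImplicit false

open scoped commutatorElement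

namespace Cfsg.Agent.Local.FS.RankThreeNormal

open Cfsg.Agent.Fusion

variable {G : Type*} [Group G] {p : ℕ} [hp : Fact p.Prime]
variable {E U : Subgroup G} {a b c s : G} {co : G → ZMod p × ZMod p × ZMod p}

namespace Frame

/-- The coordinates in the top quotient. -/
def pr (b s : G) (co : G → ZMod p × ZMod p × ZMod p) (x : G) : ZMod p × ZMod p :=
  ((co (x * (pw s (rot b co x))⁻¹)).2.1, rot b co x)

variable (h : Frame p E U a b c s co)
include h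

theorem rot_inv (x : G) : rot b co x⁻¹ = -rot b co x :=
  eq_neg_of_add_eq_zero_left (by rw [← h.rot_mul, inv_mul_cancel, h.rot_of_mem E.one_mem])

theorem pr_eq {e : G} (he : e ∈ E) (i : ℕ) : pr b s co (e * s ^ i) = ((co e).2.1, (i : ZMod p)) := by
  have hr : rot b co (e * s ^ i) = i := by
    rw [h.rot_mul, h.rot_of_mem he, h.rot_pow, h.rot_s, zero_add, mul_one]
  have hsp : (co (s ^ p)).2.1 = 0 := ((h.top_section s s).2).2
  refine Prod.ext ?_ hr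
  show (co (e * s ^ i * (pw s (rot b co (e * s ^ i)))⁻¹)).2.1 = _
  have e1 : e * s ^ i * (pw s (i : ZMod p))⁻¹ = e * (s ^ p) ^ (i / p) := by
    rw [pw, ZMod.val_natCast]
    conv_lhs => rw [← Nat.div_add_mod i p]
    rw [Nat.mul_add_mod, Nat.mod_mod, pow_add, pow_mul, mul_assoc, mul_inv_cancel_right]
  rw [hr, e1, h.add e he _ (E.pow_mem (h.pow_mem_E s) _), h.co_pow (h.pow_mem_E s)]
  simp [hsp]

theorem pr_of_mem {e : G} (he : e ∈ E) : pr b s co e = ((co e).2.1, 0) := by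
  have := h.pr_eq he 0
  rwa [pow_zero, mul_one, Nat.cast_zero] at this

theorem pr_one : pr b s co 1 = 0 := by
  rw [h.pr_of_mem E.one_mem, h.co_one]; rfl

theorem pr_b : pr b s co b = (1, 0) := by rw [h.pr_of_mem h.bE, h.co_b]

theorem pr_s : pr b s co s = (0, 1) := by
  have := h.pr_eq E.one_mem 1
  rwa [one_mul, pow_one, h.co_one, Nat.cast_one] at this

theorem pr_mul (x y : G) : pr b s co (x * y) = pr b s co x + pr b s co y := by
  obtain ⟨e, he, i, rfl⟩ := h.exists_dec h.s_not x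
  obtain ⟨e', he', j, rfl⟩ := h.exists_dec h.s_not y
  have hc : s ^ i * e' * (s ^ i)⁻¹ ∈ E := h.conjMem _ e' he'
  rw [show e * s ^ i * (e' * s ^ j) = e * (s ^ i * e' * (s ^ i)⁻¹) * s ^ (i + j) by rw [pow_add]; group,
    h.pr_eq (E.mul_mem he hc), h.pr_eq he, h.pr_eq he', h.add e he _ hc, h.co_conj _ he']
  simp

theorem pr_inv (x : G) : pr b s co x⁻¹ = -pr b s co x :=
  eq_neg_of_add_eq_zero_left (by rw [← h.pr_mul, inv_mul_cancel, h.pr_one])

theorem pr_pow (x : G) (n : ℕ) : pr b s co (x ^ n) = (n : ZMod p) • pr b s co x := by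
  induction n with
  | zero => rw [pow_zero, h.pr_one, Nat.cast_zero, zero_smul]
  | succ n ih => rw [pow_succ, h.pr_mul, ih, Nat.cast_succ, add_smul, one_smul]

theorem pr_eq_zero {x : G} : pr b s co x = 0 ↔ x ∈ h.sub (midZero p) := by
  refine ⟨fun h0 => ?_, fun hx => by rw [h.pr_of_mem hx.1, show (co x).2.1 = 0 from hx.2]; rfl⟩
  have hr : rot b co x = 0 := congrArg Prod.snd h0
  refine ⟨h.mem_of_rot hr, ?_⟩
  have h1 : (co (x * (pw s (rot b co x))⁻¹)).2.1 = 0 := congrArg Prod.fst h0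
  rw [hr, pw_zero, inv_one, mul_one] at h1
  exact h1

theorem pr_surj (v : ZMod p × ZMod p) : ∃ x, pr b s co x = v := by
  refine ⟨b ^ v.1.val * s ^ v.2.val, ?_⟩
  rw [h.pr_mul, h.pr_pow, h.pr_pow, h.pr_b, h.pr_s, ZMod.natCast_zmod_val, ZMod.natCast_zmod_val]
  ext <;> simp

theorem pr_congr {x y : G} (hxy : x⁻¹ * y ∈ h.sub (midZero p)) : pr b s co x = pr b s co y := by
  have := h.pr_eq_zero.2 hxy
  rw [h.pr_mul, h.pr_inv, neg_add_eq_zero] at this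
  exact this

theorem mem_of_pr {x y : G} (hxy : pr b s co x = pr b s co y) : x⁻¹ * y ∈ h.sub (midZero p) :=
  h.pr_eq_zero.1 (by rw [h.pr_mul, h.pr_inv, hxy, neg_add_cancel])

/-- The linear map of the top quotient induced by an automorphism. -/
theorem exists_act (hst : ∀ g : MulAut G, (h.sub (midZero p)).map g.toMonoidHom = h.sub (midZero p)) :
    ∃ L : MulAut G → (ZMod p × ZMod p) →ₗ[ZMod p] (ZMod p × ZMod p),
      ∀ g x, L g (pr b s co x) = pr b s co (g x) := by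
  obtain ⟨sec, hsec⟩ : ∃ sec : ZMod p × ZMod p → G, ∀ v, pr b s co (sec v) = v :=
    ⟨fun v => (h.pr_surj v).choose, fun v => (h.pr_surj v).choose_spec⟩
  have key : ∀ (g : MulAut G) (x : G), pr b s co (g (sec (pr b s co x))) = pr b s co (g x) := fun g x =>
    h.pr_congr (by
      rw [← map_inv, ← map_mul, ← hst g]
      exact ⟨_, h.mem_of_pr (hsec _), rfl⟩)
  refine ⟨fun g => { toFun := fun v => pr b s co (g (sec v)), map_add' := fun v w => ?_, map_smul' := fun r v => ?_ },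
    fun g x => key g x⟩
  · obtain ⟨x, rfl⟩ := h.pr_surj v
    obtain ⟨y, rfl⟩ := h.pr_surj w
    rw [← h.pr_mul, key, key, key, map_mul, h.pr_mul]
  · obtain ⟨x, rfl⟩ := h.pr_surj v
    rw [RingHom.id_apply, ← ZMod.natCast_zmod_val r, ← h.pr_pow, key, key, map_pow, h.pr_pow]

theorem frattini_facts [Finite G] (hG : IsPGroup p G) : U ≤ frattini G ∧ a ∈ frattini G := by
  have hU : U ≤ frattini G := h.min _ (fun x _ => Solv.pow_mem_frattini hG x)
    fun x _ y _ => Solv.commutatorElement_mem_frattini hG x y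
  refine ⟨hU, ?_⟩
  have := (frattini G).mul_mem ((frattini G).inv_mem (hU h.sb)) (Solv.commutatorElement_mem_frattini hG s b)
  rwa [mul_inv_rev, inv_inv, inv_mul_cancel_right] at this

end Frame

namespace Moves

variable {y : G → G} {t : MulAut G} {g₀ : ZMod p} (h : Frame p E U a b c s co)
  (m : Moves E a b c co y t g₀)
include h m

/-- Moving the frame so that the fixed line of `R` is a line of the torus, which then normalises `R`. -/
theorem exists_line [Finite G] (hG : IsPGroup p G) (hp5 : 5 ≤ p)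
    (hst : ∀ g : MulAut G, (h.sub (midZero p)).map g.toMonoidHom = h.sub (midZero p))
    {A R : Subgroup (MulAut G)} (hR : SylIn p R A) (htA : t ∈ A) {r₀ : MulAut G} (hr₀ : r₀ ∈ R)
    (hr₀b : Frame.rot b co (r₀ b) ≠ 0) :
    ∃ g ∈ A, ∃ s' : G, Frame.rot b co s' = 1 ∧ t s' * (s' ^ (g₀ * g₀).val)⁻¹ ∈ h.sub (midZero p) ∧
      (∀ r ∈ R, Frame.pr b s co (r (g s')) = Frame.pr b s co (g s')) ∧
      ∀ r ∈ R, g * t * g⁻¹ * r * (g * t * g⁻¹)⁻¹ ∈ R := by
  classical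
  haveI : Finite (MulAut G) := Finite.of_injective (fun f : MulAut G => (f : G → G)) DFunLike.coe_injective
  obtain ⟨Z, hZ⟩ : ∃ Z, Z = h.sub (midZero p) := ⟨_, rfl⟩
  have hpz : ∀ {x}, Frame.pr b s co x = 0 ↔ x ∈ Z := fun {x} => hZ ▸ h.pr_eq_zero
  have hcong : ∀ {x y}, Frame.pr b s co x = Frame.pr b s co y ↔ x⁻¹ * y ∈ Z := fun {x y} =>
    hZ ▸ ⟨h.mem_of_pr, h.pr_congr⟩
  rw [← hZ] at hst ⊢
  haveI hZn : Z.Normal := hZ ▸ h.normal_midZero
  have hZg : ∀ (g : MulAut G), ∀ x ∈ Z, g x ∈ Z := fun g x hx => hst g ▸ ⟨x, hx, rfl⟩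
  obtain ⟨L, hL⟩ := h.exists_act (fun g => hZ ▸ hst g)
  obtain ⟨P, hP⟩ : ∃ P : G → ZMod p × ZMod p, P = Frame.pr b s co := ⟨_, rfl⟩
  rw [← hP] at hL ⊢
  simp only [← hP] at hpz hcong
  have hPs : ∀ v, ∃ x, P x = v := hP ▸ h.pr_surj
  have Lmul : ∀ g g' v, L (g * g') v = L g (L g' v) := fun g g' v => by
    obtain ⟨x, rfl⟩ := hPs v
    rw [hL, hL, hL]; rfl
  have Lone : ∀ v, L 1 v = v := fun v => by
    obtain ⟨x, rfl⟩ := hPs v
    rw [hL]; rfl
  have Linj : ∀ g v, L g v = 0 → v = 0 := fun g v hv => by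
    rw [← Lone v, ← inv_mul_cancel g, Lmul, hv, map_zero]
  -- a fixed vector of `R`
  letI : MulAction R (ZMod p × ZMod p) :=
    { smul := fun r v => L (r : MulAut G) v
      one_smul := fun v => Lone v
      mul_smul := fun r r' v => Lmul _ _ v }
  obtain ⟨w₀, hw₀, hw₀ne⟩ := hR.isPGroup.exists_fixed_point_of_prime_dvd_card_of_fixed_point (ZMod p × ZMod p)
    (by rw [Nat.card_prod, Nat.card_zmod]; exact dvd_mul_right p p) (a := (0 : ZMod p × ZMod p))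
    fun r => map_zero (L (r : MulAut G))
  have hw₀' : ∀ r ∈ R, L r w₀ = w₀ := fun r hr => hw₀ ⟨r, hr⟩
  have hr₀v : (L r₀ (1, 0)).2 ≠ 0 := by
    rw [show ((1 : ZMod p), (0 : ZMod p)) = P b by rw [hP, h.pr_b], hL, hP]
    exact hr₀b
  have hw2 : w₀.2 ≠ 0 := by
    intro h0
    have e : w₀ = w₀.1 • ((1 : ZMod p), (0 : ZMod p)) := by ext <;> simp [h0]
    have h1 : w₀.1 ≠ 0 := fun h1 => hw₀ne (Prod.ext h1.symm h0.symm)
    have h2 := hw₀' r₀ hr₀
    rw [e, map_smul, smul_right_inj h1] at h2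
    exact hr₀v (by rw [h2])
  obtain ⟨κ, hκ⟩ : ∃ κ : ZMod p, κ = w₀.2⁻¹ * w₀.1 := ⟨_, rfl⟩
  have hw : ∀ r ∈ R, L r (κ, 1) = (κ, 1) := by
    intro r hr
    have e : (κ, (1 : ZMod p)) = w₀.2⁻¹ • w₀ := by
      ext
      · simp [hκ]
      · simp [inv_mul_cancel₀ hw2]
    rw [e, map_smul, hw₀' r hr]
  obtain ⟨χ, hχ⟩ : ∃ χ : ZMod p × ZMod p → ZMod p, ∀ v, χ v = v.1 - v.2 * κ := ⟨_, fun v => rfl⟩
  have hdec : ∀ v, v = χ v • ((1 : ZMod p), (0 : ZMod p)) + v.2 • (κ, (1 : ZMod p)) := fun v => by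
    ext <;> simp [hχ]
  have hχL : ∀ (g : MulAut G) (v), χ (L g v) = χ v * χ (L g (1, 0)) + v.2 * χ (L g (κ, 1)) := fun g v => by
    conv_lhs => rw [hdec v]
    rw [map_add, map_smul, map_smul]
    simp [hχ]
    ring
  have hχw : χ (κ, 1) = 0 := by simp [hχ]
  have hχe : χ (1, 0) = 1 := by simp [hχ]
  -- elements of `R` are unipotent
  have hunip : ∀ r ∈ R, ∀ v, χ (L r v) = χ v := by
    intro r hr v
    have hpow : ∀ n : ℕ, χ (L (r ^ n) (1, 0)) = χ (L r (1, 0)) ^ n := by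
      intro n
      induction n with
      | zero => rw [pow_zero, Lone, hχe, pow_zero]
      | succ n ih => rw [pow_succ', Lmul, hχL, hw r hr, hχw, mul_zero, add_zero, ih, pow_succ]
    obtain ⟨j, hj⟩ := hR.isPGroup ⟨r, hr⟩
    have h1 := hpow (p ^ j)
    rw [show r ^ p ^ j = 1 from congrArg Subtype.val hj, Lone, hχe] at h1
    rw [hχL, hw r hr, hχw, mul_zero, add_zero, (ZMod.pow_card_pow _).symm.trans h1.symm, mul_one]
  have hfix : ∀ r ∈ R, ∀ v, χ v = 0 → L r v = v := fun r hr v hv => by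
    rw [hdec v, hv, zero_smul, zero_add, map_smul, hw r hr]
  -- the line of `t`
  obtain ⟨-, hg3, -, -⟩ := g_facts h m hp5
  have hte : L t (1, 0) = (g₀⁻¹, 0) := by
    rw [show ((1 : ZMod p), (0 : ZMod p)) = P b by rw [hP, h.pr_b], hL, hP, h.pr_of_mem (m.t_mem b h.bE), m.t_b]
  obtain ⟨σ, hσ⟩ : ∃ σ, σ = (L t (0, 1)).1 := ⟨_, rfl⟩
  have hts : L t (0, 1) = (σ, g₀ * g₀) := by
    refine Prod.ext hσ.symm ?_
    rw [show ((0 : ZMod p), (1 : ZMod p)) = P s by rw [hP, h.pr_s], hL, hP]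
    exact rot_t h m
  obtain ⟨k, hk⟩ : ∃ k, k = σ / (g₀ * g₀ - g₀⁻¹) := ⟨_, rfl⟩
  have hgd : g₀ * g₀ - g₀⁻¹ ≠ 0 := sub_ne_zero.2 hg3
  have hLt : ∀ i j : ZMod p, L t (i, j) = (i * g₀⁻¹ + j * σ, j * (g₀ * g₀)) := fun i j => by
    rw [show (i, j) = i • ((1 : ZMod p), (0 : ZMod p)) + j • ((0 : ZMod p), (1 : ZMod p)) by ext <;> simp,
      map_add, map_smul, map_smul, hte, hts]
    ext <;> simp
  have hkσ : k * g₀⁻¹ + σ = g₀ * g₀ * k := by
    have e : k * (g₀ * g₀ - g₀⁻¹) = σ := by rw [hk, div_mul_cancel₀ _ hgd]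
    linear_combination -e
  obtain ⟨s', hs'⟩ := hPs (k, 1)
  have hts' : P (t s') = (g₀ * g₀) • P s' := by
    rw [← hL, hs', hLt, one_mul, one_mul, hkσ]
    ext <;> simp
  -- moving the line
  obtain ⟨g, hgA, hgs⟩ : ∃ g ∈ A, χ (L g (k, 1)) = 0 := by
    by_cases hD : χ (k, 1) = 0
    · exact ⟨1, A.one_mem, by rw [Lone]; exact hD⟩
    obtain ⟨v, hv⟩ : ∃ v, v = (L r₀ (1, 0)).2 := ⟨_, rfl⟩
    rw [← hv] at hr₀v
    have hr : ∀ u, L r₀ u = u + (χ u * v) • (κ, (1 : ZMod p)) := by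
      intro u
      have e1 : L r₀ (1, 0) = (1, 0) + v • (κ, (1 : ZMod p)) := by
        have h1 := hunip r₀ hr₀ (1, 0)
        rw [hχe, hχ, ← hv] at h1
        ext
        · simpa using eq_add_of_sub_eq h1
        · simpa using hv.symm
      calc L r₀ u = χ u • L r₀ (1, 0) + u.2 • L r₀ (κ, 1) := by
            conv_lhs => rw [hdec u, map_add, map_smul, map_smul]
        _ = (χ u • ((1 : ZMod p), (0 : ZMod p)) + u.2 • (κ, (1 : ZMod p))) + (χ u * v) • (κ, (1 : ZMod p)) := by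
            rw [e1, hw r₀ hr₀, smul_add, smul_smul]; abel
        _ = _ := by rw [← hdec u]
    have hrn : ∀ (n : ℕ) u, L (r₀ ^ n) u = u + ((n : ZMod p) * (χ u * v)) • (κ, (1 : ZMod p)) := by
      intro n
      induction n with
      | zero => intro u; rw [pow_zero, Lone]; simp
      | succ n ih =>
        intro u
        rw [pow_succ, Lmul, hr, ih]
        have e : χ (u + (χ u * v) • (κ, (1 : ZMod p))) = χ u := by simp [hχ]; ring
        have e2 : χ (κ, (1 : ZMod p)) = 0 := hχw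
        rw [e, Nat.cast_succ, add_mul, one_mul, add_smul]
        abel
    obtain ⟨N, hN⟩ : ∃ N : ZMod p, N = -(g₀ * g₀) / (g₀ * g₀ - g₀⁻¹) := ⟨_, rfl⟩
    obtain ⟨n, hn⟩ : ∃ n : ℕ, (n : ZMod p) * (χ (k, 1) * v) = N := ⟨(N / (χ (k, 1) * v)).val, by
      rw [ZMod.natCast_zmod_val, div_mul_cancel₀]
      exact mul_ne_zero hD hr₀v⟩
    refine ⟨t * r₀ ^ n, A.mul_mem htA (A.pow_mem (hR.le hr₀) n), ?_⟩
    rw [Lmul, hrn, hn, show (k, (1 : ZMod p)) + N • (κ, (1 : ZMod p)) = (k + N * κ, 1 + N) by ext <;> simp,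
      hLt, hχ]
    show (k + N * κ) * g₀⁻¹ + (1 + N) * σ - (1 + N) * (g₀ * g₀) * κ = 0
    have hσk : σ = g₀ * g₀ * k - k * g₀⁻¹ := eq_sub_of_add_eq (by rw [add_comm]; exact hkσ)
    have hN' : N * (g₀ * g₀ - g₀⁻¹) = -(g₀ * g₀) := by rw [hN, div_mul_cancel₀ _ hgd]
    rw [hσk]
    linear_combination (k - κ) * hN'
  have hgs' : χ (P (g s')) = 0 := by rw [← hL, hs']; exact hgs
  obtain ⟨t₁, ht₁⟩ : ∃ t₁, t₁ = g * t * g⁻¹ := ⟨_, rfl⟩
  -- the stabiliser of the chain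
  obtain ⟨N₀, hN₀⟩ : ∃ N₀ : Subgroup (MulAut G), ∀ α, α ∈ N₀ ↔ α ∈ A ∧ (∀ x, χ (P (α x)) = χ (P x)) ∧
      (∀ x, χ (P x) = 0 → P (α x) = P x) ∧ ∀ x ∈ Z, x⁻¹ * α x ∈ frattini G :=
    ⟨{ carrier := {α | α ∈ A ∧ (∀ x, χ (P (α x)) = χ (P x)) ∧ (∀ x, χ (P x) = 0 → P (α x) = P x) ∧
          ∀ x ∈ Z, x⁻¹ * α x ∈ frattini G}
       one_mem' := ⟨A.one_mem, fun x => rfl, fun x _ => rfl, fun x _ => by simp⟩
       mul_mem' := by
         rintro α β ⟨a1, a2, a3, a4⟩ ⟨b1, b2, b3, b4⟩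
         refine ⟨A.mul_mem a1 b1, fun x => (a2 (β x)).trans (b2 x),
           fun x hx => (a3 (β x) ((b2 x).trans hx)).trans (b3 x hx), fun x hx => ?_⟩
         have := (frattini G).mul_mem (b4 x hx) (a4 _ (hZg β x hx))
         rwa [show x⁻¹ * β x * ((β x)⁻¹ * α (β x)) = x⁻¹ * (α * β) x by
           rw [MulAut.mul_apply]; group] at this
       inv_mem' := by
         rintro α ⟨a1, a2, a3, a4⟩
         have e : ∀ x, α (α⁻¹ x) = x := fun x => MulAut.apply_inv_self G α x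
         have h2 : ∀ x, χ (P (α⁻¹ x)) = χ (P x) := fun x => by conv_rhs => rw [← e x, a2]
         refine ⟨A.inv_mem a1, h2, fun x hx => ?_, fun x hx => ?_⟩
         · have := a3 (α⁻¹ x) ((h2 x).trans hx)
           rw [e] at this
           exact this.symm
         · have := (frattini G).inv_mem (a4 _ (hZg α⁻¹ x hx))
           rwa [e, mul_inv_rev, inv_inv] at this }, fun α => Iff.rfl⟩
  obtain ⟨hUF, haF⟩ := h.frattini_facts hG
  have hRN : R ≤ N₀ := by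
    have hc : ∀ z ∈ Z, ∃ j : ℕ, z * (c ^ j)⁻¹ ∈ frattini G := by
      intro z hz
      rw [hZ] at hz
      refine ⟨(co z).2.2.val, ?_⟩
      have h1 := (frattini G).mul_mem (hUF (h.mul_rep_inv hz.1)) ((frattini G).pow_mem haF (co z).1.val)
      have e : Frame.rep a b c (co z) = a ^ (co z).1.val * c ^ (co z).2.2.val := by
        rw [Frame.rep, show (co z).2.1 = 0 from hz.2, pw_zero, mul_one]; rfl
      rwa [e, mul_inv_rev, ← mul_assoc, inv_mul_cancel_right] at h1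
    obtain ⟨π, hπ⟩ : ∃ π, π = QuotientGroup.mk' (frattini G) := ⟨_, rfl⟩
    have hπ1 : ∀ x, π x = 1 ↔ x ∈ frattini G := fun x => hπ ▸ QuotientGroup.eq_one_iff x
    have hcZ : c ∈ Z := hZ ▸ ⟨h.cE, by rw [h.co_c]; rfl⟩
    have hcp : π c ^ p = 1 := by rw [← map_pow, hπ1]; exact Solv.pow_mem_frattini hG c
    have hex : ∀ r : R, ∃ i : ZMod p, π ((r : MulAut G) c) = pw (π c) i := fun r => by
      obtain ⟨j, hj⟩ := hc _ (hZg (r : MulAut G) c hcZ)
      exact ⟨(j : ZMod p), by rw [pw_natCast hcp, ← mul_inv_eq_one, ← map_pow, ← map_inv, ← map_mul, hπ1]; exact hj⟩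
    have hπr : ∀ (γ : MulAut G) (u v : G), π u = π v → π (γ u) = π (γ v) := fun γ u v he => by
      rw [hπ] at he ⊢
      refine QuotientGroup.eq.2 ?_
      rw [← map_inv, ← map_mul]
      exact frattini_map_mem γ (QuotientGroup.eq.1 he)
    have hrc : ∀ r : R, π ((r : MulAut G) c) = π c := by
      intro r
      by_cases hc1 : π c = 1
      · obtain ⟨i, hi⟩ := hex r
        rw [hi, hc1, one_pw]
      have hu : ∀ {i j : ZMod p}, pw (π c) i = pw (π c) j → i = j := fun {i j} he => by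
        by_contra hne
        exact hc1 (pw_eq_one hcp (sub_ne_zero.2 hne) (by rw [pw_sub hcp, he, mul_inv_cancel]))
      choose f hf using hex
      have hf1 : f r = 1 := eq_one_of_mult hR.isPGroup
        (hu ((hf 1).symm.trans (by rw [pw_one_exp]; rfl))) (fun x y => hu (by
          rw [← hf, Subgroup.coe_mul, MulAut.mul_apply,
            hπr (x : MulAut G) _ (c ^ (f y).val) (by rw [hf y, map_pow]; rfl),
            map_pow, map_pow, hf x, ← pw_mul hcp]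
          rfl)) r
      rw [hf r, hf1, pw_one_exp]
    intro r hr
    refine (hN₀ r).2 ⟨hR.le hr, fun x => by rw [← hL, hunip r hr], fun x hx => by rw [← hL, hfix r hr _ hx],
      fun x hx => ?_⟩
    obtain ⟨j, hj⟩ := hc x hx
    have hx' : π x = π (c ^ j) := mul_inv_eq_one.1 (by rw [← map_inv, ← map_mul, hπ1]; exact hj)
    rw [← hπ1, map_mul, map_inv, inv_mul_eq_one, hπr r _ _ hx', map_pow, map_pow, hrc ⟨r, hr⟩, hx', map_pow]
  have hN₀p : IsPGroup p N₀ := by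
    refine IsPGroup.iff_card.2 ⟨_, Nat.eq_prime_pow_of_unique_prime_dvd Nat.card_pos.ne' fun {q} hq hd => ?_⟩
    by_contra hqp
    haveI := Fact.mk hq
    obtain ⟨⟨γ, hγ⟩, hγo⟩ := exists_prime_orderOf_dvd_card' (G := N₀) q hd
    rw [Subgroup.orderOf_mk] at hγo
    obtain ⟨-, g2, g3, g4⟩ := (hN₀ γ).1 hγ
    have hγq : γ ^ q = 1 := hγo ▸ pow_orderOf_eq_one γ
    have h1 : γ = 1 := eq_one_of_trivial_frattini hG hq hqp hγq fun x => by
      have hd0 : χ (P (x⁻¹ * γ x)) = 0 := by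
        rw [hP, h.pr_mul, h.pr_inv, ← hP]
        have := g2 x
        rw [hχ, hχ] at this
        rw [hχ]; simp; linear_combination this
      have hdZ : x⁻¹ * γ x ∈ Z := disp_mem hG hq hqp hγq (hZg γ) (hcong.1 (g3 _ hd0).symm)
      exact disp_mem hG hq hqp hγq (fun u hu => frattini_map_mem γ hu) (g4 _ hdZ)
    rw [h1, orderOf_one] at hγo
    exact hq.ne_one hγo.symm
  have hN₀R : N₀ = R := hR.eq_of_le hN₀p hRN fun α hα => ((hN₀ α).1 hα).1
  refine ⟨g, hgA, s', by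
      have e := congrArg Prod.snd hs'
      rw [hP] at e
      exact e, ?_, fun r hr => by rw [← hL, hfix r hr _ hgs'], fun r hr => ?_⟩
  · rw [← hpz]
    rw [hP, h.pr_mul, h.pr_inv, h.pr_pow, ← hP, hts', ZMod.natCast_zmod_val, add_neg_cancel]
  rw [← ht₁]
  have ht₁A : t₁ ∈ A := ht₁ ▸ A.mul_mem (A.mul_mem hgA htA) (A.inv_mem hgA)
  have ht₁L : ∀ v, χ v = 0 → χ (L t₁ v) = 0 := by
    intro v hv
    obtain ⟨u, hu⟩ : ∃ u, u = L g (k, 1) := ⟨_, rfl⟩
    have hu2 : u.2 ≠ 0 := fun h0 => by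
      have h1 := hgs
      rw [← hu, hχ, h0, zero_mul, sub_zero] at h1
      have := Linj g (k, 1) (by rw [← hu]; exact Prod.ext h1 h0)
      exact one_ne_zero (congrArg Prod.snd this)
    have hLu : L t₁ u = (g₀ * g₀) • u := by
      rw [hu, ht₁, Lmul, ← Lmul g⁻¹ g, inv_mul_cancel, Lone, Lmul, ← hs', hL, hts', map_smul]
    have e : v = (v.2 * u.2⁻¹) • u := by
      have h1 := hgs
      rw [← hu, hχ, sub_eq_zero] at h1
      rw [hχ, sub_eq_zero] at hv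
      ext
      · simp [h1, hv]; field_simp
      · simp; field_simp
    have h1 := hgs
    rw [← hu, hχ, sub_eq_zero] at h1
    rw [e, map_smul, hLu, hχ]
    simp [h1]
    ring
  have hlam : ∀ v, χ (L t₁ v) = χ v * χ (L t₁ (1, 0)) := fun v => by
    rw [hχL, ht₁L _ hχw, mul_zero, add_zero]
  have hlam0 : χ (L t₁ (1, 0)) ≠ 0 := fun h0 => by
    have h1 := hlam (L t₁⁻¹ (1, 0))
    rw [← Lmul, mul_inv_cancel, Lone, hχe, h0, mul_zero] at h1
    exact one_ne_zero h1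
  obtain ⟨-, g2, g3, g4⟩ := (hN₀ r).1 (hN₀R.ge hr)
  refine hN₀R.le ((hN₀ _).2 ⟨A.mul_mem (A.mul_mem ht₁A (hR.le hr)) (A.inv_mem ht₁A), fun x => ?_, fun x hx => ?_,
    fun x hx => ?_⟩)
  all_goals
    obtain ⟨y', rfl⟩ : ∃ y', t₁ y' = x := ⟨t₁⁻¹ x, MulAut.apply_inv_self G t₁ x⟩
    rw [show (t₁ * r * t₁⁻¹) (t₁ y') = t₁ (r y') by
      rw [MulAut.mul_apply, MulAut.mul_apply, MulAut.inv_apply_self]]
  · rw [← hL, hlam, g2, ← hlam, hL]
  · rw [← hL, hlam, mul_eq_zero, or_iff_left hlam0] at hx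
    rw [← hL, g3 y' hx, hL]
  · have hy : y' ∈ Z := by
      have := hZg t₁⁻¹ _ hx
      rwa [MulAut.inv_apply_self] at this
    rw [← map_inv, ← map_mul]
    exact frattini_map_mem t₁ (g4 y' hy)

/-- No group realises the torus on a moved frame with the fixed line. -/
theorem false_of_line [Finite G] (hp5 : 5 ≤ p) (hsr : Cfsg.SectionalPRankLE p 3 G) {s' : G}
    (hs' : Frame.rot b co s' = 1) (hts' : t s' * (s' ^ (g₀ * g₀).val)⁻¹ ∈ h.sub (midZero p))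
    {Q : Type*} [Group Q] [Finite Q] (hQ : IsPGroup p Q) (hQsr : Cfsg.SectionalPRankLE p 3 Q)
    {φ : G →* Q} (hφ : Function.Injective φ) (hne : φ.range ≠ ⊤) {T : MulAut Q}
    (hT : ∀ x, T (φ x) = φ (t x))
    (hconj : ∀ u : Q, ∃ r : MulAut G, (∀ x, u * φ x * u⁻¹ = φ (r x)) ∧
      Frame.pr b s co (r s') = Frame.pr b s co s' ∧ (Frame.rot b co (r b) = 0 → u ∈ φ.range)) : False := by
  obtain ⟨Z, hZ⟩ : ∃ Z, Z = h.sub (midZero p) := ⟨_, rfl⟩
  have hst : ∀ g : MulAut G, U.map g.toMonoidHom = U ∧ Z.map g.toMonoidHom = Z := fun g => hZ ▸ stable h m hp5 hsr g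
  have hpz : ∀ {x}, Frame.pr b s co x = 0 ↔ x ∈ Z := fun {x} => hZ ▸ h.pr_eq_zero
  rw [← hZ] at hts'
  have hnorm : ∀ X : Subgroup G, (∀ g : MulAut G, X.map g.toMonoidHom = X) → (X.map φ).Normal := by
    intro X hX
    refine ⟨?_⟩
    rintro _ ⟨x, hx, rfl⟩ u
    obtain ⟨r, hr, -, -⟩ := hconj u
    exact ⟨r x, (hX r).le ⟨x, hx, rfl⟩, (hr x).symm⟩
  haveI := hnorm U fun g => (hst g).1
  haveI := hnorm Z fun g => (hst g).2
  haveI : φ.range.Normal := ⟨by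
    rintro _ ⟨x, rfl⟩ u
    obtain ⟨r, hr, -, -⟩ := hconj u
    exact ⟨r x, (hr x).symm⟩⟩
  obtain ⟨k, hk⟩ : ∃ k, k = (Frame.pr b s co s').1 := ⟨_, rfl⟩
  have hps' : Frame.pr b s co s' = (k, 1) := Prod.ext hk.symm hs'
  have hmapZ : ∀ {x}, x ∈ Z → φ x ∈ Z.map φ := fun hx => ⟨_, hx, rfl⟩
  have hinj : ∀ {X : Subgroup G} {x}, φ x ∈ X.map φ → x ∈ X := fun {X x} ⟨z, hz, he⟩ => hφ he ▸ hz
  refine TopData.false hQ hp5 hQsr (P := φ.range) hne
    (U := U.map φ) (Z := Z.map φ) (a := φ a) (c := φ c) (e := φ b) (s := φ s') (t := T) (g₀ := g₀) ?_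
  refine ⟨Subgroup.map_mono (hZ ▸ h.U_le_sub _), fun x ⟨z, _, hz⟩ => ⟨z, hz⟩, ⟨a, hZ ▸ ⟨h.aE, by rw [h.co_a]; rfl⟩, rfl⟩,
    ⟨c, hZ ▸ ⟨h.cE, by rw [h.co_c]; rfl⟩, rfl⟩, ⟨b, rfl⟩, ⟨s', rfl⟩, ?_, ?_, ?_, ?_, ?_, ?_, ?_, ?_, ?_, ?_, ?_, ?_, ?_,
    ?_, ?_, m.g_ne, m.ord⟩
  · rintro _ ⟨x, rfl⟩
    obtain ⟨v, hv⟩ : ∃ v, v = Frame.pr b s co x := ⟨_, rfl⟩
    refine ⟨(v.1 - v.2 * k).val, v.2.val, ?_⟩
    rw [← map_pow, ← map_pow, ← map_mul, ← map_inv, ← map_mul]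
    refine hmapZ (hpz.1 ?_)
    rw [h.pr_mul, h.pr_inv, h.pr_mul, h.pr_pow, h.pr_pow, h.pr_b, hps', ← hv, ZMod.natCast_zmod_val,
      ZMod.natCast_zmod_val]
    ext <;> simp
  · rintro _ ⟨z, hz, rfl⟩
    rw [hZ] at hz
    refine ⟨(co z).1.val, (co z).2.2.val, z * (a ^ (co z).1.val * c ^ (co z).2.2.val)⁻¹, ?_, by simp⟩
    have := h.mul_rep_inv hz.1
    rwa [Frame.rep, show (co z).2.1 = 0 from hz.2, pw_zero, mul_one] at this
  · intro i j hij
    rw [← map_pow, ← map_pow, ← map_mul] at hij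
    have h1 := hpz.2 (hinj hij)
    rw [h.pr_mul, h.pr_pow, h.pr_pow, h.pr_b, hps', ZMod.natCast_zmod_val, ZMod.natCast_zmod_val] at h1
    have h2 := congrArg Prod.snd h1
    have h3 := congrArg Prod.fst h1
    simp at h2 h3
    rw [h2, zero_mul, add_zero] at h3
    exact ⟨h3, h2⟩
  · intro i j hij
    rw [← map_pow, ← map_pow, ← map_mul] at hij
    have h1 := h.co_U (hinj hij)
    rw [h.add _ (E.pow_mem h.aE _) _ (E.pow_mem h.cE _), h.co_pow h.aE, h.co_pow h.cE, h.co_a, h.co_c] at h1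
    simpa [Prod.smul_mk] using h1
  · rintro _ ⟨x, rfl⟩
    exact ⟨x ^ p, pow_mem_U h m hp5 x, map_pow φ x p⟩
  · rintro _ ⟨x, rfl⟩ _ ⟨z, hz, rfl⟩
    exact ⟨⁅x, z⁆, h.comm_midZero x (hZ ▸ hz), map_commutatorElement _ _ _⟩
  · refine ⟨⁅s', b⁆ * a⁻¹, ?_, by simp [map_commutatorElement]⟩
    rw [SetLike.mem_coe, ← h.zero _ (E.mul_mem (h.comm_mem_axisA s' h.bE).1 (E.inv_mem h.aE)),
      h.add _ (h.comm_mem_axisA s' h.bE).1 _ (E.inv_mem h.aE), h.co_inv h.aE, h.co_comm s' h.bE, hs', h.co_b, h.co_a]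
    simp
  · intro u
    obtain ⟨r, hr, hrs, -⟩ := hconj u
    refine ⟨1, ?_⟩
    rw [pow_one, hr, ← map_inv, ← map_mul]
    exact hmapZ (hpz.1 (by rw [h.pr_mul, h.pr_inv, hrs, add_neg_cancel]))
  · rintro u ⟨i, hi⟩
    obtain ⟨r, hr, -, hru⟩ := hconj u
    refine hru ?_
    rw [hr, ← map_pow, ← map_inv, ← map_mul] at hi
    have h1 := hpz.2 (hinj hi)
    rw [h.pr_mul, h.pr_inv, h.pr_pow, h.pr_b, add_neg_eq_zero] at h1
    exact (congrArg Prod.snd h1).trans (by simp)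
  · rintro _ ⟨x, hx, rfl⟩
    exact ⟨t x, (hst t).1.le ⟨x, hx, rfl⟩, (hT x).symm⟩
  · rintro _ ⟨x, hx, rfl⟩
    exact ⟨t x, (hst t).2.le ⟨x, hx, rfl⟩, (hT x).symm⟩
  · refine ⟨t a * (a ^ g₀.val)⁻¹, ?_, by simp [hT]⟩
    rw [SetLike.mem_coe, ← h.zero _ (E.mul_mem (m.t_mem a h.aE) (E.inv_mem (E.pow_mem h.aE _))),
      h.add _ (m.t_mem a h.aE) _ (E.inv_mem (E.pow_mem h.aE _)), h.co_inv (E.pow_mem h.aE _), h.co_pow h.aE,
      m.t_a, h.co_a]
    simp [Prod.smul_mk]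
  · refine ⟨t c * c⁻¹, ?_, by simp [hT]⟩
    rw [SetLike.mem_coe, ← h.zero _ (E.mul_mem (m.t_mem c h.cE) (E.inv_mem h.cE)),
      h.add _ (m.t_mem c h.cE) _ (E.inv_mem h.cE), h.co_inv h.cE, m.t_c, h.co_c, add_neg_cancel]
  · refine ⟨t b * (b ^ (g₀⁻¹).val)⁻¹, hpz.1 ?_, by simp [hT]⟩
    rw [h.pr_mul, h.pr_inv, h.pr_pow, h.pr_b, h.pr_of_mem (m.t_mem b h.bE), m.t_b, ZMod.natCast_zmod_val]
    ext <;> simp
  · exact ⟨t s' * (s' ^ (g₀ * g₀).val)⁻¹, hts', by simp [hT]⟩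

end Moves

end Cfsg.Agent.Local.FS.RankThreeNormal
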