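import Cfsg.Agent.Lib.Local.FS.RankThreeNormal.Setup
import Cfsg.Agent.Lib.Local.FS.RankThreeNormal.IrreducibleOmega
import Cfsg.Agent.Lib.Local.FS.RankThreeNormal.Lines

/-!
Two normal essential shapes in one group of sectional rank three.
-/

set_option autoImplicit false

open scoped commutatorElement

namespace Cfsg.Agent.Local.FS.RankThreeNormal

variable {G : Type*} [Group G] {p : ℕ} [hp : Fact p.Prime]

theorem card_eq_of_index [Finite G] {E M : Subgroup G} (hE : E.index = p) (hM : M.index = p) :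
    Nat.card E = Nat.card M := by
  have h1 := E.card_mul_index
  have h2 := M.card_mul_index
  rw [hE] at h1
  rw [hM, ← h1] at h2
  exact (Nat.eq_of_mul_eq_mul_right hp.out.pos h2).symm

theorem Phi.U_le_frattini [Finite G] {E U : Subgroup G} (h : Phi p E U) (hG : IsPGroup p G) : U ≤ frattini G :=
  h.min _ (fun x _ => Solv.pow_mem_frattini hG x) fun x _ y _ => Solv.commutatorElement_mem_frattini hG x y

namespace Frame

variable {E U : Subgroup G} {a b c s : G} {co : G → ZMod p × ZMod p × ZMod p} (h : Frame p E U a b c s co)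
include h

theorem normal_axisA : (h.sub (axisA p)).Normal := h.normal_sub fun _ _ _ => ⟨rfl, rfl⟩

theorem comm_axisA (x y : G) : ⁅x, y⁆ ∈ h.sub (axisA p) := by
  haveI := h.normal_axisA
  obtain ⟨q, hq⟩ : ∃ q, q = QuotientGroup.mk' (h.sub (axisA p)) := ⟨_, rfl⟩
  have hc : ∀ (w : G) {e : G}, e ∈ E → Commute (q w) (q e) := fun w e he =>
    commutatorElement_eq_one_iff_commute.1 (by
      rw [← map_commutatorElement, hq]; exact (QuotientGroup.eq_one_iff _).2 (h.comm_mem_axisA w he))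
  obtain ⟨e, he, i, rfl⟩ := h.exists_dec h.s_not x
  obtain ⟨e', he', j, rfl⟩ := h.exists_dec h.s_not y
  rw [← QuotientGroup.eq_one_iff, ← QuotientGroup.mk'_apply, ← hq, map_commutatorElement,
    commutatorElement_eq_one_iff_commute, map_mul, map_mul]
  refine Commute.mul_left ((hc e he').mul_right (hc (s ^ j) he).symm) ((hc (s ^ i) he').mul_right ?_)
  rw [map_pow, map_pow]
  exact Commute.pow_pow_self _ i j

theorem card_axisA_sub : Nat.card (h.sub (axisA p)) = p * Nat.card U := by rw [h.card_sub, card_axisA]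

theorem frattini_le_axisA [Finite G] {y : G → G} {t : MulAut G} {g₀ : ZMod p} (m : Moves E a b c co y t g₀)
    (hp5 : 5 ≤ p) : frattini G ≤ h.sub (axisA p) := by
  haveI := h.normal_axisA
  exact Solv.frattini_le (p := p) _ h.comm_axisA fun x => h.U_le_sub _ (Moves.pow_mem_U h m hp5 x)

end Frame

namespace Irr

variable {E U : Subgroup G} (hI : Irr p E U)
include hI

/-- An irreducible shape and a frame exclude each other. -/
theorem not_frame [Finite G] (hG : IsPGroup p G) (hp5 : 5 ≤ p) {E₂ U₂ : Subgroup G} {a b c s : G}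
    {co : G → ZMod p × ZMod p × ZMod p} {y : G → G} {t : MulAut G} {g₀ : ZMod p}
    (h : Frame p E₂ U₂ a b c s co) (m : Moves E₂ a b c co y t g₀) : False := by
  obtain ⟨Y, hY⟩ : ∃ Y, Y = h.sub (axisA p) := ⟨_, rfl⟩
  have hUY : U ≤ Y := hY ▸ (hI.U_le_frattini hG).trans (h.frattini_le_axisA m hp5)
  have hU2 : Nat.card U = Nat.card U₂ := Nat.eq_of_mul_eq_mul_left (pow_pos hp.out.pos 3)
    (hI.card.symm.trans ((card_eq_of_index hI.index h.index).trans h.card))
  have hYc : Nat.card Y = p * Nat.card U := by rw [hY, h.card_axisA_sub, hU2]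
  obtain ⟨a₀, ha₀, ha₀U⟩ := SetLike.not_le_iff_exists.1 fun hle : Y ≤ U => by
    have := Subgroup.card_le_of_le hle
    rw [hYc] at this
    nlinarith [hp.out.two_le, Nat.card_pos (α := U)]
  refine hI.nc ⟨a₀, fun x e _ => ?_⟩
  have hlt : U < Subgroup.zpowers a₀ ⊔ U := lt_of_le_of_ne le_sup_right fun e =>
    ha₀U (e.ge (Subgroup.mem_sup_left (Subgroup.mem_zpowers a₀)))
  have heq : Subgroup.zpowers a₀ ⊔ U = Y := Subgroup.eq_of_le_of_card_ge
    (sup_le (Subgroup.zpowers_le.2 ha₀) hUY) (by rw [hYc, mul_comm]; exact mul_card_le_of_lt hG hlt)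
  rw [heq, hY]
  exact h.comm_axisA x e

/-- Beside a special shape the Frattini subgroup is the layer of the special one. -/
theorem layer_eq [Finite G] (hG : IsPGroup p G) {M U' : Subgroup G} (hM : Special p M U') :
    layer p M U' = U := by
  haveI := hM.normalU
  haveI := hI.normalU
  have hU' : Nat.card U' = p * Nat.card U := by
    have := hI.card.symm.trans ((card_eq_of_index hI.index hM.index).trans hM.card)
    refine (Nat.eq_of_mul_eq_mul_left (pow_pos hp.out.pos 2) (Eq.trans ?_ this)).symm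
    ring
  haveI := hI.normalE
  have hU'E : U' ≤ E := hM.U_le.trans (Solv.frattini_le (p := p) E hI.comm_mem_E hI.pow_mem_E)
  have hUU' : U ≤ U' := by
    refine hI.min U' (fun x _ => hM.expU x) fun x hx y hy => ?_
    have hq : Nat.card (E.map (QuotientGroup.mk' U')) = p ^ 2 := by
      have h1 := card_eq_mul_map hU'E
      rw [hI.card, hU', show p ^ 3 * Nat.card U = p * Nat.card U * p ^ 2 by ring] at h1
      exact (Nat.eq_of_mul_eq_mul_left (Nat.mul_pos hp.out.pos Nat.card_pos) h1).symm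
    have := IsPGroup.commutative_of_card_eq_prime_sq hq
    rw [← QuotientGroup.eq_one_iff, ← QuotientGroup.mk'_apply, map_commutatorElement,
      commutatorElement_eq_one_iff_mul_comm]
    exact congrArg Subtype.val
      (this ⟨_, Subgroup.mem_map_of_mem _ hx⟩ ⟨_, Subgroup.mem_map_of_mem _ hy⟩)
  refine Subgroup.eq_of_le_of_card_ge (layer_le_iff.2 ⟨fun x _ u hu => ?_, fun u hu => hI.pow u (hU'E hu)⟩) ?_
  · exact comm_mem_of_card hG hM.normalU hI.normalU hUU' (by rw [hU', mul_comm]) x hu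
  · exact (Nat.eq_of_mul_eq_mul_left hp.out.pos (hM.step.symm.trans hU')).ge

/-- Beside an irreducible shape with trivial Frattini subgroup there is no other. -/
theorem eq_of_bot [Finite G] (hG : IsPGroup p G) (hU : U = ⊥) {M U' : Subgroup G} (hM : Irr p M U') :
    M = E := by
  by_contra hne
  have hU' : U' = ⊥ := by
    refine Subgroup.eq_bot_of_card_eq _ ?_
    have := hI.card.symm.trans ((card_eq_of_index hI.index hM.index).trans hM.card)
    rw [hU, Subgroup.card_bot] at this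
    exact (Nat.eq_of_mul_eq_mul_left (pow_pos hp.out.pos 3) this).symm
  exact hI.nc (hI.nc_of_abelian hG hM.normalE hM.index hne (hU ▸ bot_le)
    fun x hx y hy => by rw [hU, ← hU']; exact hM.comm x hx y hy)

end Irr

/-- A special shape and a frame exclude each other. -/
theorem Special.not_frame [Finite G] {M U' : Subgroup G} (hM : Special p M U') (hp5 : 5 ≤ p)
    {E U : Subgroup G} {a b c s : G} {co : G → ZMod p × ZMod p × ZMod p} {y : G → G} {t : MulAut G}
    {g₀ : ZMod p} (h : Frame p E U a b c s co) (m : Moves E a b c co y t g₀) : False := by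
  have hU' : Nat.card U' = p * Nat.card U := by
    have := h.card.symm.trans ((card_eq_of_index h.index hM.index).trans hM.card)
    refine (Nat.eq_of_mul_eq_mul_left (pow_pos hp.out.pos 2) (Eq.trans ?_ this)).symm
    ring
  have heq : U' = h.sub (axisA p) := Subgroup.eq_of_le_of_card_ge
    (hM.U_le.trans (h.frattini_le_axisA m hp5)) (by rw [hU', h.card_axisA_sub])
  obtain ⟨x, e, -, hxe⟩ := hM.nt
  exact hxe (heq.ge (h.comm_axisA x e))

namespace Moves

variable {E U : Subgroup G} {a b c s : G} {co : G → ZMod p × ZMod p × ZMod p}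
  {y : G → G} {t : MulAut G} {g₀ : ZMod p} (h : Frame p E U a b c s co) (m : Moves E a b c co y t g₀)
include h m

/-- Two frames with stable Frattini subgroups have the same one. -/
theorem U_eq [Finite G] (hG : IsPGroup p G) (hp5 : 5 ≤ p) (hsr : Cfsg.SectionalPRankLE p 3 G)
    {E₂ U₂ : Subgroup G} {a₂ b₂ c₂ s₂ : G} {co₂ : G → ZMod p × ZMod p × ZMod p}
    (h₂ : Frame p E₂ U₂ a₂ b₂ c₂ s₂ co₂) (ht₂ : ∀ u ∈ U₂, t u ∈ U₂) : U₂ = U := by
  have hp2 : p ≠ 2 := by omega
  haveI := h.normalU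
  haveI := h₂.normalU
  have hUc : Nat.card U₂ = Nat.card U := Nat.eq_of_mul_eq_mul_left (pow_pos hp.out.pos 3)
    (h₂.card.symm.trans ((card_eq_of_index h₂.index h.index).trans h.card))
  by_contra hne
  have hfE : frattini G ≤ E₂ := by
    haveI := h₂.normalE
    exact Solv.frattini_le (p := p) E₂ h₂.comm_mem_E h₂.pow_mem_E
  have haE₂ : a ∈ E₂ := hfE (h.frattini_facts hG).2
  -- `c` lies outside the second subgroup
  have hcE₂ : c ∉ E₂ := by
    intro hc
    refine hne (Subgroup.eq_of_le_of_card_ge (h₂.min U (fun x _ => pow_mem_U h m hp5 x) fun x hx x' hx' => ?_)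
      hUc.ge)
    obtain ⟨Z, hZ⟩ : ∃ Z, Z = h.sub (midZero p) := ⟨_, rfl⟩
    have hZle : Z ≤ E₂ := fun w hw => by
      rw [hZ] at hw
      have h1 := E₂.mul_mem (hfE (h.U_le_frattini hG (h.mul_rep_inv hw.1)))
        (show Frame.rep a b c (co w) ∈ E₂ by
          unfold Frame.rep
          rw [show (co w).2.1 = 0 from hw.2, pw_zero, mul_one]
          exact E₂.mul_mem (E₂.pow_mem haE₂ _) (E₂.pow_mem hc _))
      rwa [inv_mul_cancel_right] at h1
    obtain ⟨W, hW⟩ : ∃ W, W = E₂.map (QuotientGroup.mk' U) := ⟨_, rfl⟩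
    obtain ⟨C, hC⟩ : ∃ C, C = Z.map (QuotientGroup.mk' U) := ⟨_, rfl⟩
    have hZc : C ≤ Subgroup.center (G ⧸ U) := by
      intro v hv
      rw [hC] at hv
      obtain ⟨z, hz, rfl⟩ := hv
      refine Subgroup.mem_center_iff.2 fun g => ?_
      obtain ⟨g, rfl⟩ := QuotientGroup.mk'_surjective U g
      rw [← commutatorElement_eq_one_iff_mul_comm, ← map_commutatorElement]
      exact (QuotientGroup.eq_one_iff _).2 (h.comm_midZero g (hZ ▸ hz))
    -- `E₂` has index `p` over `Z`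
    have hUZ : U ≤ Z := hZ ▸ h.U_le_sub _
    have hcE : Nat.card W = p * Nat.card C := by
      have h1 := card_eq_mul_map (hUZ.trans hZle)
      have h2 := card_eq_mul_map hUZ
      have h3 : Nat.card Z = p * p * Nat.card U := by rw [hZ, h.card_sub, card_midZero]
      rw [← hW, h₂.card, hUc] at h1
      rw [← hC, h3] at h2
      have h1' : Nat.card W = p ^ 3 := (Nat.eq_of_mul_eq_mul_left Nat.card_pos (h1.symm.trans (mul_comm _ _)))
      have h2' : Nat.card C = p * p := (Nat.eq_of_mul_eq_mul_left Nat.card_pos (h2.symm.trans (mul_comm _ _)))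
      rw [h1', h2']; ring
    obtain ⟨w, hw, hwC⟩ := SetLike.not_le_iff_exists.1 fun hle : W ≤ C => by
      have := Subgroup.card_le_of_le hle
      rw [hcE] at this
      nlinarith [hp.out.two_le, Nat.card_pos (α := C)]
    have hCW : C ≤ W := hC ▸ hW ▸ Subgroup.map_mono hZle
    have hgen : Subgroup.zpowers w ⊔ C = W := by
      refine Subgroup.eq_of_le_of_card_ge (sup_le (Subgroup.zpowers_le.2 hw) hCW) ?_
      rw [hcE, mul_comm]
      exact mul_card_le_of_lt (hG.to_quotient U) (lt_of_le_of_ne le_sup_right fun e =>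
        hwC (e.ge (Subgroup.mem_sup_left (Subgroup.mem_zpowers w))))
    have hWc : W ≤ Subgroup.centralizer (W : Set (G ⧸ U)) := by
      have hw1 : W ≤ Subgroup.centralizer {w} := hgen ▸ sup_le (Subgroup.zpowers_le.2
        (Subgroup.mem_centralizer_singleton_iff.2 rfl)) (hZc.trans (Subgroup.center_le_centralizer _))
      refine le_trans hgen.ge (sup_le (Subgroup.zpowers_le.2 ?_) (hZc.trans (Subgroup.center_le_centralizer _)))
      exact Subgroup.mem_centralizer_iff.2 fun v hv => Subgroup.mem_centralizer_singleton_iff.1 (hw1 hv)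
    rw [← QuotientGroup.eq_one_iff, ← QuotientGroup.mk'_apply, map_commutatorElement,
      commutatorElement_eq_one_iff_mul_comm]
    exact (Subgroup.mem_centralizer_iff.1 (hWc (hW ▸ Subgroup.mem_map_of_mem _ hx')) _
      (hW ▸ Subgroup.mem_map_of_mem _ hx))
  -- the intersection
  obtain ⟨D, hD⟩ : ∃ D, D = U ⊓ U₂ := ⟨_, rfl⟩
  haveI hDn : D.Normal := hD ▸ inferInstance
  have hDU : D ≤ U := hD ▸ inf_le_left
  have hDc : Nat.card U ≤ Nat.card D * p := by
    obtain ⟨Y, hY⟩ : ∃ Y, Y = h.sub (axisA p) := ⟨_, rfl⟩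
    have hU₂Y : U₂ ≤ Y := hY ▸ (h₂.U_le_frattini hG).trans (h.frattini_le_axisA m hp5)
    have hUY : U ≤ Y := hY ▸ h.U_le_sub _
    have h1 : (U.map (QuotientGroup.mk' U₂)) ≤ Y.map (QuotientGroup.mk' U₂) := Subgroup.map_mono hUY
    have h2 : Nat.card (Y.map (QuotientGroup.mk' U₂)) = p := by
      have := card_eq_mul_map hU₂Y
      rw [hY, h.card_axisA_sub, ← hUc, mul_comm] at this
      rw [hY]
      exact (Nat.eq_of_mul_eq_mul_left Nat.card_pos this).symm
    have h3 := Subgroup.card_mul_index ((QuotientGroup.mk' U₂).subgroupMap U).ker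
    rw [Subgroup.index_ker, MonoidHom.range_eq_top.2 ((QuotientGroup.mk' U₂).subgroupMap_surjective U),
      Subgroup.card_top] at h3
    have h4 : Nat.card ((QuotientGroup.mk' U₂).subgroupMap U).ker ≤ Nat.card D := by
      refine Nat.card_le_card_of_injective (fun x => (⟨((x : U) : G), hD ▸ ⟨(x : U).2, ?_⟩⟩ : D))
        fun x x' e => Subtype.ext (Subtype.ext (congrArg (fun z : D => (z : G)) e))
      exact (QuotientGroup.eq_one_iff _).1 (congrArg Subtype.val (MonoidHom.mem_ker.1 x.2))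
    rw [← h3]
    exact Nat.mul_le_mul h4 (h2 ▸ Subgroup.card_le_of_le h1)
  have hDlt : D < U := lt_of_le_of_ne hDU fun e =>
    hne (Subgroup.eq_of_le_of_card_ge (hD ▸ e.ge : U ≤ U ⊓ U₂) (Subgroup.card_le_of_le inf_le_left) ▸
      (Subgroup.eq_of_le_of_card_ge ((hD ▸ e.ge : U ≤ U ⊓ U₂).trans inf_le_right) hUc.le).symm)
  have hcen : ∀ x : G, ∀ u ∈ U, ⁅x, u⁆ ∈ D := fun x u hu => comm_mem_of_card hG h.normalU hDn hDU hDc x hu
  have hpD : ∀ u ∈ U, u ^ p ∈ D := by
    intro u hu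
    have hq : Nat.card (U.map (QuotientGroup.mk' D)) ≤ p := by
      have := card_eq_mul_map hDU
      rw [this] at hDc
      exact Nat.le_of_mul_le_mul_left hDc Nat.card_pos
    rw [← QuotientGroup.eq_one_iff, ← QuotientGroup.mk'_apply, map_pow]
    obtain ⟨k, hk⟩ := hG.to_quotient D (QuotientGroup.mk' D u)
    obtain ⟨i, -, hi⟩ := (Nat.dvd_prime_pow hp.out).1 (orderOf_dvd_of_pow_eq_one hk)
    have hle := (Nat.le_of_dvd Nat.card_pos
      (Subgroup.orderOf_dvd_natCard _ (Subgroup.mem_map_of_mem (QuotientGroup.mk' D) hu))).trans hq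
    refine orderOf_dvd_iff_pow_eq_one.1 (hi ▸ ?_)
    rw [hi] at hle
    exact (pow_dvd_pow p ((Nat.pow_le_pow_iff_right hp.out.one_lt).1 (hle.trans (pow_one p).ge))).trans
      (by rw [pow_one])
  have d : Section p E U D := ⟨hDn, h.le, h.comm, fun x _ u hu => hcen x u hu, hpD⟩
  obtain ⟨q, hq⟩ : ∃ q, q = QuotientGroup.mk' D := ⟨_, rfl⟩
  have hq1 : ∀ x, q x = 1 ↔ x ∈ D := fun x => hq ▸ d.mk_eq_one
  have hqc : ∀ (x : G) {u : G}, u ∈ U → Commute (q x) (q u) := fun x u hu =>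
    commutatorElement_eq_one_iff_commute.1 (by rw [← map_commutatorElement, hq1]; exact hcen x u hu)
  have htD : D ≤ D.comap t.toMonoidHom := fun u hu => by
    rw [hD] at hu ⊢
    exact ⟨t_U h m u hu.1, ht₂ u hu.2⟩
  obtain ⟨θ, hθ⟩ : ∃ θ : G ⧸ D →* G ⧸ D, ∀ x, θ (q x) = q (t x) :=
    ⟨QuotientGroup.map D D t.toMonoidHom htD, fun x => by subst hq; rfl⟩
  -- bilinear values
  have hpowv : ∀ x ∈ E, q (x ^ p) =
      pw (q (a ^ p)) (co x).1 * pw (q (b ^ p)) (co x).2.1 * pw (q (c ^ p)) (co x).2.2 := fun x hx =>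
    h.value (f := fun x => q (x ^ p)) (fun x hx x' hx' => hq ▸ d.mul_pow hp2 hx hx')
      (fun u hu => (hq1 _).2 (d.pow u hu)) hx
  have hright : ∀ w ∈ E, ∀ v ∈ E, q ⁅w, v⁆ =
      pw (q ⁅w, a⁆) (co v).1 * pw (q ⁅w, b⁆) (co v).2.1 * pw (q ⁅w, c⁆) (co v).2.2 := fun w hw v hv =>
    h.value (f := fun v => q ⁅w, v⁆) (fun v hv v' hv' => hq ▸ d.comm_mul_right hw hv hv')
      (fun u hu => (hq1 _).2 (d.cent w hw u hu)) hv
  have hleft : ∀ w ∈ E, ∀ v ∈ E, q ⁅v, w⁆ =
      pw (q ⁅a, w⁆) (co v).1 * pw (q ⁅b, w⁆) (co v).2.1 * pw (q ⁅c, w⁆) (co v).2.2 := fun w hw v hv =>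
    h.value (f := fun v => q ⁅v, w⁆) (fun v hv v' hv' => hq ▸ d.comm_mul_left hv hv' hw)
      (fun u hu => by
        show q ⁅u, w⁆ = 1
        rw [← commutatorElement_inv, map_inv, (hq1 _).2 (d.cent w hw u hu), inv_one]) hv
  have hinv : ∀ {x y : G}, q ⁅x, y⁆ = 1 → q ⁅y, x⁆ = 1 := fun {x y} e => by
    rw [← commutatorElement_inv, map_inv, e, inv_one]
  have hU1 : ∀ {u : G}, u ∈ U → u ∈ U₂ → q u = 1 := fun h1 h2 => (hq1 _).2 (hD ▸ ⟨h1, h2⟩)
  -- invariance under conjugation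
  have hsa : q (a ^ p) = 1 := by
    have e1 : q ((s * b * s⁻¹) ^ p) = q (b ^ p) := by
      rw [conj_pow, map_mul, map_mul, map_inv, (hqc s (h.pow b h.bE)).eq, mul_inv_cancel_right]
    have e2 := hpowv _ (h.conjMem s b h.bE)
    rw [co_conj_s h h.bE, h.co_b, e1] at e2
    simp only [zero_add, pw_one_exp, pw_zero, mul_one] at e2
    exact left_eq_mul.1 (e2.trans ((hqc _ (h.pow b h.bE)).eq))
  have hac : q ⁅a, c⁆ = 1 := by
    have e1 : q ⁅s * b * s⁻¹, s * c * s⁻¹⁆ = q ⁅b, c⁆ := by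
      rw [show ⁅s * b * s⁻¹, s * c * s⁻¹⁆ = s * ⁅b, c⁆ * s⁻¹ by simp only [commutatorElement_def]; group,
        map_mul, map_mul, map_inv, (hqc s (h.comm b h.bE c h.cE)).eq, mul_inv_cancel_right]
    rw [hleft _ (h.conjMem s c h.cE) _ (h.conjMem s b h.bE), co_conj_s h h.bE, h.co_b,
      hright a h.aE _ (h.conjMem s c h.cE), hright b h.bE _ (h.conjMem s c h.cE), co_conj_s h h.cE, h.co_c] at e1
    simp only [zero_add, pw_one_exp, pw_zero, mul_one, one_mul] at e1
    exact mul_eq_right.1 e1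
  -- an element of `E₂` over `b`
  obtain ⟨e, he, i, hbe⟩ := h₂.exists_dec hcE₂ b
  have heb : e = b * (c ^ i)⁻¹ := by rw [hbe, mul_inv_cancel_right]
  have heE : e ∈ E := heb ▸ E.mul_mem h.bE (E.inv_mem (E.pow_mem h.cE i))
  have hco : co e = (0, 1, -(i : ZMod p)) := by
    rw [heb, h.add _ h.bE _ (E.inv_mem (E.pow_mem h.cE i)), h.co_inv (E.pow_mem h.cE i), h.co_pow h.cE,
      h.co_b, h.co_c]
    simp [Prod.smul_mk]
  have hab : q ⁅a, b⁆ = 1 := by
    have e1 := hU1 (h.comm a h.aE e heE) (h₂.comm a haE₂ e he)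
    rw [hright a h.aE e heE, hco, hac] at e1
    simpa [one_pw, pw_one_exp, pw_zero] using e1
  have hbp : q (b ^ p) * pw (q (c ^ p)) (-(i : ZMod p)) = 1 := by
    have e1 := hU1 (h.pow e heE) (h₂.pow e he)
    rw [hpowv e heE, hco] at e1
    simpa [one_pw, pw_one_exp, pw_zero] using e1
  obtain ⟨A, hAd⟩ : ∃ A, A = U.map q := ⟨_, rfl⟩
  have hAc : ∀ x ∈ A, ∀ x' ∈ A, Commute x x' := by
    intro x hx x' hx'
    rw [hAd] at hx hx'
    obtain ⟨u, -, rfl⟩ := hx
    obtain ⟨v, hv, rfl⟩ := hx'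
    exact hqc u hv
  have hAp : ∀ x ∈ A, x ^ p = 1 := by
    intro x hx
    rw [hAd] at hx
    obtain ⟨u, hu, rfl⟩ := hx
    exact hq ▸ d.pow_eq hu
  have hAθ : ∀ x ∈ A, θ x ∈ A := by
    intro x hx
    rw [hAd] at hx
    obtain ⟨u, hu, rfl⟩ := hx
    rw [hθ, hAd]
    exact ⟨_, t_U h m u hu, rfl⟩
  obtain ⟨g1, g2, g3, -⟩ := g_facts h m hp5
  have hg1 : (1 : ZMod p) ≠ g₀⁻¹ := fun e => by
    have hg : g₀ = 1 := by rw [← inv_inv g₀, ← e, inv_one]
    exact g3 (by rw [hg, one_mul])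
  have hθc : θ (q (c ^ p)) = pw (q (c ^ p)) (1 : ZMod p) := by
    rw [hθ, map_pow, hpowv _ (m.t_mem c h.cE), m.t_c, pw_zero, pw_zero, one_mul, one_mul]
  by_cases hbc : q ⁅b, c⁆ = 1
  · -- `c` is central modulo the intersection
    have hEE : ∀ x ∈ E, ∀ x' ∈ E, q ⁅x, x'⁆ = 1 := by
      intro x hx x' hx'
      rw [hright x hx x' hx', hleft a h.aE x hx, hleft b h.bE x hx, hleft c h.cE x hx, hac, hab, hbc,
        hinv hab, hinv hac, hinv hbc]
      simp [one_pw]
    have hsc : q ⁅s, c⁆ = 1 := by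
      refine eigen_zero (A := A) hAc hAp θ hAθ [g₀⁻¹, 1] (k := g₀ * g₀) (by simp [g2, g3])
        {q (b ^ p), q (c ^ p)} ?_ ?_ _ ?_ ?_
      · rintro x (rfl | rfl)
        exacts [hAd ▸ ⟨_, h.pow b h.bE, rfl⟩, hAd ▸ ⟨_, h.pow c h.cE, rfl⟩]
      · rintro x (rfl | rfl)
        · refine Or.inr ⟨g₀⁻¹, by simp, ?_⟩
          rw [hθ, map_pow, hpowv _ (m.t_mem b h.bE), m.t_b, pw_zero, pw_zero, one_mul, mul_one]
        · exact Or.inr ⟨1, by simp, hθc⟩
      · have hgen : U ≤ (Subgroup.closure ({q (b ^ p), q (c ^ p)} : Set (G ⧸ D))).comap q := by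
          refine h.min _ (fun x hx => ?_) fun x hx x' hx' => ?_
          · rw [Subgroup.mem_comap, hpowv x hx, hsa, one_pw, one_mul]
            refine mul_mem (pow_mem (Subgroup.subset_closure ?_) _) (pow_mem (Subgroup.subset_closure ?_) _) <;>
              simp
          · rw [Subgroup.mem_comap, hEE x hx x' hx']
            exact one_mem _
        exact hgen h.sc
      · obtain ⟨w, hw, j, hts⟩ := h.exists_dec h.s_not (t s)
        have hr : (j : ZMod p) = g₀ * g₀ := by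
          rw [← rot_t h m, hts, h.rot_mul, h.rot_of_mem hw, h.rot_pow, h.rot_s, zero_add, mul_one]
        have hu : c⁻¹ * t c ∈ U := by
          rw [← h.zero _ (E.mul_mem (E.inv_mem h.cE) (m.t_mem c h.cE)),
            h.add _ (E.inv_mem h.cE) _ (m.t_mem c h.cE), h.co_inv h.cE, h.co_c, m.t_c, neg_add_cancel]
        have hmulc : ∀ x x' : G, ⁅x', c⁆ ∈ U →
            q ⁅x * x', c⁆ = q ⁅x, c⁆ * q ⁅x', c⁆ := fun x x' hx' => by
          rw [show ⁅x * x', c⁆ = x * ⁅x', c⁆ * x⁻¹ * ⁅x, c⁆ by simp only [commutatorElement_def]; group,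
            map_mul, map_mul, map_mul, map_inv, (hqc x hx').eq, mul_inv_cancel_right, (hqc _ hx').eq]
        have hcU : ∀ x, ⁅x, c⁆ ∈ U := fun x => h.comm_midZero x ⟨h.cE, by rw [h.co_c]; rfl⟩
        have hsj : ∀ n : ℕ, q ⁅s ^ n, c⁆ = q ⁅s, c⁆ ^ n := by
          intro n
          induction n with
          | zero => simp
          | succ n ih => rw [pow_succ, hmulc _ _ (hcU s), ih, pow_succ]
        rw [hθ, map_commutatorElement, show t c = c * (c⁻¹ * t c) by group,
          show ⁅t s, c * (c⁻¹ * t c)⁆ = ⁅t s, c⁆ * (c * ⁅t s, c⁻¹ * t c⁆ * c⁻¹) by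
            simp only [commutatorElement_def]; group,
          map_mul, map_mul, map_mul, (hq1 ⁅t s, c⁻¹ * t c⁆).2 (hcen _ _ hu), mul_one, map_inv,
          mul_inv_cancel, mul_one, hts, hmulc _ _ (hcU _), hEE w hw c h.cE, one_mul, hsj,
          ← hr, pw_natCast (hq ▸ d.pow_eq h.sc)]
    refine hcE₂ (h₂.faithful fun x _ => ?_)
    have hall : q ⁅x, c⁆ = 1 := by
      obtain ⟨w, hw, j, rfl⟩ := h.exists_dec h.s_not x
      rw [map_commutatorElement, commutatorElement_eq_one_iff_commute, map_mul, map_pow]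
      refine Commute.mul_left (commutatorElement_eq_one_iff_commute.1 ?_)
        ((commutatorElement_eq_one_iff_commute.1 ?_).pow_left j)
      · rw [← map_commutatorElement]; exact hEE w hw c h.cE
      · rw [← map_commutatorElement]; exact hsc
    have hmem := (hq1 _).1 (hinv hall)
    rw [hD] at hmem
    exact hmem.2
  -- an elementary abelian section of order `p⁴`
  have hcp : q (c ^ p) = 1 := by
    refine eigen_zero (A := A) hAc hAp θ hAθ [g₀⁻¹] (k := 1) (by simp [hg1]) {q ⁅b, c⁆} ?_ ?_ _ ?_ hθc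
    · rintro x rfl; exact hAd ▸ ⟨_, h.comm b h.bE c h.cE, rfl⟩
    · rintro x rfl
      refine Or.inr ⟨g₀⁻¹, by simp, ?_⟩
      rw [hθ, map_commutatorElement, hleft _ (m.t_mem c h.cE) _ (m.t_mem b h.bE), m.t_b,
        hright b h.bE _ (m.t_mem c h.cE), m.t_c]
      simp [pw_zero, pw_one_exp]
    · have hle : Subgroup.closure ({q ⁅b, c⁆} : Set (G ⧸ D)) = A := by
        rw [← Subgroup.zpowers_eq_closure]
        refine Subgroup.eq_of_le_of_card_ge (Subgroup.zpowers_le.2 (hAd ▸ ⟨_, h.comm b h.bE c h.cE, rfl⟩)) ?_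
        rw [Nat.card_zpowers, orderOf_eq_prime (hq ▸ d.pow_eq (h.comm b h.bE c h.cE)) hbc]
        have := card_eq_mul_map hDU
        rw [← hq, ← hAd] at this
        rw [this] at hDc
        exact Nat.le_of_mul_le_mul_left hDc Nat.card_pos
      rw [hle]
      exact hAd ▸ ⟨_, h.pow c h.cE, rfl⟩
  have hbp' : q (b ^ p) = 1 := by rwa [hcp, one_pw, mul_one] at hbp
  have hyU := y_U h m
  obtain ⟨B, hB⟩ : ∃ B : Subgroup G, ∀ u, u ∈ B ↔ u ∈ D ∧ y u ∈ D :=
    ⟨{ carrier := {u | u ∈ D ∧ y u ∈ D}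
       one_mem' := ⟨D.one_mem, by rw [map_one_of_mul m.y_mul]; exact D.one_mem⟩
       mul_mem' := fun {u v} hu hv => ⟨D.mul_mem hu.1 hv.1, by
         rw [m.y_mul u (h.le (hDU hu.1)) v (h.le (hDU hv.1))]; exact D.mul_mem hu.2 hv.2⟩
       inv_mem' := fun {u} hu => ⟨D.inv_mem hu.1, by
         rw [map_inv_of_mul m.y_mul (h.le (hDU hu.1))]; exact D.inv_mem hu.2⟩ }, fun u => Iff.rfl⟩
  have hBD : B ≤ D := fun u hu => ((hB u).1 hu).1
  have hlayB : layer p E U ≤ B := fun u hu => by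
    have hle : layer p E U ≤ D := layer_le_iff.2 ⟨d.cent, hpD⟩
    exact (hB u).2 ⟨hle hu, hle (map_mem_layer h.le h.normalU m.y_mem m.y_mul hyU u hu)⟩
  -- the plane is elementary modulo `B`
  obtain ⟨P, hP⟩ : ∃ P, P = h.sub (planeM p) := ⟨_, rfl⟩
  have hyP : ∀ x ∈ P, y x ∈ P := fun x hx => by
    rw [hP] at hx ⊢
    exact ⟨m.y_mem x hx.1, by rw [co_y h m hx.1]; exact hx.2⟩
  have hPc : ∀ x ∈ P, ∀ x' ∈ P, ⁅x, x'⁆ ∈ D := by
    intro x hx x' hx'
    rw [hP] at hx hx'
    rw [← hq1, hright x hx.1 x' hx'.1, hleft a h.aE x hx.1, hleft b h.bE x hx.1,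
      show (co x).2.2 = 0 from hx.2, show (co x').2.2 = 0 from hx'.2, hab, hinv hab]
    simp [one_pw, pw_zero]
  have hPp : ∀ x ∈ P, x ^ p ∈ D := by
    intro x hx
    rw [hP] at hx
    rw [← hq1, hpowv x hx.1, show (co x).2.2 = 0 from hx.2, hsa, hbp']
    simp [one_pw, pw_zero]
  have hPB : ∀ x ∈ P, ∀ x' ∈ P, ⁅x, x'⁆ ∈ B := fun x hx x' hx' => (hB _).2 ⟨hPc x hx x' hx', by
    have hxE : x ∈ E := (hP ▸ hx : x ∈ h.sub (planeM p)).1
    have hxE' : x' ∈ E := (hP ▸ hx' : x' ∈ h.sub (planeM p)).1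
    rw [map_comm_of_mul m.y_mul hxE hxE']
    exact hPc _ (hyP x hx) _ (hyP x' hx')⟩
  have hPB' : ∀ x ∈ P, x ^ p ∈ B := fun x hx => (hB _).2 ⟨hPp x hx, by
    rw [map_pow_of_mul m.y_mul (hP ▸ hx : x ∈ h.sub (planeM p)).1]
    exact hPp _ (hyP x hx)⟩
  have hlt1 : B < D := by
    refine lt_of_le_of_ne hBD fun e => hbc ?_
    have h1 : ⁅a, c⁆ ∈ B := e.ge ((hq1 _).1 hac)
    have h2 := (hq1 _).2 ((hB _).1 h1).2
    rw [map_comm_of_mul m.y_mul h.aE h.cE, hright _ (m.y_mem a h.aE) _ (m.y_mem c h.cE), m.y_c,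
      hleft c h.cE _ (m.y_mem a h.aE), m.y_a, hac] at h2
    simpa [pw_zero, pw_one_exp] using h2
  have hcard := card_le_rank hsr (A := P) (B := B)
    (fun u hu => hP ▸ h.U_le_sub _ (hDU (hBD hu)))
    (fun x hx u hu => (h.isSection).normal_between hlayB (hBD.trans hDU) x
      (hP ▸ hx : x ∈ h.sub (planeM p)).1 u hu) hPB hPB'
  have h1 := mul_card_le_of_lt hG hlt1
  have h2 := mul_card_le_of_lt hG hDlt
  rw [hP, h.card_sub, card_planeM] at hcard
  have h4 : Nat.card B * p ^ 4 ≤ p ^ 3 * Nat.card B := by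
    calc Nat.card B * p ^ 4 = Nat.card B * p * p * (p * p) := by ring
      _ ≤ Nat.card D * p * (p * p) := by gcongr
      _ ≤ Nat.card U * (p * p) := by gcongr
      _ = p * p * Nat.card U := mul_comm _ _
      _ ≤ _ := hcard
  have h5 : p ^ 3 * Nat.card B < Nat.card B * p ^ 4 := by
    rw [mul_comm (Nat.card B)]
    exact Nat.mul_lt_mul_of_pos_right (Nat.pow_lt_pow_right hp.out.one_lt (by norm_num)) Nat.card_pos
  omega

end Moves

end Cfsg.Agent.Local.FS.RankThreeNormal
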