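import Cfsg.Agent.Lib.Local.FS.RankThreeNormal.Tools

/-!
A normal subgroup `E` of index `p` with three-generated Frattini quotient on which the group acts
by transvections, in coordinates.
-/

set_option autoImplicit false

open scoped commutatorElement

namespace Cfsg.Agent.Local.FS.RankThreeNormal

variable {G : Type*} [Group G] {p : ℕ}

/-- The subgroup generated by the commutators of `A` with `U` and the `p`-th powers of `U`. -/
def layer (p : ℕ) (A U : Subgroup G) : Subgroup G :=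
  Subgroup.closure ({x | ∃ a ∈ A, ∃ u ∈ U, ⁅a, u⁆ = x} ∪ {x | ∃ u ∈ U, u ^ p = x})

theorem comm_mem_layer {A U : Subgroup G} {a u : G} (ha : a ∈ A) (hu : u ∈ U) : ⁅a, u⁆ ∈ layer p A U :=
  Subgroup.subset_closure (Or.inl ⟨a, ha, u, hu, rfl⟩)

theorem pow_mem_layer {A U : Subgroup G} {u : G} (hu : u ∈ U) : u ^ p ∈ layer p A U :=
  Subgroup.subset_closure (Or.inr ⟨u, hu, rfl⟩)

theorem layer_le_iff {A U X : Subgroup G} :
    layer p A U ≤ X ↔ (∀ a ∈ A, ∀ u ∈ U, ⁅a, u⁆ ∈ X) ∧ ∀ u ∈ U, u ^ p ∈ X := by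
  rw [layer, Subgroup.closure_le, Set.union_subset_iff]
  exact ⟨fun h => ⟨fun a ha u hu => h.1 ⟨a, ha, u, hu, rfl⟩, fun u hu => h.2 ⟨u, hu, rfl⟩⟩,
    fun h => ⟨fun x ⟨a, ha, u, hu, e⟩ => e ▸ h.1 a ha u hu, fun x ⟨u, hu, e⟩ => e ▸ h.2 u hu⟩⟩

theorem layer_le {A U : Subgroup G} (hU : U.Normal) : layer p A U ≤ U :=
  layer_le_iff.2 ⟨fun a _ u hu => by
    rw [commutatorElement_def]; exact U.mul_mem (hU.conj_mem u hu a) (U.inv_mem hu),
    fun _ hu => U.pow_mem hu p⟩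

/-- A multiplicative map of a subgroup fixes `1`. -/
theorem map_one_of_mul {H : Type*} [Group H] {E : Subgroup G} {f : G → H}
    (hm : ∀ x ∈ E, ∀ y ∈ E, f (x * y) = f x * f y) : f 1 = 1 := by
  have h := hm 1 E.one_mem 1 E.one_mem
  rw [one_mul] at h
  exact mul_eq_left.1 h.symm

theorem map_inv_of_mul {H : Type*} [Group H] {E : Subgroup G} {f : G → H}
    (hm : ∀ x ∈ E, ∀ y ∈ E, f (x * y) = f x * f y) {x : G} (hx : x ∈ E) : f x⁻¹ = (f x)⁻¹ :=
  eq_inv_of_mul_eq_one_left (by rw [← hm _ (E.inv_mem hx) _ hx, inv_mul_cancel, map_one_of_mul hm])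

theorem map_pow_of_mul {H : Type*} [Group H] {E : Subgroup G} {f : G → H}
    (hm : ∀ x ∈ E, ∀ y ∈ E, f (x * y) = f x * f y) {x : G} (hx : x ∈ E) (n : ℕ) : f (x ^ n) = f x ^ n := by
  induction n with
  | zero => rw [pow_zero, pow_zero, map_one_of_mul hm]
  | succ n ih => rw [pow_succ, hm _ (E.pow_mem hx n) _ hx, ih, pow_succ]

theorem map_comm_of_mul {H : Type*} [Group H] {E : Subgroup G} {f : G → H}
    (hm : ∀ x ∈ E, ∀ y ∈ E, f (x * y) = f x * f y) {x y : G} (hx : x ∈ E) (hy : y ∈ E) :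
    f ⁅x, y⁆ = ⁅f x, f y⁆ := by
  simp only [commutatorElement_def]
  rw [hm _ (E.mul_mem (E.mul_mem hx hy) (E.inv_mem hx)) _ (E.inv_mem hy),
    hm _ (E.mul_mem hx hy) _ (E.inv_mem hx), hm x hx y hy, map_inv_of_mul hm hx, map_inv_of_mul hm hy]

/-- A map of `A`, preserving `U`, preserves the layer. -/
theorem map_mem_layer {A U : Subgroup G} (hUA : U ≤ A) (hU : U.Normal) {f : G → G}
    (hf : ∀ x ∈ A, f x ∈ A) (hm : ∀ x ∈ A, ∀ y ∈ A, f (x * y) = f x * f y) (hfU : ∀ u ∈ U, f u ∈ U) :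
    ∀ x ∈ layer p A U, f x ∈ layer p A U := by
  intro x hx
  have hA : layer p A U ≤ A := (layer_le hU).trans hUA
  induction hx using Subgroup.closure_induction with
  | mem x hx =>
    rcases hx with ⟨a, ha, u, hu, rfl⟩ | ⟨u, hu, rfl⟩
    · rw [map_comm_of_mul hm ha (hUA hu)]; exact comm_mem_layer (hf a ha) (hfU u hu)
    · rw [map_pow_of_mul hm (hUA hu)]; exact pow_mem_layer (hfU u hu)
  | one => rw [map_one_of_mul hm]; exact one_mem _
  | mul a b ha hb iha ihb => rw [hm a (hA ha) b (hA hb)]; exact mul_mem iha ihb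
  | inv a ha iha => rw [map_inv_of_mul hm (hA ha)]; exact inv_mem iha

/-- `E` is normal of index `p` and `U` is its Frattini subgroup, of index `p³`. -/
structure Phi (p : ℕ) (E U : Subgroup G) : Prop where
  normalE : E.Normal
  normalU : U.Normal
  le : U ≤ E
  pow : ∀ x ∈ E, x ^ p ∈ U
  comm : ∀ x ∈ E, ∀ y ∈ E, ⁅x, y⁆ ∈ U
  min : ∀ N : Subgroup G, (∀ x ∈ E, x ^ p ∈ N) → (∀ x ∈ E, ∀ y ∈ E, ⁅x, y⁆ ∈ N) → U ≤ N
  card : Nat.card E = p ^ 3 * Nat.card U
  index : E.index = p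

namespace Phi

variable {E U : Subgroup G}

theorem layer_normal (h : Phi p E U) {A : Subgroup G} (hA : A.Normal) : (layer p A U).Normal := by
  refine ⟨fun x hx g => ?_⟩
  induction hx using Subgroup.closure_induction with
  | mem x hx =>
    rcases hx with ⟨a, ha, u, hu, rfl⟩ | ⟨u, hu, rfl⟩
    · rw [show g * ⁅a, u⁆ * g⁻¹ = ⁅g * a * g⁻¹, g * u * g⁻¹⁆ by simp only [commutatorElement_def]; group]
      exact comm_mem_layer (hA.conj_mem a ha g) (h.normalU.conj_mem u hu g)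
    · rw [← conj_pow]; exact pow_mem_layer (h.normalU.conj_mem u hu g)
  | one => simp
  | mul a b _ _ iha ihb =>
    rw [show g * (a * b) * g⁻¹ = (g * a * g⁻¹) * (g * b * g⁻¹) by group]; exact mul_mem iha ihb
  | inv a _ iha => rw [show g * a⁻¹ * g⁻¹ = (g * a * g⁻¹)⁻¹ by group]; exact inv_mem iha

theorem isSection (h : Phi p E U) : Section p E U (layer p E U) :=
  ⟨h.layer_normal h.normalE, h.le, h.comm, fun _ hx _ hu => comm_mem_layer hx hu,
    fun _ hu => pow_mem_layer hu⟩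

theorem map_mem (h : Phi p E U) {f : G → G} (hf : ∀ x ∈ E, f x ∈ E)
    (hm : ∀ x ∈ E, ∀ y ∈ E, f (x * y) = f x * f y) : ∀ u ∈ U, f u ∈ U := by
  obtain ⟨N, hN⟩ : ∃ N : Subgroup G, ∀ x, x ∈ N ↔ x ∈ E ∧ f x ∈ U :=
    ⟨{ carrier := {x | x ∈ E ∧ f x ∈ U}
       one_mem' := ⟨E.one_mem, by rw [map_one_of_mul hm]; exact U.one_mem⟩
       mul_mem' := fun {a b} ha hb => ⟨E.mul_mem ha.1 hb.1, by
         rw [hm a ha.1 b hb.1]; exact U.mul_mem ha.2 hb.2⟩
       inv_mem' := fun {a} ha => ⟨E.inv_mem ha.1, by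
         rw [map_inv_of_mul hm ha.1]; exact U.inv_mem ha.2⟩ }, fun x => Iff.rfl⟩
  intro u hu
  refine ((hN u).1 (h.min N (fun x hx => (hN _).2 ⟨E.pow_mem hx p, ?_⟩) (fun x hx y hy => (hN _).2 ⟨?_, ?_⟩) hu)).2
  · rw [map_pow_of_mul hm hx]; exact h.pow _ (hf x hx)
  · exact h.le (h.comm x hx y hy)
  · rw [map_comm_of_mul hm hx hy]; exact h.comm _ (hf x hx) _ (hf y hy)

theorem map_equiv (h : Phi p E U) (g : MulAut G) : Phi p (E.map g.toMonoidHom) (U.map g.toMonoidHom) := by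
  refine ⟨h.normalE.map _ g.surjective, h.normalU.map _ g.surjective, Subgroup.map_mono h.le, ?_, ?_, ?_, ?_, ?_⟩
  · rintro _ ⟨x, hx, rfl⟩; exact ⟨x ^ p, h.pow x hx, map_pow _ _ _⟩
  · rintro _ ⟨x, hx, rfl⟩ _ ⟨y, hy, rfl⟩; exact ⟨⁅x, y⁆, h.comm x hx y hy, map_commutatorElement _ _ _⟩
  · intro N hp' hc
    rw [Subgroup.map_le_iff_le_comap]
    refine h.min _ (fun x hx => ?_) fun x hx y hy => ?_
    · rw [Subgroup.mem_comap, map_pow]; exact hp' _ ⟨x, hx, rfl⟩
    · rw [Subgroup.mem_comap, map_commutatorElement]; exact hc _ ⟨x, hx, rfl⟩ _ ⟨y, hy, rfl⟩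
  · rw [Subgroup.card_map_of_injective g.injective, Subgroup.card_map_of_injective g.injective, h.card]
  · rw [Subgroup.index_map_of_bijective g.bijective, h.index]

theorem pow_mem_E (h : Phi p E U) (x : G) : x ^ p ∈ E := by
  haveI := h.normalE
  exact h.index ▸ E.pow_index_mem x

theorem exists_dec [Fact p.Prime] (h : Phi p E U) {s : G} (hs : s ∉ E) (x : G) :
    ∃ e ∈ E, ∃ i : ℕ, x = e * s ^ i := by
  haveI := h.normalE
  have hc : Nat.card (G ⧸ E) = p := by rw [← Subgroup.index_eq_card, h.index]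
  haveI : Finite (G ⧸ E) := Nat.finite_of_card_ne_zero (hc ▸ (Fact.out : p.Prime).ne_zero)
  have h1 := mem_zpowers_of_prime_card (g' := QuotientGroup.mk' E x) hc
    (show QuotientGroup.mk' E s ≠ 1 from fun e => hs ((QuotientGroup.eq_one_iff s).1 e))
  obtain ⟨i, hi⟩ := mem_powers_iff_mem_zpowers.2 h1
  have h2 : (s ^ i)⁻¹ * x ∈ E := QuotientGroup.eq.1 (show QuotientGroup.mk' E (s ^ i) = _ by
    rw [map_pow]; exact hi)
  refine ⟨x * (s ^ i)⁻¹, ?_, i, by rw [inv_mul_cancel_right]⟩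
  have := h.normalE.conj_mem _ h2 (s ^ i)
  rwa [show s ^ i * ((s ^ i)⁻¹ * x) * (s ^ i)⁻¹ = x * (s ^ i)⁻¹ by group] at this

end Phi

/-- Coordinates of `E / U` in which the generator `s` of `G / E` is the standard transvection. -/
structure Frame (p : ℕ) (E U : Subgroup G) (a b c s : G) (co : G → ZMod p × ZMod p × ZMod p) : Prop
    extends Phi p E U where
  aE : a ∈ E
  bE : b ∈ E
  cE : c ∈ E
  s_not : s ∉ E
  add : ∀ x ∈ E, ∀ y ∈ E, co (x * y) = co x + co y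
  zero : ∀ x ∈ E, co x = 0 ↔ x ∈ U
  co_a : co a = (1, 0, 0)
  co_b : co b = (0, 1, 0)
  co_c : co c = (0, 0, 1)
  sa : ⁅s, a⁆ ∈ U
  sb : ⁅s, b⁆ * a⁻¹ ∈ U
  sc : ⁅s, c⁆ ∈ U

namespace Frame

variable [hp : Fact p.Prime] {E U : Subgroup G} {a b c s : G} {co : G → ZMod p × ZMod p × ZMod p}
  (h : Frame p E U a b c s co)
include h

theorem co_one : co 1 = 0 := by
  have := h.add 1 E.one_mem 1 E.one_mem
  rw [one_mul] at this
  exact left_eq_add.1 this

theorem co_inv {x : G} (hx : x ∈ E) : co x⁻¹ = -co x :=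
  eq_neg_of_add_eq_zero_left (by rw [← h.add _ (E.inv_mem hx) _ hx, inv_mul_cancel, h.co_one])

theorem co_pow {x : G} (hx : x ∈ E) (n : ℕ) : co (x ^ n) = n • co x := by
  induction n with
  | zero => rw [pow_zero, zero_smul, h.co_one]
  | succ n ih => rw [pow_succ, h.add _ (E.pow_mem hx n) _ hx, ih, succ_nsmul]

theorem co_U {u : G} (hu : u ∈ U) : co u = 0 := (h.zero u (h.le hu)).2 hu

theorem co_eq {x y : G} (hx : x ∈ E) (hy : y ∈ E) (hxy : x * y⁻¹ ∈ U) : co x = co y := by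
  have := h.co_U hxy
  rwa [h.add x hx _ (E.inv_mem hy), h.co_inv hy, ← sub_eq_add_neg, sub_eq_zero] at this

/-- The standard representative of a coordinate vector. -/
def rep (a b c : G) (v : ZMod p × ZMod p × ZMod p) : G := pw a v.1 * pw b v.2.1 * pw c v.2.2

theorem rep_mem (v : ZMod p × ZMod p × ZMod p) : rep a b c v ∈ E :=
  E.mul_mem (E.mul_mem (E.pow_mem h.aE _) (E.pow_mem h.bE _)) (E.pow_mem h.cE _)

theorem co_rep (v : ZMod p × ZMod p × ZMod p) : co (rep a b c v) = v := by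
  simp only [rep, pw]
  rw [h.add _ (E.mul_mem (E.pow_mem h.aE _) (E.pow_mem h.bE _)) _ (E.pow_mem h.cE _),
    h.add _ (E.pow_mem h.aE _) _ (E.pow_mem h.bE _), h.co_pow h.aE, h.co_pow h.bE,
    h.co_pow h.cE, h.co_a, h.co_b, h.co_c]
  simp [Prod.smul_mk]

theorem mul_rep_inv {x : G} (hx : x ∈ E) : x * (rep a b c (co x))⁻¹ ∈ U := by
  rw [← h.zero _ (E.mul_mem hx (E.inv_mem (h.rep_mem _))), h.add _ hx _ (E.inv_mem (h.rep_mem _)),
    h.co_inv (h.rep_mem _), h.co_rep, add_neg_cancel]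

theorem induction {X : Subgroup G} (hU : U ≤ X) (ha : a ∈ X) (hb : b ∈ X) (hc : c ∈ X) : E ≤ X := by
  intro x hx
  have h1 := X.mul_mem (hU (h.mul_rep_inv hx))
    (X.mul_mem (X.mul_mem (X.pow_mem ha (co x).1.val) (X.pow_mem hb (co x).2.1.val))
      (X.pow_mem hc (co x).2.2.val))
  rwa [show x * (rep a b c (co x))⁻¹ * (a ^ (co x).1.val * b ^ (co x).2.1.val * c ^ (co x).2.2.val) = x from
    inv_mul_cancel_right x _] at h1

/-- A multiplicative map killing `U` is determined by the coordinates. -/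
theorem value {H : Type*} [Group H] {f : G → H} (hm : ∀ x ∈ E, ∀ y ∈ E, f (x * y) = f x * f y)
    (hU : ∀ u ∈ U, f u = 1) {x : G} (hx : x ∈ E) :
    f x = pw (f a) (co x).1 * pw (f b) (co x).2.1 * pw (f c) (co x).2.2 := by
  conv_lhs => rw [← inv_mul_cancel_right x (rep a b c (co x))]
  rw [hm _ (h.le (h.mul_rep_inv hx)) _ (h.rep_mem _), hU _ (h.mul_rep_inv hx), one_mul]
  simp only [rep, pw]
  rw [hm _ (E.mul_mem (E.pow_mem h.aE _) (E.pow_mem h.bE _)) _ (E.pow_mem h.cE _),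
    hm _ (E.pow_mem h.aE _) _ (E.pow_mem h.bE _), map_pow_of_mul hm h.aE,
    map_pow_of_mul hm h.bE, map_pow_of_mul hm h.cE]

/-- The coordinates of the image under a map, from the images of the generators. -/
theorem co_map {f : G → G} (hf : ∀ x ∈ E, f x ∈ E) (hm : ∀ x ∈ E, ∀ y ∈ E, f (x * y) = f x * f y)
    {x : G} (hx : x ∈ E) :
    co (f x) = (co x).1.val • co (f a) + (co x).2.1.val • co (f b) + (co x).2.2.val • co (f c) := by
  have h1 : co (f x) = co (f (rep a b c (co x))) := by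
    conv_lhs => rw [← inv_mul_cancel_right x (rep a b c (co x))]
    rw [hm _ (h.le (h.mul_rep_inv hx)) _ (h.rep_mem _),
      h.add _ (hf _ (h.le (h.mul_rep_inv hx))) _ (hf _ (h.rep_mem _)),
      h.co_U (h.map_mem hf hm _ (h.mul_rep_inv hx)), zero_add]
  rw [h1]
  simp only [rep, pw]
  rw [hm _ (E.mul_mem (E.pow_mem h.aE _) (E.pow_mem h.bE _)) _ (E.pow_mem h.cE _),
    hm _ (E.pow_mem h.aE _) _ (E.pow_mem h.bE _), map_pow_of_mul hm h.aE,
    map_pow_of_mul hm h.bE, map_pow_of_mul hm h.cE,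
    h.add _ (E.mul_mem (E.pow_mem (hf a h.aE) _) (E.pow_mem (hf b h.bE) _)) _ (E.pow_mem (hf c h.cE) _),
    h.add _ (E.pow_mem (hf a h.aE) _) _ (E.pow_mem (hf b h.bE) _), h.co_pow (hf a h.aE),
    h.co_pow (hf b h.bE), h.co_pow (hf c h.cE)]

theorem conjMem (x : G) : ∀ e ∈ E, x * e * x⁻¹ ∈ E := fun e he => h.normalE.conj_mem e he x

theorem conj_s {e : G} (he : e ∈ E) : co (s * e * s⁻¹) = co ⁅s, e⁆ + co e := by
  have hc : ⁅s, e⁆ ∈ E := by
    rw [commutatorElement_def]; exact E.mul_mem (h.conjMem s e he) (E.inv_mem he)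
  rw [← h.add _ hc _ he]
  congr 1
  rw [commutatorElement_def]; group

/-- The amount by which an element moves `b`. -/
def rot (b : G) (co : G → ZMod p × ZMod p × ZMod p) (x : G) : ZMod p := (co (x * b * x⁻¹)).1

theorem co_conj (x : G) {e : G} (he : e ∈ E) :
    co (x * e * x⁻¹) = co e + (rot b co x * (co e).2.1, 0, 0) := by
  have hE : ∀ y ∈ E, ∀ e ∈ E, co (y * e * y⁻¹) = co e := fun y hy e he => by
    rw [h.add _ (E.mul_mem hy he) _ (E.inv_mem hy), h.add y hy e he, h.co_inv hy]; abel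
  have hs : ∀ (i : ℕ), ∀ e ∈ E, co (s ^ i * e * (s ^ i)⁻¹) = co e + ((i : ZMod p) * (co e).2.1, 0, 0) := by
    have h1 : ∀ e ∈ E, co (s * e * s⁻¹) = co e + ((co e).2.1, 0, 0) := by
      intro e he
      rw [h.co_map (f := fun y => s * y * s⁻¹) (h.conjMem s) (fun x _ y _ => by group) he]
      have ha : co ⁅s, a⁆ = 0 := h.co_U h.sa
      have hb : co ⁅s, b⁆ = co a := h.co_eq (by
        rw [commutatorElement_def]; exact E.mul_mem (h.conjMem s b h.bE) (E.inv_mem h.bE)) h.aE h.sb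
      have hc : co ⁅s, c⁆ = 0 := h.co_U h.sc
      rw [h.conj_s h.aE, h.conj_s h.bE, h.conj_s h.cE, ha, hb, hc, h.co_a, h.co_b, h.co_c]
      ext <;> simp [Prod.smul_mk]
    intro i
    induction i with
    | zero => intro e he; simp
    | succ i ih =>
      intro e he
      rw [show s ^ (i + 1) * e * (s ^ (i + 1))⁻¹ = s * (s ^ i * e * (s ^ i)⁻¹) * s⁻¹ by group,
        h1 _ (h.conjMem _ e he), ih e he]
      ext <;> simp; ring
  obtain ⟨y, hy, i, rfl⟩ := h.exists_dec h.s_not x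
  have key : ∀ e ∈ E, co (y * s ^ i * e * (y * s ^ i)⁻¹) = co e + ((i : ZMod p) * (co e).2.1, 0, 0) := by
    intro e he
    rw [show y * s ^ i * e * (y * s ^ i)⁻¹ = y * (s ^ i * e * (s ^ i)⁻¹) * y⁻¹ by group,
      hE y hy _ (h.conjMem _ e he), hs i e he]
  have hr : rot b co (y * s ^ i) = i := by
    rw [rot, key b h.bE, h.co_b]; simp
  rw [key e he, hr]

theorem co_comm (x : G) {e : G} (he : e ∈ E) : co ⁅x, e⁆ = (rot b co x * (co e).2.1, 0, 0) := by
  rw [commutatorElement_def, h.add _ (h.conjMem x e he) _ (E.inv_mem he), h.co_inv he, h.co_conj x he]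
  abel

theorem rot_mul (x y : G) : rot b co (x * y) = rot b co x + rot b co y := by
  have := h.co_conj x (h.conjMem y b h.bE)
  rw [show x * (y * b * y⁻¹) * x⁻¹ = x * y * b * (x * y)⁻¹ by group, h.co_conj y h.bE, h.co_b] at this
  rw [rot, this]
  simp [add_comm]

theorem rot_of_mem {x : G} (hx : x ∈ E) : rot b co x = 0 := by
  rw [rot, h.add _ (E.mul_mem hx h.bE) _ (E.inv_mem hx), h.add x hx b h.bE, h.co_inv hx, h.co_b]
  simp

theorem rot_s : rot b co s = 1 := by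
  have hb : co ⁅s, b⁆ = co a := h.co_eq (by
    rw [commutatorElement_def]; exact E.mul_mem (h.conjMem s b h.bE) (E.inv_mem h.bE)) h.aE h.sb
  rw [rot, h.conj_s h.bE, hb, h.co_a, h.co_b]; simp

theorem rot_pow (x : G) (n : ℕ) : rot b co (x ^ n) = n * rot b co x := by
  induction n with
  | zero => rw [pow_zero, h.rot_of_mem E.one_mem]; simp
  | succ n ih => rw [pow_succ, h.rot_mul, ih]; push_cast; ring

theorem mem_of_rot {x : G} (hx : rot b co x = 0) : x ∈ E := by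
  obtain ⟨e, he, i, rfl⟩ := h.exists_dec h.s_not x
  rw [h.rot_mul, h.rot_of_mem he, h.rot_pow, h.rot_s, zero_add, mul_one, ZMod.natCast_eq_zero_iff] at hx
  obtain ⟨k, rfl⟩ := hx
  rw [pow_mul]
  exact E.mul_mem he (E.pow_mem (h.pow_mem_E s) k)

/-- An element centralising `E` modulo `U` lies in `E`. -/
theorem faithful {x : G} (hx : ∀ e ∈ E, ⁅x, e⁆ ∈ U) : x ∈ E := by
  refine h.mem_of_rot ?_
  have := h.co_U (hx b h.bE)
  rw [h.co_comm x h.bE, h.co_b] at this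
  simpa using congrArg Prod.fst this

end Frame

/-- The subgroup of `E` cut out by a subgroup of coordinate vectors. -/
def Frame.sub [Fact p.Prime] {E U : Subgroup G} {a b c s : G} {co : G → ZMod p × ZMod p × ZMod p}
    (h : Frame p E U a b c s co) (W : AddSubgroup (ZMod p × ZMod p × ZMod p)) : Subgroup G where
  carrier := {x | x ∈ E ∧ co x ∈ W}
  one_mem' := ⟨E.one_mem, by rw [h.co_one]; exact W.zero_mem⟩
  mul_mem' := fun {x y} hx hy => ⟨E.mul_mem hx.1 hy.1, by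
    rw [h.add x hx.1 y hy.1]; exact W.add_mem hx.2 hy.2⟩
  inv_mem' := fun {x} hx => ⟨E.inv_mem hx.1, by rw [h.co_inv hx.1]; exact W.neg_mem hx.2⟩

/-- Vectors with vanishing middle coordinate. -/
def midZero (p : ℕ) : AddSubgroup (ZMod p × ZMod p × ZMod p) where
  carrier := {v | v.2.1 = 0}
  zero_mem' := rfl
  add_mem' := fun {v w} (hv : v.2.1 = 0) (hw : w.2.1 = 0) => by
    show (v + w).2.1 = 0; simp [hv, hw]
  neg_mem' := fun {v} (hv : v.2.1 = 0) => by show (-v).2.1 = 0; simp [hv]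

/-- The first axis. -/
def axisA (p : ℕ) : AddSubgroup (ZMod p × ZMod p × ZMod p) where
  carrier := {v | v.2.1 = 0 ∧ v.2.2 = 0}
  zero_mem' := ⟨rfl, rfl⟩
  add_mem' := fun {v w} (hv : v.2.1 = 0 ∧ v.2.2 = 0) (hw : w.2.1 = 0 ∧ w.2.2 = 0) => by
    show (v + w).2.1 = 0 ∧ (v + w).2.2 = 0; simp [hv, hw]
  neg_mem' := fun {v} (hv : v.2.1 = 0 ∧ v.2.2 = 0) => by
    show (-v).2.1 = 0 ∧ (-v).2.2 = 0; simp [hv]

/-- The last axis. -/
def axisC (p : ℕ) : AddSubgroup (ZMod p × ZMod p × ZMod p) where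
  carrier := {v | v.1 = 0 ∧ v.2.1 = 0}
  zero_mem' := ⟨rfl, rfl⟩
  add_mem' := fun {v w} (hv : v.1 = 0 ∧ v.2.1 = 0) (hw : w.1 = 0 ∧ w.2.1 = 0) => by
    show (v + w).1 = 0 ∧ (v + w).2.1 = 0; simp [hv, hw]
  neg_mem' := fun {v} (hv : v.1 = 0 ∧ v.2.1 = 0) => by
    show (-v).1 = 0 ∧ (-v).2.1 = 0; simp [hv]

/-- The plane of the transvections. -/
def planeM (p : ℕ) : AddSubgroup (ZMod p × ZMod p × ZMod p) where
  carrier := {v | v.2.2 = 0}
  zero_mem' := rfl
  add_mem' := fun {v w} (hv : v.2.2 = 0) (hw : w.2.2 = 0) => by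
    show (v + w).2.2 = 0; simp [hv, hw]
  neg_mem' := fun {v} (hv : v.2.2 = 0) => by show (-v).2.2 = 0; simp [hv]

namespace Frame

variable [hp : Fact p.Prime] {E U : Subgroup G} {a b c s : G} {co : G → ZMod p × ZMod p × ZMod p}
  (h : Frame p E U a b c s co)
include h

theorem mem_sub {W : AddSubgroup (ZMod p × ZMod p × ZMod p)} {x : G} :
    x ∈ h.sub W ↔ x ∈ E ∧ co x ∈ W := Iff.rfl

theorem U_le_sub (W : AddSubgroup (ZMod p × ZMod p × ZMod p)) : U ≤ h.sub W := fun u hu =>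
  ⟨h.le hu, by rw [h.co_U hu]; exact W.zero_mem⟩

theorem normal_sub {W : AddSubgroup (ZMod p × ZMod p × ZMod p)}
    (hW : ∀ v ∈ W, ∀ r : ZMod p, (r * v.2.1, 0, 0) ∈ W) : (h.sub W).Normal := by
  refine ⟨fun e he x => ⟨h.conjMem x e he.1, ?_⟩⟩
  rw [h.co_conj x he.1]
  exact W.add_mem he.2 (hW _ he.2 _)

theorem comm_mem_axisA (x : G) {e : G} (he : e ∈ E) : ⁅x, e⁆ ∈ h.sub (axisA p) := by
  refine ⟨?_, ?_⟩
  · rw [commutatorElement_def]; exact E.mul_mem (h.conjMem x e he) (E.inv_mem he)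
  · rw [h.co_comm x he]; exact ⟨rfl, rfl⟩

theorem normal_midZero : (h.sub (midZero p)).Normal :=
  h.normal_sub fun _ _ _ => rfl

theorem comm_midZero (x : G) {e : G} (he : e ∈ h.sub (midZero p)) : ⁅x, e⁆ ∈ U := by
  rw [← h.zero _ (h.comm_mem_axisA x he.1).1, h.co_comm x he.1, show (co e).2.1 = 0 from he.2, mul_zero]
  rfl

/-- The quotient by `Z₀` is abelian of exponent `p`. -/
theorem top_section (x y : G) :
    ⁅x, y⁆ ∈ h.sub (midZero p) ∧ x ^ p ∈ h.sub (midZero p) := by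
  haveI := h.normal_midZero
  have hd : ∀ x : G, ∃ i j : ℕ, QuotientGroup.mk' (h.sub (midZero p)) x =
      QuotientGroup.mk' (h.sub (midZero p)) b ^ i * QuotientGroup.mk' (h.sub (midZero p)) s ^ j := by
    intro x
    obtain ⟨e, he, j, rfl⟩ := h.exists_dec h.s_not x
    refine ⟨(co e).2.1.val, j, ?_⟩
    rw [map_mul, map_pow]
    congr 1
    rw [← map_pow]
    suffices hmem : (b ^ (co e).2.1.val)⁻¹ * e ∈ h.sub (midZero p) from (QuotientGroup.eq.2 hmem).symm
    refine ⟨E.mul_mem (E.inv_mem (E.pow_mem h.bE _)) he, ?_⟩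
    show (co ((b ^ (co e).2.1.val)⁻¹ * e)).2.1 = 0
    rw [h.add _ (E.inv_mem (E.pow_mem h.bE _)) _ he, h.co_inv (E.pow_mem h.bE _), h.co_pow h.bE, h.co_b]
    simp [Prod.smul_mk]
  have hsb : Commute (QuotientGroup.mk' (h.sub (midZero p)) b) (QuotientGroup.mk' (h.sub (midZero p)) s) := by
    refine (commutatorElement_eq_one_iff_commute.1 ?_).symm
    rw [← map_commutatorElement]
    refine (QuotientGroup.eq_one_iff _).2 ⟨(h.comm_mem_axisA s h.bE).1, (h.comm_mem_axisA s h.bE).2.1⟩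
  refine ⟨?_, ?_⟩
  · obtain ⟨i, j, hx⟩ := hd x
    obtain ⟨k, l, hy⟩ := hd y
    rw [← QuotientGroup.eq_one_iff, ← QuotientGroup.mk'_apply, map_commutatorElement,
      commutatorElement_eq_one_iff_commute, hx, hy]
    exact ((Commute.pow_pow_self _ i k).mul_right (hsb.pow_pow i l)).mul_left
      ((hsb.symm.pow_pow j k).mul_right (Commute.pow_pow_self _ j l))
  · obtain ⟨i, j, hx⟩ := hd x
    rw [← QuotientGroup.eq_one_iff, ← QuotientGroup.mk'_apply, map_pow, hx, (hsb.pow_pow i j).mul_pow,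
      ← pow_mul, ← pow_mul, mul_comm i, mul_comm j, pow_mul, pow_mul]
    have h1 : QuotientGroup.mk' (h.sub (midZero p)) b ^ p = 1 := by
      rw [← map_pow]; exact (QuotientGroup.eq_one_iff _).2 (h.U_le_sub _ (h.pow b h.bE))
    have h2 : QuotientGroup.mk' (h.sub (midZero p)) s ^ p = 1 := by
      rw [← map_pow]
      refine (QuotientGroup.eq_one_iff _).2 ⟨h.pow_mem_E s, ?_⟩
      have h3 := h.co_comm s (h.pow_mem_E s)
      rw [commutatorElement_eq_one_iff_commute.2 ((Commute.refl s).pow_right p), h.co_one, h.rot_s,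
        one_mul] at h3
      exact (congrArg Prod.fst h3).symm
    rw [h1, h2, one_pow, one_pow, one_mul]

end Frame

end Cfsg.Agent.Local.FS.RankThreeNormal
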