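import Cfsg.Agent.Lib.Local.FS.RankThreeTorus

/-!
Groups of linear maps of a three-dimensional space over `ZMod p` with a strongly embedded Sylow
`p`-subgroup: either its elements are transvections, and there is a split configuration of two of
them with a torus, or the group is irreducible.
-/

set_option autoImplicit false

namespace Cfsg.Agent.Local.FS.RankThree

variable {p : ℕ} [hp : Fact p.Prime] {V : Type*} [AddCommGroup V] [Module (ZMod p) V]
  {X : Type*} [Group X] {ρ : X →* (V ≃ₗ[ZMod p] V)} {H T : Subgroup X}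

omit hp in
theorem Emb.exists_outside (hE : Emb p H T) : ∃ γ, γ ∉ H := by
  by_contra h; push Not at h; exact hE.ne_top (eq_top_iff.2 fun x _ => h x)

omit hp in
theorem pow_of_mem_pgroup {P₀ : Subgroup X} (hP₀ : IsPGroup p P₀) {a : X} (ha : a ∈ P₀) :
    ∃ j : ℕ, a ^ p ^ j = 1 := by
  obtain ⟨j, hj⟩ := hP₀ ⟨a, ha⟩
  exact ⟨j, congrArg Subtype.val hj⟩

omit hp in
/-- A conjugate inside `H` of a nontrivial element of `T` comes from inside `H`. -/
theorem Emb.conj_mem (hE : Emb p H T) {a : X} (haT : a ∈ T) (ha1 : a ≠ 1) {γ : X}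
    (h : γ * a * γ⁻¹ ∈ H) : γ ∈ H := by
  obtain ⟨j, hj⟩ := pow_of_mem_pgroup hE.pgroup haT
  obtain ⟨k, hk, hkT⟩ := hE.conj _ h ⟨j, by rw [conj_pow, hj, mul_one, mul_inv_cancel]⟩
  have := hE.tight a haT ha1 (k * γ) (by
    rwa [show k * γ * a * (k * γ)⁻¹ = k * (γ * a * γ⁻¹) * k⁻¹ by group])
  simpa using H.mul_mem (H.inv_mem hk) this

/-- A `p`-subgroup meeting `T` lies in `H`. -/
theorem Emb.pgroup_le [Finite X] (hE : Emb p H T) {P₀ : Subgroup X} (hP₀ : IsPGroup p P₀) {a : X}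
    (haT : a ∈ T) (ha1 : a ≠ 1) (ha : a ∈ P₀) : P₀ ≤ H := by
  by_contra hle
  haveI : Group.IsNilpotent P₀ := hP₀.isNilpotent
  have hne : H.subgroupOf P₀ < ⊤ := lt_top_iff_ne_top.2 fun h => hle (Subgroup.subgroupOf_eq_top.1 h)
  obtain ⟨n, hn, hnH⟩ := SetLike.exists_of_lt (normalizerCondition_of_isNilpotent _ hne)
  have h1 : n * (⟨a, ha⟩ : P₀) * n⁻¹ ∈ H.subgroupOf P₀ :=
    (Subgroup.mem_normalizer_iff.1 hn _).1 (Subgroup.mem_subgroupOf.2 (hE.le haT))
  exact hnH (Subgroup.mem_subgroupOf.2 (hE.conj_mem haT ha1 (Subgroup.mem_subgroupOf.1 h1)))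

variable (ρ) in
/-- The elements acting unipotently on the flag `L ≤ W`. -/
def flag (W L : Submodule (ZMod p) V) (hLW : L ≤ W) : Subgroup X where
  carrier := {x | (∀ v, ρ x v - v ∈ W) ∧ (∀ w ∈ W, ρ x w - w ∈ L) ∧ ∀ l ∈ L, ρ x l = l}
  one_mem' := by
    refine ⟨fun v => ?_, fun w _ => ?_, fun l _ => ?_⟩ <;> simp
  mul_mem' := by
    rintro x y ⟨h1, h2, h3⟩ ⟨k1, k2, k3⟩
    refine ⟨fun v => ?_, fun w hw => ?_, fun l hl => by rw [map_mul_apply, k3 l hl, h3 l hl]⟩
    · have : ρ (x * y) v - v = (ρ x (ρ y v - v) - (ρ y v - v)) + (ρ y v - v) + (ρ x v - v) := by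
        rw [map_mul_apply, map_sub]; abel
      rw [this]
      exact W.add_mem (W.add_mem (h1 _) (k1 v)) (h1 v)
    · have : ρ (x * y) w - w = (ρ x (ρ y w - w) - (ρ y w - w)) + (ρ y w - w) + (ρ x w - w) := by
        rw [map_mul_apply, map_sub]; abel
      rw [this]
      exact L.add_mem (L.add_mem (h2 _ (hLW (k2 w hw))) (k2 w hw)) (h2 w hw)
  inv_mem' := by
    rintro x ⟨h1, h2, h3⟩
    have hi : ∀ l ∈ L, ρ x⁻¹ l = l := fun l hl => by
      conv_lhs => rw [← h3 l hl, map_inv_apply']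
    refine ⟨fun v => ?_, fun w hw => ?_, hi⟩
    · have := W.neg_mem (h1 (ρ x⁻¹ v))
      rwa [map_inv_apply, neg_sub] at this
    · have hwW : ρ x⁻¹ w ∈ W := by
        have hd : ρ x w - w ∈ L := h2 w hw
        have e : ρ x⁻¹ w = w - (ρ x w - w) := by
          conv_rhs => rw [← hi _ hd, map_sub, map_inv_apply']
          abel
        rw [e]
        exact W.sub_mem hw (hLW hd)
      have := L.neg_mem (h2 (ρ x⁻¹ w) hwW)
      rwa [map_inv_apply, neg_sub] at this

theorem flag_pow {W L : Submodule (ZMod p) V} {hLW : L ≤ W} (hp3 : 3 ≤ p)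
    (hρ : Function.Injective ρ) {x : X} (hx : x ∈ flag ρ W L hLW) : x ^ p = 1 := by
  obtain ⟨h1, h2, h3⟩ := hx
  refine hρ (LinearEquiv.ext fun v => ?_)
  obtain ⟨a, ha⟩ : ∃ a, a = ρ x v - v := ⟨_, rfl⟩
  obtain ⟨b, hb⟩ : ∃ b, b = ρ x a - a := ⟨_, rfl⟩
  have hxv : ρ x v = v + a := by rw [ha]; abel
  have hxa : ρ x a = a + b := by rw [hb]; abel
  have hxb : ρ x b = b := h3 b (hb ▸ h2 a (ha ▸ h1 v))
  have key : ∀ m : ℕ, ρ (x ^ m) v = v + (m : ZMod p) • a + (m.choose 2 : ZMod p) • b := by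
    intro m
    induction m with
    | zero => simp
    | succ m ih =>
      rw [pow_succ', map_mul_apply, ih, map_add, map_add, map_smul, map_smul, hxv, hxa, hxb,
        show Nat.choose (m + 1) 2 = m + m.choose 2 by rw [Nat.choose_succ_succ, Nat.choose_one_right],
        Nat.cast_succ, Nat.cast_add]
      simp only [add_smul, one_smul, smul_add]
      abel
  have hc : ((p.choose 2 : ℕ) : ZMod p) = 0 :=
    (ZMod.natCast_eq_zero_iff _ _).2 (hp.out.dvd_choose_self (by norm_num) (by omega))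
  rw [key, ZMod.natCast_self, hc, zero_smul, zero_smul, add_zero, add_zero, map_one]
  rfl

theorem isPGroup_flag {W L : Submodule (ZMod p) V} (hLW : L ≤ W) (hp3 : 3 ≤ p)
    (hρ : Function.Injective ρ) : IsPGroup p (flag ρ W L hLW) := fun x =>
  ⟨1, Subtype.ext (by rw [pow_one]; exact flag_pow hp3 hρ x.2)⟩

/-- Distinct conjugates of an element of `T` are not unipotent on a common flag. -/
theorem Emb.not_flag [Finite X] (hE : Emb p H T) (hρ : Function.Injective ρ) (hp3 : 3 ≤ p)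
    {W L : Submodule (ZMod p) V} (hLW : L ≤ W) {a : X} (haT : a ∈ T) (ha1 : a ≠ 1) {γ : X} (hγ : γ ∉ H)
    (ha : a ∈ flag ρ W L hLW) : γ * a * γ⁻¹ ∉ flag ρ W L hLW := fun h =>
  hγ (hE.conj_mem haT ha1 (hE.pgroup_le (isPGroup_flag hLW hp3 hρ) haT ha1 ha h))

/-- Nothing acts trivially on an invariant subspace and on its quotient. -/
theorem Emb.kernel_eq_one [Finite X] (hE : Emb p H T) (hρ : Function.Injective ρ) (hp3 : 3 ≤ p)
    {W : Submodule (ZMod p) V} (hW : ∀ x : X, ∀ w ∈ W, ρ x w ∈ W) {z : X} (hzT : z ∈ T) (hz1 : z ≠ 1)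
    {x : X} (hx1 : ∀ v, ρ x v - v ∈ W) (hx2 : ∀ w ∈ W, ρ x w = w) : x = 1 := by
  by_contra hx
  obtain ⟨K₀, hK₀⟩ : ∃ K₀, K₀ = flag ρ W W le_rfl := ⟨_, rfl⟩
  have hxK : x ∈ K₀ := hK₀ ▸ ⟨hx1, fun w hw => by rw [hx2 w hw, sub_self]; exact W.zero_mem, hx2⟩
  have hn : K₀.Normal := by
    subst hK₀
    refine ⟨fun n hn g => ?_⟩
    obtain ⟨h1, h2, h3⟩ := hn
    have hfix : ∀ w ∈ W, ρ (g * n * g⁻¹) w = w := fun w hw => by
      rw [map_mul_apply, map_mul_apply, h3 _ (hW _ w hw), map_inv_apply]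
    refine ⟨fun v => ?_, fun w hw => by rw [hfix w hw, sub_self]; exact W.zero_mem, hfix⟩
    have := hW g _ (h1 (ρ g⁻¹ v))
    rwa [map_sub, map_inv_apply, ← map_mul_apply, ← map_mul_apply] at this
  have hsup : IsPGroup p (K₀ ⊔ T : Subgroup X) :=
    (hK₀ ▸ isPGroup_flag le_rfl hp3 hρ : IsPGroup p K₀).to_sup_of_normal_left hE.pgroup
  have hle : K₀ ⊔ T ≤ H := hE.pgroup_le hsup hzT hz1 (Subgroup.mem_sup_right hzT)
  obtain ⟨γ, hγ⟩ := hE.exists_outside
  obtain ⟨j, hj⟩ := pow_of_mem_pgroup (hK₀ ▸ isPGroup_flag le_rfl hp3 hρ : IsPGroup p K₀) hxK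
  obtain ⟨k, _, hkT⟩ := hE.conj x (hle (Subgroup.mem_sup_left hxK)) ⟨j, hj⟩
  have hne : k * x * k⁻¹ ≠ 1 := fun e => hx (conj_eq_one_iff.1 e)
  exact hγ (hE.conj_mem hkT hne (hle (Subgroup.mem_sup_left (hn.conj_mem _ (hn.conj_mem x hxK k) γ))))

/-- Two opposite transvections of a plane give minus the identity. -/
theorem exists_neg {z y : X} {W : Submodule (ZMod p) V} (hzW : ∀ w ∈ W, ρ z w ∈ W)
    (hyW : ∀ w ∈ W, ρ y w ∈ W) {e f : V} {A B : ZMod p} (hA : A ≠ 0) (hB : B ≠ 0)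
    (hze : ρ z e - e ∈ W) (hzf : ρ z f - (f + A • e) ∈ W) (hyf : ρ y f - f ∈ W)
    (hye : ρ y e - (e + B • f) ∈ W) :
    ∃ h ∈ Subgroup.closure ({z, y} : Set X), ρ h e + e ∈ W ∧ ρ h f + f ∈ W := by
  have key : ∀ (x : X) (u v : V) (C : ZMod p), (∀ w ∈ W, ρ x w ∈ W) → ρ x u - u ∈ W →
      ρ x v - (v + C • u) ∈ W → ∀ m : ℕ, (∀ w ∈ W, ρ (x ^ m) w ∈ W) ∧ ρ (x ^ m) u - u ∈ W ∧
        ρ (x ^ m) v - (v + ((m : ZMod p) * C) • u) ∈ W := by
    intro x u v C hxW hu hv m
    induction m with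
    | zero => simp
    | succ m ih =>
      obtain ⟨i1, i2, i3⟩ := ih
      refine ⟨fun w hw => by rw [pow_succ', map_mul_apply]; exact hxW _ (i1 w hw), ?_, ?_⟩
      · have : ρ (x ^ (m + 1)) u - u = ρ x (ρ (x ^ m) u - u) + (ρ x u - u) := by
          rw [pow_succ', map_mul_apply, map_sub]; abel
        rw [this]; exact W.add_mem (hxW _ i2) hu
      · have : ρ (x ^ (m + 1)) v - (v + (((m + 1 : ℕ) : ZMod p) * C) • u) =
            ρ x (ρ (x ^ m) v - (v + ((m : ZMod p) * C) • u)) + (ρ x v - (v + C • u)) +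
              ((m : ZMod p) * C) • (ρ x u - u) := by
          rw [pow_succ', map_mul_apply, map_sub, map_add, map_smul, Nat.cast_succ, add_mul, one_mul,
            add_smul, smul_sub]
          abel
        rw [this]; exact W.add_mem (W.add_mem (hxW _ i3) hv) (W.smul_mem _ hu)
  obtain ⟨a, ha⟩ : ∃ a : ℕ, (a : ZMod p) * A = 1 :=
    ⟨(A⁻¹).val, by rw [ZMod.natCast_zmod_val, inv_mul_cancel₀ hA]⟩
  obtain ⟨b, hb⟩ : ∃ b : ℕ, (b : ZMod p) * B = -1 :=
    ⟨(-B⁻¹).val, by rw [ZMod.natCast_zmod_val, neg_mul, inv_mul_cancel₀ hB]⟩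
  obtain ⟨zW, ze, zf⟩ := key z e f A hzW hze hzf a
  obtain ⟨yW, yf, ye⟩ := key y f e B hyW hyf hye b
  rw [ha, one_smul] at zf
  rw [hb, neg_smul, one_smul] at ye
  obtain ⟨w, hw⟩ : ∃ w, w = z ^ a * y ^ b * z ^ a := ⟨_, rfl⟩
  have hwW : ∀ v ∈ W, ρ w v ∈ W := fun v hv => by
    rw [hw, map_mul_apply, map_mul_apply]; exact zW _ (yW _ (zW _ hv))
  have hwe : ρ w e + f ∈ W := by
    have : ρ w e + f = ρ (z ^ a) (ρ (y ^ b) (ρ (z ^ a) e - e)) + ρ (z ^ a) (ρ (y ^ b) e - (e + -f)) +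
        ((ρ (z ^ a) e - e) - (ρ (z ^ a) f - (f + e))) := by
      rw [hw, map_mul_apply, map_mul_apply]; simp only [map_sub, map_add, map_neg]; abel
    rw [this]
    exact W.add_mem (W.add_mem (zW _ (yW _ ze)) (zW _ ye)) (W.sub_mem ze zf)
  have hwf : ρ w f - e ∈ W := by
    have : ρ w f - e = ρ (z ^ a) (ρ (y ^ b) (ρ (z ^ a) f - (f + e))) + ρ (z ^ a) (ρ (y ^ b) f - f) +
        ρ (z ^ a) (ρ (y ^ b) e - (e + -f)) + (ρ (z ^ a) e - e) := by
      rw [hw, map_mul_apply, map_mul_apply]; simp only [map_sub, map_add, map_neg]; abel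
    rw [this]
    exact W.add_mem (W.add_mem (W.add_mem (zW _ (yW _ zf)) (zW _ yf)) (zW _ ye)) ze
  have hwmem : w ∈ Subgroup.closure ({z, y} : Set X) := by
    have hz : z ∈ Subgroup.closure ({z, y} : Set X) := Subgroup.subset_closure (Set.mem_insert _ _)
    have hy : y ∈ Subgroup.closure ({z, y} : Set X) :=
      Subgroup.subset_closure (Set.mem_insert_of_mem _ rfl)
    rw [hw]
    exact mul_mem (mul_mem (pow_mem hz a) (pow_mem hy b)) (pow_mem hz a)
  refine ⟨w * w, mul_mem hwmem hwmem, ?_, ?_⟩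
  · have : ρ (w * w) e + e = ρ w (ρ w e + f) - (ρ w f - e) := by
      rw [map_mul_apply, map_add]; abel
    rw [this]; exact W.sub_mem (hwW _ hwe) hwf
  · have : ρ (w * w) f + f = ρ w (ρ w f - e) + (ρ w e + f) := by
      rw [map_mul_apply, map_sub]; abel
    rw [this]; exact W.add_mem (hwW _ hwf) hwe

/-- Outside the transvection case the group is irreducible. -/
theorem Emb.irreducible [Finite X] [Finite V] (hE : Emb p H T) (hρ : Function.Injective ρ)
    (hV : Nat.card V = p ^ 3) (hp3 : 3 ≤ p) {z : X} (hzT : z ∈ T) (hz1 : z ≠ 1)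
    (hnt : ¬ ∃ φ c, Tv ρ z φ c) {W : Submodule (ZMod p) V}
    (hW : ∀ x : X, ∀ w ∈ W, ρ x w ∈ W) : W = ⊥ ∨ W = ⊤ := by
  classical
  have hp' := hp.out
  haveI : Fintype V := Fintype.ofFinite V
  have hfr : Module.finrank (ZMod p) V = 3 := by
    have := Module.card_eq_pow_finrank (K := ZMod p) (V := V)
    rw [ZMod.card, ← Nat.card_eq_fintype_card, hV] at this
    exact (Nat.pow_right_injective hp'.two_le this).symm
  have hzp : z ^ p = 1 := by
    have h1 : orderOf z ∣ Nat.card T := by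
      have := orderOf_dvd_natCard (⟨z, hzT⟩ : T)
      rwa [Subgroup.orderOf_mk] at this
    obtain ⟨i, hi⟩ := IsPGroup.iff_card.1 hE.pgroup
    have h2 := hE.card_le hρ hV
    rw [hi] at h1 h2
    have hi1 : i ≤ 1 := (Nat.pow_le_pow_iff_right hp'.one_lt).1 (by rwa [pow_one])
    exact orderOf_dvd_iff_pow_eq_one.1 (h1.trans ((pow_dvd_pow p hi1).trans (by rw [pow_one])))
  obtain ⟨Fz, hFz⟩ : ∃ Fz : Submodule (ZMod p) V, ∀ v, v ∈ Fz ↔ ρ z v = v :=
    ⟨LinearMap.eqLocus (ρ z).toLinearMap LinearMap.id, fun v => Iff.rfl⟩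
  have hFne : Fz ≠ ⊤ := fun h => hz1 (hρ (LinearEquiv.ext fun v => by
    rw [(hFz v).1 (h ▸ Submodule.mem_top), map_one]; rfl))
  have hTfix : ∀ u ∈ Subgroup.zpowers z, ∀ w ∈ Fz, ρ u w = w := by
    intro u hu w hw
    obtain ⟨m, rfl⟩ := mem_powers_iff_mem_zpowers.2 hu
    show ρ (z ^ m) w = w
    clear hu
    induction m with
    | zero => simp
    | succ m ih => rw [pow_succ', map_mul_apply, ih, (hFz w).1 hw]
  have hzpg : IsPGroup p (Subgroup.zpowers z) := hE.pgroup.to_le (Subgroup.zpowers_le.2 hzT)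
  -- the fixed space is a line
  obtain ⟨c, hc0, hc⟩ := exists_fixed hzpg (⊥ : Submodule (ZMod p) V)
    (fun u _ w hw => by rw [Submodule.mem_bot] at hw ⊢; rw [hw, map_zero]) (by
      intro h
      have := finrank_bot (ZMod p) V
      rw [h, finrank_top] at this; omega)
  rw [Submodule.mem_bot] at hc0
  have hzc : ρ z c = c := by
    have := hc z (Subgroup.mem_zpowers z)
    rwa [Submodule.mem_bot, sub_eq_zero] at this
  have hline : ∀ v, ρ z v = v → ∃ a : ZMod p, v = a • c := by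
    intro v hv
    by_contra hno
    push Not at hno
    apply hnt
    have hr : 2 ≤ Module.finrank (ZMod p) Fz := by
      by_contra hlt
      have h1 : Submodule.span (ZMod p) {c} ≤ Fz :=
        (Submodule.span_singleton_le_iff_mem _ _).2 ((hFz c).2 hzc)
      have h2 : Module.finrank (ZMod p) (Submodule.span (ZMod p) {c}) = 1 := finrank_span_singleton hc0
      have h3 := Submodule.eq_of_le_of_finrank_le h1 (by omega)
      obtain ⟨a, ha⟩ := Submodule.mem_span_singleton.1 (h3 ▸ (hFz v).2 hv : v ∈ Submodule.span (ZMod p) {c})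
      exact hno a ha.symm
    obtain ⟨f, hf⟩ : ∃ f, f ∉ Fz := by
      by_contra h; push Not at h; exact hFne (eq_top_iff.2 fun v _ => h v)
    have htop : Fz ⊔ Submodule.span (ZMod p) {f} = ⊤ := by
      refine Submodule.eq_top_of_finrank_eq (le_antisymm (Submodule.finrank_le _) ?_)
      have hlt : Fz < Fz ⊔ Submodule.span (ZMod p) {f} := lt_of_le_of_ne le_sup_left fun h => hf (h ▸
        Submodule.mem_sup_right (Submodule.mem_span_singleton_self f))
      have := Submodule.finrank_lt_finrank_of_lt hlt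
      omega
    obtain ⟨φ, hφ, -⟩ := exists_tv (ρ := ρ) hzp hFz hf fun w => by
      obtain ⟨x, hx, y, hy, rfl⟩ := Submodule.mem_sup.1 (htop.ge (Submodule.mem_top (x := w)))
      obtain ⟨r, rfl⟩ := Submodule.mem_span_singleton.1 hy
      exact ⟨r, by simpa using hx⟩
    exact ⟨φ, _, hφ⟩
  -- a Jordan basis
  obtain ⟨L₁, hL₁⟩ : ∃ L₁ : Submodule (ZMod p) V, L₁ = Submodule.span (ZMod p) {c} := ⟨_, rfl⟩
  have hL₁F : L₁ ≤ Fz := hL₁ ▸ (Submodule.span_singleton_le_iff_mem _ _).2 ((hFz c).2 hzc)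
  have hL₁r : Module.finrank (ZMod p) L₁ = 1 := hL₁ ▸ finrank_span_singleton hc0
  obtain ⟨d, hd0, hd⟩ := exists_fixed hzpg L₁ (fun u hu w hw => by rwa [hTfix u hu w (hL₁F hw)]) (by
    intro h; rw [h, finrank_top] at hL₁r; omega)
  obtain ⟨α, hα⟩ := Submodule.mem_span_singleton.1 (hL₁ ▸ hd z (Subgroup.mem_zpowers z))
  have hα0 : α ≠ 0 := fun h => by
    rw [h, zero_smul, eq_comm, sub_eq_zero] at hα
    obtain ⟨a, ha⟩ := hline d hα
    exact hd0 (hL₁ ▸ Submodule.mem_span_singleton.2 ⟨a, ha.symm⟩)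
  obtain ⟨e, he⟩ : ∃ e, e = α⁻¹ • d := ⟨_, rfl⟩
  have hze : ρ z e = e + c := by
    rw [he, map_smul, show ρ z d = d + α • c by rw [hα]; abel, smul_add, smul_smul, inv_mul_cancel₀ hα0,
      one_smul]
  obtain ⟨W₂, hW₂⟩ : ∃ W₂ : Submodule (ZMod p) V, W₂ = L₁ ⊔ Submodule.span (ZMod p) {e} := ⟨_, rfl⟩
  have hcW₂ : c ∈ W₂ := hW₂ ▸ Submodule.mem_sup_left (hL₁ ▸ Submodule.mem_span_singleton_self c)
  have heW₂ : e ∈ W₂ := hW₂ ▸ Submodule.mem_sup_right (Submodule.mem_span_singleton_self e)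
  have hmemW₂ : ∀ w, w ∈ W₂ ↔ ∃ a b : ZMod p, w = a • c + b • e := by
    intro w
    constructor
    · intro hw
      obtain ⟨x, hx, y, hy, rfl⟩ := Submodule.mem_sup.1 (hW₂ ▸ hw)
      obtain ⟨a, rfl⟩ := Submodule.mem_span_singleton.1 (hL₁ ▸ hx)
      obtain ⟨b, rfl⟩ := Submodule.mem_span_singleton.1 hy
      exact ⟨a, b, rfl⟩
    · rintro ⟨a, b, rfl⟩
      exact W₂.add_mem (W₂.smul_mem _ hcW₂) (W₂.smul_mem _ heW₂)
  have hzW₂ : ∀ w ∈ W₂, ρ z w ∈ W₂ := by
    intro w hw
    obtain ⟨a, b, rfl⟩ := (hmemW₂ w).1 hw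
    rw [map_add, map_smul, map_smul, hzc, hze]
    exact W₂.add_mem (W₂.smul_mem _ hcW₂) (W₂.smul_mem _ (W₂.add_mem heW₂ hcW₂))
  have hW₂r : Module.finrank (ZMod p) W₂ ≤ 2 := by
    have h1 := Submodule.finrank_add_le_finrank_add_finrank L₁ (Submodule.span (ZMod p) {e})
    have he0 : e ≠ 0 := fun h => hc0 (by
      have := hze; rw [h, map_zero, zero_add] at this; exact this.symm)
    rw [← hW₂, hL₁r, finrank_span_singleton he0] at h1
    exact h1
  obtain ⟨f₁, hf₁, hf₁'⟩ := exists_fixed hzpg W₂ (fun u hu w hw => by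
    obtain ⟨m, rfl⟩ := mem_powers_iff_mem_zpowers.2 hu
    show ρ (z ^ m) w ∈ W₂
    clear hu
    induction m with
    | zero => simpa using hw
    | succ m ih => rw [pow_succ', map_mul_apply]; exact hzW₂ _ ih) (by
    intro h; rw [h, finrank_top] at hW₂r; omega)
  obtain ⟨a₁, b₁, hab₁⟩ := (hmemW₂ _).1 (hf₁' z (Subgroup.mem_zpowers z))
  have hzf₁ : ρ z f₁ = f₁ + a₁ • c + b₁ • e := by rw [add_assoc, ← hab₁]; abel
  have hb₁ : b₁ ≠ 0 := fun h => by
    obtain ⟨a, ha⟩ := hline (f₁ - a₁ • e) (by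
      rw [map_sub, map_smul, hzf₁, hze, h, zero_smul, add_zero, smul_add]; abel)
    exact hf₁ ((hmemW₂ _).2 ⟨a, a₁, by rw [← ha]; abel⟩)
  obtain ⟨f, hf⟩ : ∃ f, f = b₁⁻¹ • (f₁ - a₁ • e) := ⟨_, rfl⟩
  have hzf : ρ z f = f + e := by
    rw [hf, map_smul, map_sub, map_smul, hzf₁, hze,
      show f₁ + a₁ • c + b₁ • e - a₁ • (e + c) = (f₁ - a₁ • e) + b₁ • e by rw [smul_add]; abel,
      smul_add, smul_smul, inv_mul_cancel₀ hb₁, one_smul]
  have hfW₂ : f ∉ W₂ := fun h => hf₁ (by
    have h1 := W₂.add_mem (W₂.smul_mem b₁ h) (W₂.smul_mem a₁ heW₂)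
    rwa [hf, smul_smul, mul_inv_cancel₀ hb₁, one_smul, sub_add_cancel] at h1)
  have hspan : ∀ v, ∃ a b r : ZMod p, v = a • c + b • e + r • f := by
    have htop : W₂ ⊔ Submodule.span (ZMod p) {f} = ⊤ := by
      refine Submodule.eq_top_of_finrank_eq (le_antisymm (Submodule.finrank_le _) ?_)
      have hlt : W₂ < W₂ ⊔ Submodule.span (ZMod p) {f} := lt_of_le_of_ne le_sup_left fun h =>
        hfW₂ (h ▸ Submodule.mem_sup_right (Submodule.mem_span_singleton_self f))
      have hlt' : L₁ < W₂ := lt_of_le_of_ne (hW₂ ▸ le_sup_left) fun h => by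
        obtain ⟨a, ha⟩ := Submodule.mem_span_singleton.1 (hL₁ ▸ h ▸ heW₂)
        have h0 := hze
        rw [← ha, map_smul, hzc] at h0
        exact hc0 (by simpa using h0)
      have := Submodule.finrank_lt_finrank_of_lt hlt
      have := Submodule.finrank_lt_finrank_of_lt hlt'
      omega
    intro v
    obtain ⟨x, hx, y, hy, rfl⟩ := Submodule.mem_sup.1 (htop.ge (Submodule.mem_top (x := v)))
    obtain ⟨r, rfl⟩ := Submodule.mem_span_singleton.1 hy
    obtain ⟨a, b, rfl⟩ := (hmemW₂ x).1 hx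
    exact ⟨a, b, r, rfl⟩
  have hind : ∀ a b r : ZMod p, a • c + b • e + r • f = 0 → a = 0 ∧ b = 0 ∧ r = 0 := by
    intro a b r h
    have h1 : b • c + r • e = 0 := by
      have := congrArg (ρ z) h
      rw [map_zero, map_add, map_add, map_smul, map_smul, map_smul, hzc, hze, hzf, smul_add, smul_add] at this
      linear_combination (norm := abel) this - h
    have h2 : r • c = 0 := by
      have := congrArg (ρ z) h1
      rw [map_zero, map_add, map_smul, map_smul, hzc, hze, smul_add] at this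
      linear_combination (norm := abel) this - h1
    have hr := (smul_eq_zero.1 h2).resolve_right hc0
    subst hr
    rw [zero_smul, add_zero] at h1
    have hb := (smul_eq_zero.1 h1).resolve_right hc0
    subst hb
    rw [zero_smul, zero_smul, add_zero, add_zero] at h
    exact ⟨(smul_eq_zero.1 h).resolve_right hc0, rfl, rfl⟩
  have he0 : e ≠ 0 := fun h => by
    have := (hind 0 1 0 (by simp [h])).2.1
    exact one_ne_zero this
  by_contra hcon
  push Not at hcon
  obtain ⟨hWb, hWt⟩ := hcon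
  have hN : ∀ v ∈ W, ρ z v - v ∈ W := fun v hv => W.sub_mem (hW z v hv) hv
  have hWf : ∀ w ∈ W, ∀ a b r : ZMod p, w = a • c + b • e + r • f → r = 0 := by
    intro w hw a b r hr
    by_contra hr0
    have h1 : b • c + r • e ∈ W := by
      have := hN w hw
      rwa [hr, map_add, map_add, map_smul, map_smul, map_smul, hzc, hze, hzf, smul_add, smul_add,
        show a • c + (b • e + b • c) + (r • f + r • e) - (a • c + b • e + r • f) = b • c + r • e by abel] at this
    have h2 : c ∈ W := by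
      have := hN _ h1
      rw [map_add, map_smul, map_smul, hzc, hze, smul_add,
        show b • c + (r • e + r • c) - (b • c + r • e) = r • c by abel] at this
      simpa [smul_smul, inv_mul_cancel₀ hr0] using W.smul_mem r⁻¹ this
    have h3 : e ∈ W := by
      have := W.sub_mem h1 (W.smul_mem b h2)
      rw [add_sub_cancel_left] at this
      simpa [smul_smul, inv_mul_cancel₀ hr0] using W.smul_mem r⁻¹ this
    have h4 : f ∈ W := by
      have := W.sub_mem hw (W.add_mem (W.smul_mem a h2) (W.smul_mem b h3))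
      rw [hr, add_sub_cancel_left] at this
      simpa [smul_smul, inv_mul_cancel₀ hr0] using W.smul_mem r⁻¹ this
    refine hWt (eq_top_iff.2 fun v _ => ?_)
    obtain ⟨i, j, k, rfl⟩ := hspan v
    exact W.add_mem (W.add_mem (W.smul_mem _ h2) (W.smul_mem _ h3)) (W.smul_mem _ h4)
  have hWle : W ≤ W₂ := fun w hw => by
    obtain ⟨a, b, r, hr⟩ := hspan w
    exact (hmemW₂ w).2 ⟨a, b, by rw [hr, hWf w hw a b r hr, zero_smul, add_zero]⟩
  have hcW : c ∈ W := by
    obtain ⟨w, hw, hw0⟩ := Submodule.exists_mem_ne_zero_of_ne_bot hWb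
    obtain ⟨a, b, hab⟩ := (hmemW₂ w).1 (hWle hw)
    by_cases hb : b = 0
    · rw [hab, hb, zero_smul, add_zero] at hw hw0
      have ha : a ≠ 0 := fun h => hw0 (by rw [h, zero_smul])
      simpa [smul_smul, inv_mul_cancel₀ ha] using W.smul_mem a⁻¹ hw
    · have := hN w hw
      rw [hab, map_add, map_smul, map_smul, hzc, hze, smul_add,
        show a • c + (b • e + b • c) - (a • c + b • e) = b • c by abel] at this
      simpa [smul_smul, inv_mul_cancel₀ hb] using W.smul_mem b⁻¹ this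
  obtain ⟨γ, hγ⟩ := hE.exists_outside
  obtain ⟨y, hy⟩ : ∃ y, y = γ * z * γ⁻¹ := ⟨_, rfl⟩
  have hyc : ρ y (ρ γ c) = ρ γ c := by
    rw [hy, map_mul_apply, map_mul_apply, map_inv_apply', hzc]
  have hye : ρ y (ρ γ e) = ρ γ e + ρ γ c := by
    rw [hy, map_mul_apply, map_mul_apply, map_inv_apply', hze, map_add]
  have hyf : ρ y (ρ γ f) = ρ γ f + ρ γ e := by
    rw [hy, map_mul_apply, map_mul_apply, map_inv_apply', hzf, map_add]
  have hγspan : ∀ v, ∃ a b r : ZMod p, v = a • ρ γ c + b • ρ γ e + r • ρ γ f := by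
    intro v
    obtain ⟨a, b, r, h⟩ := hspan (ρ γ⁻¹ v)
    refine ⟨a, b, r, ?_⟩
    rw [← map_inv_apply γ v (ρ := ρ), h, map_add, map_add, map_smul, map_smul, map_smul]
  have htwo : (1 : ZMod p) + 1 ≠ 0 := by
    rw [show (1 : ZMod p) + 1 = ((2 : ℕ) : ZMod p) by norm_num, Ne, ZMod.natCast_eq_zero_iff]
    exact fun h => absurd (Nat.le_of_dvd (by norm_num) h) (by omega)
  by_cases heW : e ∈ W
  · -- an invariant plane
    have hWW : W = W₂ := le_antisymm hWle fun w hw => by
      obtain ⟨a, b, rfl⟩ := (hmemW₂ w).1 hw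
      exact W.add_mem (W.smul_mem a hcW) (W.smul_mem b heW)
    subst hWW
    obtain ⟨α₀, β, hf₀⟩ := (hmemW₂ _).1 (hW γ c hcW)
    have hL₁W : L₁ ≤ W := hL₁ ▸ (Submodule.span_singleton_le_iff_mem _ _).2 hcW
    have hzv : ∀ v, ρ z v - v ∈ W := fun v => by
      obtain ⟨a, b, r, rfl⟩ := hspan v
      rw [map_add, map_add, map_smul, map_smul, map_smul, hzc, hze, hzf, smul_add, smul_add]
      have := W.add_mem (W.smul_mem b hcW) (W.smul_mem r heW)
      convert this using 1
      abel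
    have hyv : ∀ v, ρ y v - v ∈ W := fun v => by
      obtain ⟨a, b, r, rfl⟩ := hγspan v
      rw [map_add, map_add, map_smul, map_smul, map_smul, hyc, hye, hyf, smul_add, smul_add]
      have := W.add_mem (W.smul_mem b (hW γ c hcW)) (W.smul_mem r (hW γ e heW))
      convert this using 1
      abel
    have hWγ : ∀ w ∈ W, ∃ a b : ZMod p, w = a • ρ γ c + b • ρ γ e := by
      intro w hw
      obtain ⟨a, b, h⟩ := (hmemW₂ _).1 (hW γ⁻¹ w hw)
      refine ⟨a, b, ?_⟩
      rw [← map_inv_apply γ w (ρ := ρ), h, map_add, map_smul, map_smul]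
    have hβ : β ≠ 0 := fun h => by
      have hγL : ρ γ c ∈ L₁ := hL₁ ▸ Submodule.mem_span_singleton.2 ⟨α₀, by rw [hf₀, h]; simp⟩
      refine hE.not_flag hρ hp3 hL₁W hzT hz1 hγ ⟨hzv, fun w hw => ?_, fun l hl => ?_⟩
        (hy ▸ ⟨hyv, fun w hw => ?_, fun l hl => ?_⟩)
      · obtain ⟨a, b, rfl⟩ := (hmemW₂ w).1 hw
        rw [map_add, map_smul, map_smul, hzc, hze, smul_add,
          show a • c + (b • e + b • c) - (a • c + b • e) = b • c by abel]
        exact L₁.smul_mem b (hL₁ ▸ Submodule.mem_span_singleton_self c)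
      · obtain ⟨a, rfl⟩ := Submodule.mem_span_singleton.1 (hL₁ ▸ hl)
        rw [map_smul, hzc]
      · obtain ⟨a, b, rfl⟩ := hWγ w hw
        rw [map_add, map_smul, map_smul, hyc, hye, smul_add,
          show a • ρ γ c + (b • ρ γ e + b • ρ γ c) - (a • ρ γ c + b • ρ γ e) = b • ρ γ c by abel]
        exact L₁.smul_mem b hγL
      · obtain ⟨a, rfl⟩ := Submodule.mem_span_singleton.1 (hL₁ ▸ hl)
        have hα1 : α₀ ≠ 0 := fun h0 => hc0 (by
          rw [← map_inv_apply' γ c (ρ := ρ), hf₀, h0, h]; simp)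
        have h1 : ρ y c = c := by
          have h2 := hyc
          rw [hf₀, h, zero_smul, add_zero, map_smul] at h2
          exact smul_right_injective V hα1 h2
        rw [map_smul, h1]
    obtain ⟨α', δ, hcδ⟩ := hWγ c hcW
    have hδ : δ ≠ 0 := fun h => by
      rw [h, zero_smul, add_zero, hf₀, smul_add, smul_smul, smul_smul] at hcδ
      have h2 := hind (1 - α' * α₀) (-(α' * β)) 0 (by
        rw [sub_smul, one_smul, neg_smul, zero_smul, add_zero]
        linear_combination (norm := abel) hcδ)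
      have hα'0 : α' = 0 := by
        rcases mul_eq_zero.1 (neg_eq_zero.1 h2.2.1) with h3 | h3
        · exact h3
        · exact absurd h3 hβ
      rw [hα'0, zero_mul, sub_zero] at h2
      exact one_ne_zero h2.1
    obtain ⟨h, hh, hhe, hhf⟩ := exists_neg (W := (⊥ : Submodule (ZMod p) V)) (z := z) (y := y)
      (e := c) (f := ρ γ c) (fun w hw => by rw [Submodule.mem_bot] at hw ⊢; rw [hw, map_zero])
      (fun w hw => by rw [Submodule.mem_bot] at hw ⊢; rw [hw, map_zero]) hβ hδ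
      (by rw [Submodule.mem_bot, hzc, sub_self])
      (by
        rw [Submodule.mem_bot, sub_eq_zero, hf₀, map_add, map_smul, map_smul, hzc, hze, smul_add]
        abel)
      (by rw [Submodule.mem_bot, hyc, sub_self])
      (by
        rw [Submodule.mem_bot, sub_eq_zero]
        conv_lhs => rw [hcδ]
        conv_rhs => enter [1]; rw [hcδ]
        rw [map_add, map_smul, map_smul, hyc, hye, smul_add]
        abel)
    rw [Submodule.mem_bot, add_eq_zero_iff_eq_neg] at hhe hhf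
    have hhe' : ρ h e = -e := by
      have h1 := hhf
      rw [hf₀, map_add, map_smul, map_smul, hhe, smul_neg, neg_add, add_right_inj, ← smul_neg] at h1
      exact smul_right_injective V hβ h1
    have hhW : ∀ w ∈ W, ρ h w = -w := by
      intro w hw
      obtain ⟨a, b, rfl⟩ := (hmemW₂ w).1 hw
      rw [map_add, map_smul, map_smul, hhe, hhe', smul_neg, smul_neg, neg_add]
    have hhv : ∀ v, ρ h v - v ∈ W := by
      have : ∀ x ∈ Subgroup.closure ({z, y} : Set X), ∀ v, ρ x v - v ∈ W := by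
        intro x hx
        induction hx using Subgroup.closure_induction with
        | mem x hx => rcases hx with rfl | rfl; exacts [hzv, hyv]
        | one => intro v; simp
        | mul a b _ _ iha ihb =>
          intro v
          have e1 : ρ (a * b) v - v = (ρ a (ρ b v) - ρ b v) + (ρ b v - v) := by rw [map_mul_apply]; abel
          rw [e1]; exact W.add_mem (iha _) (ihb v)
        | inv a _ iha =>
          intro v
          have := W.neg_mem (iha (ρ a⁻¹ v))
          rwa [map_inv_apply, neg_sub] at this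
      exact this h hh
    have hcomm : h * z * h⁻¹ * z⁻¹ = 1 := by
      refine hE.kernel_eq_one hρ hp3 hW hzT hz1 (fun v => ?_) fun w hw => ?_
      · have hall : ∀ x ∈ Subgroup.closure ({z, h} : Set X), ∀ v, ρ x v - v ∈ W := by
          intro x hx
          induction hx using Subgroup.closure_induction with
          | mem x hx => rcases hx with rfl | rfl; exacts [hzv, hhv]
          | one => intro v; simp
          | mul a b _ _ iha ihb =>
            intro v
            have e1 : ρ (a * b) v - v = (ρ a (ρ b v) - ρ b v) + (ρ b v - v) := by rw [map_mul_apply]; abel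
            rw [e1]; exact W.add_mem (iha _) (ihb v)
          | inv a _ iha =>
            intro v
            have := W.neg_mem (iha (ρ a⁻¹ v))
            rwa [map_inv_apply, neg_sub] at this
        have hz' : z ∈ Subgroup.closure ({z, h} : Set X) := Subgroup.subset_closure (Set.mem_insert _ _)
        have hh' : h ∈ Subgroup.closure ({z, h} : Set X) :=
          Subgroup.subset_closure (Set.mem_insert_of_mem _ rfl)
        exact hall _ (mul_mem (mul_mem (mul_mem hh' hz') (inv_mem hh')) (inv_mem hz')) v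
      · have hinv : ∀ u ∈ W, ρ h⁻¹ u = -u := fun u hu => by
          conv_lhs => rw [← neg_neg u, map_neg, ← hhW u hu, map_inv_apply']
        rw [map_mul_apply, map_mul_apply, map_mul_apply, hinv _ (hW _ w hw), map_neg, map_neg,
          map_inv_apply, hhW w hw, neg_neg]
    have hhz : ∀ v, ρ h (ρ z v) = ρ z (ρ h v) := fun v => by
      rw [← map_mul_apply, ← map_mul_apply]
      congr 2
      rw [mul_inv_eq_one, mul_inv_eq_iff_eq_mul] at hcomm
      exact hcomm
    obtain ⟨a, b, hab⟩ := (hmemW₂ _).1 (hhv f)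
    have hhf' : ρ h f = f + a • c + b • e := by rw [add_assoc, ← hab]; abel
    have h1 := hhz f
    rw [hzf, map_add, hhf', hhe', map_add, map_add, map_smul, map_smul, hzf, hzc, hze, smul_add] at h1
    have h2 := hind b (1 + 1) 0 (by
      rw [add_smul, one_smul, zero_smul, add_zero]
      linear_combination (norm := abel) -h1)
    exact htwo h2.2.1
  · -- an invariant line
    have hWL : ∀ w ∈ W, ∃ a : ZMod p, w = a • c := by
      intro w hw
      obtain ⟨a, b, hab⟩ := (hmemW₂ w).1 (hWle hw)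
      by_cases hb : b = 0
      · exact ⟨a, by rw [hab, hb, zero_smul, add_zero]⟩
      · exfalso
        refine heW ?_
        have := W.sub_mem hw (W.smul_mem a hcW)
        rw [hab, add_sub_cancel_left] at this
        simpa [smul_smul, inv_mul_cancel₀ hb] using W.smul_mem b⁻¹ this
    obtain ⟨κ, hκ⟩ := hWL _ (hW γ c hcW)
    have hκ0 : κ ≠ 0 := fun h => hc0 (by
      rw [← map_inv_apply' γ c (ρ := ρ), hκ, h]; simp)
    have hyc' : ρ y c = c := by
      have h2 := hyc
      rw [hκ, map_smul] at h2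
      exact smul_right_injective V hκ0 h2
    have hfixW : ∀ x ∈ Subgroup.closure ({z, y} : Set X), ρ x c = c := by
      intro x hx
      induction hx using Subgroup.closure_induction with
      | mem x hx => rcases hx with rfl | rfl; exacts [hzc, hyc']
      | one => simp
      | mul a b _ _ iha ihb => rw [map_mul_apply, ihb, iha]
      | inv a _ iha => conv_lhs => rw [← iha, map_inv_apply']
    obtain ⟨a₀, b₀, r₀, hf₀⟩ := hspan (ρ γ e)
    have hr₀ : r₀ ≠ 0 := fun h => by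
      have hγe : ρ γ e ∈ W₂ := (hmemW₂ _).2 ⟨a₀, b₀, by rw [hf₀, h, zero_smul, add_zero]⟩
      have hγc : ρ γ c ∈ W₂ := hWle (hW γ c hcW)
      have hW₂γ : ∀ w ∈ W₂, ∃ a b : ZMod p, w = a • ρ γ c + b • ρ γ e := by
        have hle : Submodule.map (ρ γ).toLinearMap W₂ ≤ W₂ := by
          rintro _ ⟨w, hw, rfl⟩
          obtain ⟨a, b, rfl⟩ := (hmemW₂ w).1 hw
          show ρ γ _ ∈ W₂
          rw [map_add, map_smul, map_smul]
          exact W₂.add_mem (W₂.smul_mem _ hγc) (W₂.smul_mem _ hγe)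
        have heq := Submodule.eq_of_le_of_finrank_le hle (by
          rw [LinearEquiv.finrank_map_eq])
        intro w hw
        rw [← heq] at hw
        obtain ⟨u, hu, rfl⟩ := hw
        obtain ⟨a, b, rfl⟩ := (hmemW₂ u).1 hu
        exact ⟨a, b, by show ρ γ _ = _; rw [map_add, map_smul, map_smul]⟩
      have hcL : ∀ t : ZMod p, t • c ∈ L₁ := fun t =>
        hL₁ ▸ Submodule.mem_span_singleton.2 ⟨t, rfl⟩
      refine hE.not_flag hρ hp3 (hW₂ ▸ le_sup_left : L₁ ≤ W₂) hzT hz1 hγ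
        ⟨fun v => ?_, fun w hw => ?_, fun l hl => ?_⟩ (hy ▸ ⟨fun v => ?_, fun w hw => ?_, fun l hl => ?_⟩)
      · obtain ⟨a, b, r, rfl⟩ := hspan v
        rw [map_add, map_add, map_smul, map_smul, map_smul, hzc, hze, hzf, smul_add, smul_add]
        exact (hmemW₂ _).2 ⟨b, r, by abel⟩
      · obtain ⟨a, b, rfl⟩ := (hmemW₂ w).1 hw
        rw [map_add, map_smul, map_smul, hzc, hze, smul_add,
          show a • c + (b • e + b • c) - (a • c + b • e) = b • c by abel]
        exact hcL b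
      · obtain ⟨a, rfl⟩ := Submodule.mem_span_singleton.1 (hL₁ ▸ hl)
        rw [map_smul, hzc]
      · obtain ⟨a, b, r, rfl⟩ := hγspan v
        rw [map_add, map_add, map_smul, map_smul, map_smul, hyc, hye, hyf, smul_add, smul_add]
        have := W₂.add_mem (W₂.smul_mem b hγc) (W₂.smul_mem r hγe)
        convert this using 1
        abel
      · obtain ⟨a, b, rfl⟩ := hW₂γ w hw
        rw [map_add, map_smul, map_smul, hyc, hye, smul_add,
          show a • ρ γ c + (b • ρ γ e + b • ρ γ c) - (a • ρ γ c + b • ρ γ e) = b • ρ γ c by abel, hκ, smul_smul]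
        exact hcL _
      · obtain ⟨a, rfl⟩ := Submodule.mem_span_singleton.1 (hL₁ ▸ hl)
        rw [map_smul, hyc']
    obtain ⟨α', β', δ, heδ⟩ := hγspan e
    have hδ : δ ≠ 0 := fun h => by
      rw [h, zero_smul, add_zero, hκ, hf₀, smul_smul, smul_add, smul_add, smul_smul, smul_smul,
        smul_smul] at heδ
      have h2 := hind (α' * κ + β' * a₀) (β' * b₀ - 1) (β' * r₀) (by
        rw [add_smul, sub_smul, one_smul]
        linear_combination (norm := abel) -heδ)
      have h3 := h2.2.1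
      rw [(mul_eq_zero.1 h2.2.2).resolve_right hr₀, zero_mul, zero_sub] at h3
      exact one_ne_zero (neg_eq_zero.1 h3)
    obtain ⟨h, hh, hhe, hhf⟩ := exists_neg (W := W) (z := z) (y := y) (e := e) (f := ρ γ e)
      (hW z) (hW y) hr₀ hδ
      (by rw [hze, add_sub_cancel_left]; exact hcW)
      (by
        rw [hf₀, map_add, map_add, map_smul, map_smul, map_smul, hzc, hze, hzf, smul_add, smul_add,
          show a₀ • c + (b₀ • e + b₀ • c) + (r₀ • f + r₀ • e) - (a₀ • c + b₀ • e + r₀ • f + r₀ • e) =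
            b₀ • c by abel]
        exact W.smul_mem _ hcW)
      (by rw [hye, add_sub_cancel_left]; exact hW γ c hcW)
      (by
        have h1 : ρ y e - (e + δ • ρ γ e) = β' • ρ γ c := by
          have h2 := congrArg (ρ y) heδ
          rw [map_add, map_add, map_smul, map_smul, map_smul, hyc, hye, hyf, smul_add, smul_add] at h2
          linear_combination (norm := abel) h2 - heδ
        rw [h1]
        exact W.smul_mem _ (hW γ c hcW))
    have hhc : ρ h c = c := hfixW h hh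
    have hneg : ∀ v, ρ h v + v ∈ W := by
      intro v
      obtain ⟨a, b, r, rfl⟩ := hspan v
      have hf' : ρ h f + f ∈ W := by
        have h1 : r₀ • (ρ h f + f) = (ρ h (ρ γ e) + ρ γ e) - a₀ • (ρ h c + c) - b₀ • (ρ h e + e) := by
          rw [hf₀, map_add, map_add, map_smul, map_smul, map_smul, smul_add, smul_add, smul_add]
          abel
        have h2 : r₀ • (ρ h f + f) ∈ W := by
          rw [h1]
          exact W.sub_mem (W.sub_mem hhf (W.smul_mem _ (by rw [hhc]; exact W.add_mem hcW hcW)))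
            (W.smul_mem _ hhe)
        simpa [smul_smul, inv_mul_cancel₀ hr₀] using W.smul_mem r₀⁻¹ h2
      have : ρ h (a • c + b • e + r • f) + (a • c + b • e + r • f) =
          a • (ρ h c + c) + b • (ρ h e + e) + r • (ρ h f + f) := by
        rw [map_add, map_add, map_smul, map_smul, map_smul, smul_add, smul_add, smul_add]; abel
      rw [this]
      exact W.add_mem (W.add_mem (W.smul_mem _ (by rw [hhc]; exact W.add_mem hcW hcW)) (W.smul_mem _ hhe))
        (W.smul_mem _ hf')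
    have hcomm : h * z * h⁻¹ * z⁻¹ = 1 := by
      refine hE.kernel_eq_one hρ hp3 hW hzT hz1 (fun v => ?_) fun w hw => ?_
      · obtain ⟨u, rfl⟩ : ∃ u, v = ρ (z * h) u := ⟨ρ (z * h)⁻¹ v, (map_inv_apply _ _).symm⟩
        rw [← map_mul_apply, show h * z * h⁻¹ * z⁻¹ * (z * h) = h * z by group, map_mul_apply, map_mul_apply]
        have : ρ h (ρ z u) - ρ z (ρ h u) =
            (ρ h (ρ z u) + ρ z u) - ρ z (ρ h u + u) := by rw [map_add]; abel
        rw [this]
        exact W.sub_mem (hneg _) (hW z _ (hneg u))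
      · obtain ⟨a, rfl⟩ := hWL w hw
        rw [map_smul, hfixW _ ?_]
        have hz' : z ∈ Subgroup.closure ({z, y} : Set X) := Subgroup.subset_closure (Set.mem_insert _ _)
        exact mul_mem (mul_mem (mul_mem hh hz') (inv_mem hh)) (inv_mem hz')
    have hhz : ∀ v, ρ h (ρ z v) = ρ z (ρ h v) := fun v => by
      rw [← map_mul_apply, ← map_mul_apply]
      congr 2
      rw [mul_inv_eq_one, mul_inv_eq_iff_eq_mul] at hcomm
      exact hcomm
    obtain ⟨t, ht⟩ := hWL _ (hneg e)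
    have hhe' : ρ h e = t • c - e := by rw [← ht]; abel
    have h1 := hhz e
    rw [hze, map_add, hhc, hhe', map_sub, map_smul, hzc, hze] at h1
    have h2 := hind (1 + 1) 0 0 (by
      rw [add_smul, one_smul, zero_smul, zero_smul, add_zero, add_zero]
      linear_combination (norm := abel) h1)
    exact htwo h2.1

/-- A transvection configuration: two opposite transvections and a torus. -/
structure Split (ρ : X →* (V ≃ₗ[ZMod p] V)) (T : Subgroup X) (z y τ : X) (c d l : V) (g : ZMod p) :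
    Prop where
  z_mem : z ∈ T
  span : ∀ v, ∃ a b t : ZMod p, v = a • c + b • d + t • l
  ind : ∀ a b t : ZMod p, a • c + b • d + t • l = 0 → a = 0 ∧ b = 0 ∧ t = 0
  zc : ρ z c = c
  zd : ρ z d = d + c
  zl : ρ z l = l
  yc : ρ y c = c + d
  yd : ρ y d = d
  yl : ρ y l = l
  τc : ρ τ c = g • c
  τd : ρ τ d = g⁻¹ • d
  τl : ρ τ l = l
  ord : ∀ m : ℕ, g ^ m = 1 → p - 1 ∣ m
  g_ne : g ≠ 0
  norm : ∀ u ∈ T, τ * u * τ⁻¹ ∈ T

/-- A transvection in `T` gives a split configuration. -/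
theorem Emb.exists_split [Finite X] [Finite V] (hE : Emb p H T) (hρ : Function.Injective ρ)
    (hV : Nat.card V = p ^ 3) {z₁ : X} {φ : V →ₗ[ZMod p] ZMod p} {c : V} (hz : Tv ρ z₁ φ c)
    (hzT : z₁ ∈ T) (hz1 : z₁ ≠ 1) :
    ∃ (z y τ : X) (c d l : V) (g : ZMod p), Split ρ T z y τ c d l g ∧ z ≠ 1 := by
  classical
  have hp' := hp.out
  haveI : Fintype V := Fintype.ofFinite V
  obtain ⟨γ, hγ⟩ := hE.exists_outside
  have hA := hE.cross hρ hz hzT hz1 hγ
  have hB := hE.cross hρ hz hzT hz1 (show γ⁻¹ ∉ H from fun h => hγ (H.inv_mem_iff.1 h))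
  have hy := hz.conj γ
  obtain ⟨y₁, hy₁d⟩ : ∃ y₁, y₁ = γ * z₁ * γ⁻¹ := ⟨_, rfl⟩
  obtain ⟨ψ, hψd⟩ : ∃ ψ, ψ = φ ∘ₗ (ρ γ⁻¹).toLinearMap := ⟨_, rfl⟩
  obtain ⟨d₁, hd₁⟩ : ∃ d₁, d₁ = ρ γ c := ⟨_, rfl⟩
  rw [← hy₁d, ← hψd, ← hd₁] at hy
  rw [← hd₁] at hA
  obtain ⟨A, hAd⟩ : ∃ A, A = φ d₁ := ⟨_, rfl⟩
  obtain ⟨B, hBd⟩ : ∃ B, B = ψ c := ⟨_, rfl⟩
  rw [← hAd] at hA
  have hB' : B ≠ 0 := by rw [hBd, hψd]; exact hB
  obtain ⟨l, hl, hl0⟩ : ∃ l, l ∈ LinearMap.ker (φ.prod ψ) ∧ l ≠ 0 := by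
    refine Submodule.exists_mem_ne_zero_of_ne_bot fun h => ?_
    have := Nat.card_le_card_of_injective _ (LinearMap.ker_eq_bot.1 h)
    rw [hV, Nat.card_prod, Nat.card_zmod, ← sq, Nat.pow_le_pow_iff_right hp'.one_lt] at this
    omega
  simp only [LinearMap.mem_ker, LinearMap.prod_apply, Function.prod, Prod.mk_eq_zero] at hl
  obtain ⟨d, hd⟩ : ∃ d, d = A⁻¹ • d₁ := ⟨_, rfl⟩
  have hφd : φ d = 1 := by rw [hd, map_smul, ← hAd, smul_eq_mul, inv_mul_cancel₀ hA]
  have hψd0 : ψ d = 0 := by rw [hd, map_smul, hy.1, smul_zero]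
  obtain ⟨k, hk⟩ : ∃ k : ZMod p, k = (A * B)⁻¹ := ⟨_, rfl⟩
  obtain ⟨z, hzd⟩ : ∃ z, z = z₁ := ⟨_, rfl⟩
  obtain ⟨y, hyd⟩ : ∃ y, y = y₁ ^ k.val := ⟨_, rfl⟩
  have hzv : ∀ v, ρ z v = v + φ v • c := fun v => by rw [hzd]; exact hz.2 v
  have hyv : ∀ v, ρ y v = v + (k * ψ v) • d₁ := fun v => by rw [hyd]; exact hy.scale k v
  have hd₁d : d₁ = A • d := by rw [hd, smul_smul, mul_inv_cancel₀ hA, one_smul]
  have zc : ρ z c = c := by rw [hzv, hz.1, zero_smul, add_zero]
  have zd : ρ z d = d + c := by rw [hzv, hφd, one_smul]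
  have zl : ρ z l = l := by rw [hzv, hl.1, zero_smul, add_zero]
  have yc : ρ y c = c + d := by
    rw [hyv, ← hBd, hd₁d, smul_smul, hk, show (A * B)⁻¹ * B * A = 1 by field_simp, one_smul]
  have yd : ρ y d = d := by rw [hyv, hψd0, mul_zero, zero_smul, add_zero]
  have yl : ρ y l = l := by rw [hyv, hl.2, mul_zero, zero_smul, add_zero]
  have hzc0 : c ≠ 0 := fun e => hz1 (hρ (LinearEquiv.ext fun v => by
    rw [hz.2, e, smul_zero, add_zero, map_one]; rfl))
  have hind : ∀ a b t : ZMod p, a • c + b • d + t • l = 0 → a = 0 ∧ b = 0 ∧ t = 0 := by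
    intro a b t h
    have hb : b = 0 := by
      have := congrArg φ h
      simpa [hz.1, hφd, hl.1] using this
    have ha : a = 0 := by
      have := congrArg ψ h
      simp only [map_add, map_smul, ← hBd, hψd0, hl.2, smul_eq_mul, mul_zero, add_zero, map_zero] at this
      exact (mul_eq_zero.1 this).resolve_right hB'
    rw [ha, hb, zero_smul, zero_smul, zero_add, zero_add] at h
    exact ⟨ha, hb, (smul_eq_zero.1 h).resolve_right hl0⟩
  have hspan : ∀ v, ∃ a b t : ZMod p, v = a • c + b • d + t • l := by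
    have hsurj : Function.Surjective fun x : ZMod p × ZMod p × ZMod p => x.1 • c + x.2.1 • d + x.2.2 • l := by
      refine ((Fintype.bijective_iff_injective_and_card _).2 ⟨?_, ?_⟩).2
      · rintro ⟨a, b, t⟩ ⟨a', b', t'⟩ he
        simp only at he
        obtain ⟨h1, h2, h3⟩ := hind (a - a') (b - b') (t - t') (by
          rw [sub_smul, sub_smul, sub_smul]; linear_combination (norm := abel) he)
        simp [sub_eq_zero.1 h1, sub_eq_zero.1 h2, sub_eq_zero.1 h3]
      · rw [Fintype.card_prod, Fintype.card_prod, ZMod.card, ← Nat.card_eq_fintype_card, hV]; ring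
    intro v
    obtain ⟨⟨a, b, t⟩, h⟩ := hsurj v
    exact ⟨a, b, t, h.symm⟩
  obtain ⟨g, hg0, hg⟩ := exists_generator (p := p)
  have zp : ∀ (s : ZMod p) (a b t : ZMod p),
      ρ (z ^ s.val) (a • c + b • d + t • l) = (a + s * b) • c + b • d + t • l := by
    intro s a b t
    rw [hzd, hz.scale, map_add, map_add, map_smul, map_smul, map_smul, hz.1, hφd, hl.1, add_smul,
      smul_eq_mul, smul_eq_mul, smul_eq_mul, mul_zero, mul_one, mul_zero, add_zero, zero_add]
    abel
  have yp : ∀ (s : ZMod p) (a b t : ZMod p),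
      ρ (y ^ s.val) (a • c + b • d + t • l) = a • c + (b + s * a) • d + t • l := by
    intro s a b t
    have hys : ∀ (m : ℕ), ρ (y ^ m) (a • c + b • d + t • l) = a • c + (b + (m : ZMod p) * a) • d + t • l := by
      intro m
      induction m with
      | zero => simp
      | succ m ih =>
        rw [pow_succ', map_mul_apply, ih, map_add, map_add, map_smul, map_smul, map_smul, yc, yd, yl,
          smul_add, Nat.cast_succ, add_mul, one_mul, ← add_assoc, add_smul, add_smul, add_smul]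
        abel
    rw [hys, ZMod.natCast_zmod_val]
  obtain ⟨w, hw⟩ : ∃ w : ZMod p → X, ∀ s, w s = z ^ s.val * y ^ (-s⁻¹).val * z ^ s.val :=
    ⟨_, fun s => rfl⟩
  have hwact : ∀ s, s ≠ 0 → ∀ a b t : ZMod p,
      ρ (w s) (a • c + b • d + t • l) = (s * b) • c + (-(s⁻¹ * a)) • d + t • l := by
    intro s hs a b t
    rw [hw, map_mul_apply, map_mul_apply, zp, yp, zp]
    congr 2 <;> congr 1 <;> field_simp <;> ring
  obtain ⟨τ, hτ⟩ : ∃ τ, τ = w g * w (-1) := ⟨_, rfl⟩
  have hτact : ∀ a b t : ZMod p,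
      ρ τ (a • c + b • d + t • l) = (g * a) • c + (g⁻¹ * b) • d + t • l := by
    intro a b t
    rw [hτ, map_mul_apply, hwact _ (neg_ne_zero.2 one_ne_zero), hwact g hg0]
    congr 2 <;> congr 1 <;> field_simp
  have τc : ρ τ c = g • c := by simpa using hτact 1 0 0
  have τd : ρ τ d = g⁻¹ • d := by simpa using hτact 0 1 0
  have τl : ρ τ l = l := by simpa using hτact 0 0 1
  have hnorm : ∀ u ∈ T, τ * u * τ⁻¹ ∈ T := by
    intro u hu
    have hzo : orderOf z = p := by
      rw [hzd]; exact orderOf_eq_prime (hρ (LinearEquiv.ext fun v => by rw [hz.pow, map_one]; simp)) hz1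
    have hzT' : z ∈ T := hzd ▸ hzT
    have he : Subgroup.zpowers z = T := Subgroup.eq_of_le_of_card_ge (Subgroup.zpowers_le.2 hzT')
      (by rw [Nat.card_zpowers, hzo]; exact hE.card_le hρ hV)
    obtain ⟨m, rfl⟩ := mem_powers_iff_mem_zpowers.2 (he.ge hu)
    have key : τ * z * τ⁻¹ = z ^ (g * g).val := by
      rw [mul_inv_eq_iff_eq_mul]
      refine hρ (LinearEquiv.ext fun v => ?_)
      obtain ⟨a, b, t, rfl⟩ := hspan v
      have h1 : ρ z (a • c + b • d + t • l) = (a + b) • c + b • d + t • l := by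
        rw [map_add, map_add, map_smul, map_smul, map_smul, zc, zd, zl, smul_add, add_smul]; abel
      rw [map_mul_apply, map_mul_apply, h1, hτact, hτact, zp]
      congr 3
      field_simp
    show τ * z ^ m * τ⁻¹ ∈ T
    rw [← conj_pow, key]
    exact T.pow_mem (T.pow_mem hzT' _) _
  exact ⟨z, y, τ, c, d, l, g,
    ⟨hzd ▸ hzT, hspan, hind, zc, zd, zl, yc, yd, yl, τc, τd, τl, hg, hg0, hnorm⟩, hzd ▸ hz1⟩

end Cfsg.Agent.Local.FS.RankThree
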