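import Cfsg.Agent.Lib.Local.FS.RankThreeNormal.Linear

/-!
The invariant line of a transvection configuration, and linear groups in dimension at most two.
-/

set_option autoImplicit false

namespace Cfsg.Agent.Local.FS.RankThree

variable {p : ℕ} [hp : Fact p.Prime] {V : Type*} [AddCommGroup V] [Module (ZMod p) V]
  {X : Type*} [Group X] {ρ : X →* (V ≃ₗ[ZMod p] V)} {H T : Subgroup X}

/-- The fixed line of a split configuration is invariant under the whole group. -/
theorem Split.line [Finite X] [Finite V] (hE : Emb p H T) (hρ : Function.Injective ρ)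
    (hV : Nat.card V = p ^ 3) (hp3 : 3 ≤ p)
    (hconj : ∀ P₀ : Subgroup X, IsPGroup p P₀ → ∃ γ : X, ∀ x ∈ P₀, γ * x * γ⁻¹ ∈ T)
    {z y τ : X} {c d l : V} {g : ZMod p} (sp : Split ρ T z y τ c d l g) (hz1 : z ≠ 1) (x : X) :
    ∃ δ : ZMod p, ρ x l = δ • l := by
  have hp' := hp.out
  -- coordinates
  have huniq : ∀ {a b t a' b' t' : ZMod p}, a • c + b • d + t • l = a' • c + b' • d + t' • l →
      a = a' ∧ b = b' ∧ t = t' := by
    intro a b t a' b' t' e
    obtain ⟨h1, h2, h3⟩ := sp.ind (a - a') (b - b') (t - t') (by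
      rw [sub_smul, sub_smul, sub_smul]; linear_combination (norm := abel) e)
    exact ⟨sub_eq_zero.1 h1, sub_eq_zero.1 h2, sub_eq_zero.1 h3⟩
  choose fa fb ft hf using sp.span
  obtain ⟨φ, hφ⟩ : ∃ φ : V →ₗ[ZMod p] ZMod p, ∀ v, φ v = fb v :=
    ⟨{ toFun := fb
       map_add' := fun v w => (huniq (a := fa (v + w)) (t := ft (v + w)) (a' := fa v + fa w)
          (t' := ft v + ft w) ((hf (v + w)).symm.trans (by
            conv_lhs => rw [hf v, hf w]
            simp only [add_smul]; abel))).2.1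
       map_smul' := fun r v => (huniq (a := fa (r • v)) (t := ft (r • v)) (a' := r * fa v) (t' := r * ft v)
          ((hf (r • v)).symm.trans (by
            conv_lhs => rw [hf v]
            simp only [smul_add, smul_smul, smul_eq_mul, RingHom.id_apply]))).2.1 }, fun v => rfl⟩
  have hval : ∀ a b t : ZMod p, φ (a • c + b • d + t • l) = b := fun a b t => by
    rw [hφ]; exact (huniq (hf (a • c + b • d + t • l)).symm).2.1
  have hzv : ∀ v, ρ z v = v + φ v • c := fun v => by
    obtain ⟨a, b, t, rfl⟩ := sp.span v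
    rw [hval, map_add, map_add, map_smul, map_smul, map_smul, sp.zc, sp.zd, sp.zl, smul_add]
    abel
  have htv : Tv ρ z φ c := ⟨by simpa using hval 1 0 0, hzv⟩
  have hc0 : c ≠ 0 := fun e => one_ne_zero (sp.ind 1 0 0 (by simp [e])).1
  -- a `p`-subgroup through `z` is generated by `z`
  have hsyl : ∀ P₀ : Subgroup X, IsPGroup p P₀ → z ∈ P₀ → ∀ u ∈ P₀, u ∈ Subgroup.zpowers z := by
    intro P₀ hP₀ hz u hu
    obtain ⟨γ, hγ⟩ := hconj P₀ hP₀
    have hzo : orderOf z = p :=
      orderOf_eq_prime (hρ (LinearEquiv.ext fun v => by rw [htv.pow, map_one]; simp)) hz1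
    have hle : Nat.card P₀ ≤ p := by
      refine le_trans ?_ (hE.card_le hρ hV)
      exact Nat.card_le_card_of_injective (fun x : P₀ => (⟨γ * x * γ⁻¹, hγ x x.2⟩ : T))
        fun a b e => Subtype.ext (by simpa using congrArg Subtype.val e)
    have heq : Subgroup.zpowers z = P₀ := Subgroup.eq_of_le_of_card_ge (Subgroup.zpowers_le.2 hz)
      (by rw [Nat.card_zpowers, hzo]; exact hle)
    exact heq.ge hu
  -- orthogonal conjugates are powers of `z`
  have key : ∀ w : X, φ (ρ w c) = 0 → ρ (w * z * w⁻¹) l = l := by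
    intro w hw
    obtain ⟨e, he⟩ : ∃ e, e = ρ w c := ⟨_, rfl⟩
    rw [← he] at hw
    have h2 := htv.conj w
    rw [← he] at h2
    obtain ⟨W, hW⟩ : ∃ W : Submodule (ZMod p) V,
        W = Submodule.span (ZMod p) {e} ⊔ Submodule.span (ZMod p) {c} := ⟨_, rfl⟩
    have heW : e ∈ W := hW ▸ Submodule.mem_sup_left (Submodule.mem_span_singleton_self e)
    have hcW : c ∈ W := hW ▸ Submodule.mem_sup_right (Submodule.mem_span_singleton_self c)
    have hLW : Submodule.span (ZMod p) {e} ≤ W := hW ▸ le_sup_left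
    have hWz : ∀ v ∈ W, φ v = 0 := fun v hv => by
      obtain ⟨a, ha, b, hb, rfl⟩ := Submodule.mem_sup.1 (hW ▸ hv)
      obtain ⟨r, rfl⟩ := Submodule.mem_span_singleton.1 ha
      obtain ⟨r', rfl⟩ := Submodule.mem_span_singleton.1 hb
      simp [hw, htv.1]
    have hzF : z ∈ flag ρ W (Submodule.span (ZMod p) {e}) hLW :=
      ⟨fun v => by rw [hzv, add_sub_cancel_left]; exact W.smul_mem _ hcW,
        fun v hv => by rw [hzv, hWz v hv, zero_smul, add_zero, sub_self]; exact zero_mem _,
        fun v hv => by rw [hzv, hWz v (hLW hv), zero_smul, add_zero]⟩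
    have hwF : w * z * w⁻¹ ∈ flag ρ W (Submodule.span (ZMod p) {e}) hLW := by
      refine ⟨fun v => ?_, fun v _ => ?_, fun v hv => ?_⟩
      · rw [h2.2, add_sub_cancel_left]; exact W.smul_mem _ heW
      · rw [h2.2, add_sub_cancel_left]
        exact Submodule.smul_mem _ _ (Submodule.mem_span_singleton_self e)
      · obtain ⟨r, rfl⟩ := Submodule.mem_span_singleton.1 hv
        rw [map_smul, h2.2, h2.1, zero_smul, add_zero]
    obtain ⟨m, hm⟩ := mem_powers_iff_mem_zpowers.2 (hsyl _ (isPGroup_flag hLW hp3 hρ) hzF _ hwF)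
    rw [← hm, htv.pow, show φ l = 0 by simpa using hval 0 0 1]
    simp
  -- every conjugate fixes `l`
  have hfix : ∀ w : X, φ (ρ w l) = 0 := by
    intro x
    have yp : ∀ (n : ℕ) (a b t : ZMod p), ρ (y ^ n) (a • c + b • d + t • l) =
        a • c + (b + n * a) • d + t • l := by
      intro n
      induction n with
      | zero => intro a b t; simp
      | succ n ih =>
        intro a b t
        rw [pow_succ', map_mul_apply, ih, map_add, map_add, map_smul, map_smul, map_smul, sp.yc, sp.yd,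
          sp.yl, smul_add, Nat.cast_succ, add_mul, one_mul, add_smul, add_smul, add_smul]
        abel
    obtain ⟨a, b, t, hxc⟩ := sp.span (ρ x⁻¹ c)
    -- move the centre into the kernel
    obtain ⟨w, hwl, hw⟩ : ∃ w : X, ρ w l = l ∧ φ (ρ w (ρ x⁻¹ c)) = 0 := by
      have hyl : ∀ n : ℕ, ρ (y ^ n) l = l := fun n => by simpa using yp n 0 0 1
      by_cases ha : a = 0
      · by_cases hb : b = 0
        · exact ⟨1, by simp, by rw [map_one]; show φ (ρ x⁻¹ c) = 0; rw [hxc, hval, hb]⟩
        refine ⟨y ^ (-(1 : ZMod p)).val * z, by rw [map_mul_apply, sp.zl, hyl], ?_⟩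
        rw [map_mul_apply, hxc, show ρ z (a • c + b • d + t • l) = a • c + (b • d + b • c) + t • l by
            simp only [map_add, map_smul, sp.zc, sp.zd, sp.zl, smul_add],
          ha, zero_smul, zero_add,
          show b • d + b • c + t • l = b • c + b • d + t • l by abel, yp, hval, ZMod.natCast_zmod_val]
        ring
      · refine ⟨y ^ (-b / a).val, hyl _, ?_⟩
        rw [hxc, yp, hval, ZMod.natCast_zmod_val, div_mul_cancel₀ _ ha, add_neg_cancel]
    have h1 := key (w * x⁻¹) (by rw [map_mul_apply]; exact hw)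
    rw [show w * x⁻¹ * z * (w * x⁻¹)⁻¹ = (w * x⁻¹) * (z * (x * w⁻¹)) by group, map_mul_apply,
      map_mul_apply, map_mul_apply, map_mul_apply, show ρ w⁻¹ l = l by
        conv_lhs => rw [← hwl]
        exact map_inv_apply' w l, hzv, map_add, map_add, map_inv_apply', map_smul, map_smul, hwl,
      add_eq_left, smul_eq_zero] at h1
    refine h1.resolve_right fun e => hc0 ?_
    rw [← map_inv_apply' x⁻¹ c (ρ := ρ), ← map_inv_apply' w (ρ x⁻¹ c) (ρ := ρ), e, map_zero, map_zero]
  obtain ⟨a, b, t, hxl⟩ := sp.span (ρ x l)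
  have hb : b = 0 := by have := hfix x; rwa [hxl, hval] at this
  subst hb
  have ha := hfix (y * x)
  rw [map_mul_apply, hxl, show ρ y (a • c + (0 : ZMod p) • d + t • l) = a • c + a • d + t • l by
    simp only [map_add, map_smul, sp.yc, sp.yl, smul_add, zero_smul, add_zero], hval] at ha
  exact ⟨t, by rw [hxl, ha]; simp⟩

theorem finrank_le_two [Finite V] (hV : Nat.card V ≤ p ^ 2) :
    Module.finrank (ZMod p) V ≤ 2 := by
  haveI : Fintype V := Fintype.ofFinite V
  have := Module.card_eq_pow_finrank (K := ZMod p) (V := V)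
  rw [ZMod.card, ← Nat.card_eq_fintype_card] at this
  exact (Nat.pow_le_pow_iff_right hp.out.one_lt).1 (this ▸ hV)

/-- In dimension at most two the `p`-subgroups have order at most `p`. -/
theorem card_le_two [Finite X] [Finite V] (hT : IsPGroup p T) (hρ : Function.Injective ρ)
    (hV : Nat.card V ≤ p ^ 2) : Nat.card T ≤ p := by
  classical
  have hfr := finrank_le_two (p := p) hV
  have hone : (∀ u ∈ T, ∀ v, ρ u v = v) → Nat.card T ≤ p := fun h => by
    have : T = ⊥ := (Subgroup.eq_bot_iff_forall _).2 fun u hu =>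
      hρ (LinearEquiv.ext fun v => by rw [h u hu, map_one]; rfl)
    rw [this, Subgroup.card_bot]; exact hp.out.pos
  by_cases hb : (⊥ : Submodule (ZMod p) V) = ⊤
  · exact hone fun u _ v => by
      have h1 : ∀ w : V, w = 0 := fun w => (Submodule.mem_bot _).1 (hb ▸ Submodule.mem_top)
      rw [h1 (ρ u v), h1 v]
  obtain ⟨c, hc0, hc⟩ := exists_fixed hT (⊥ : Submodule (ZMod p) V)
    (fun u _ w hw => by rw [Submodule.mem_bot] at hw ⊢; rw [hw, map_zero]) hb
  rw [Submodule.mem_bot] at hc0
  simp only [Submodule.mem_bot, sub_eq_zero] at hc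
  obtain ⟨L, hL⟩ : ∃ L : Submodule (ZMod p) V, L = Submodule.span (ZMod p) {c} := ⟨_, rfl⟩
  have hLi : ∀ u ∈ T, ∀ w ∈ L, ρ u w = w := by
    intro u hu w hw
    obtain ⟨a, rfl⟩ := Submodule.mem_span_singleton.1 (hL ▸ hw)
    rw [map_smul, hc u hu]
  by_cases hLt : L = ⊤
  · exact hone fun u hu v => hLi u hu v (hLt ▸ Submodule.mem_top)
  obtain ⟨d, hd0, hd⟩ := exists_fixed hT L (fun u hu w hw => by rwa [hLi u hu w hw]) hLt
  have htop : L ⊔ Submodule.span (ZMod p) {d} = ⊤ := by
    refine Submodule.eq_top_of_finrank_eq (le_antisymm (Submodule.finrank_le _) ?_)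
    have hLr : Module.finrank (ZMod p) L = 1 := by rw [hL]; exact finrank_span_singleton hc0
    have hlt : L < L ⊔ Submodule.span (ZMod p) {d} := lt_of_le_of_ne le_sup_left fun h => hd0 (h ▸
      Submodule.mem_sup_right (Submodule.mem_span_singleton_self d))
    have := Submodule.finrank_lt_finrank_of_lt hlt
    omega
  have hr : ∀ u : T, ∃ a : ZMod p, ρ (u : X) d = d + a • c := fun u => by
    obtain ⟨a, ha⟩ := Submodule.mem_span_singleton.1 (hL ▸ hd u u.2)
    exact ⟨a, by rw [ha]; abel⟩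
  choose a ha using hr
  refine (Nat.card_le_card_of_injective a fun u u' e => Subtype.ext (hρ (LinearEquiv.ext fun v => ?_))).trans
    (le_of_eq (Nat.card_zmod p))
  obtain ⟨w, hw, r, hr, rfl⟩ := Submodule.mem_sup.1 (htop.ge (Submodule.mem_top (x := v)))
  obtain ⟨k, rfl⟩ := Submodule.mem_span_singleton.1 hr
  rw [map_add, map_add, map_smul, map_smul, hLi _ u.2 w hw, hLi _ u'.2 w hw, ha, ha, e]

/-- In dimension at most two a group without normal `p`-subgroups but with some is irreducible. -/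
theorem irreducible_two [Finite X] [Finite V] (hT : IsPGroup p T) (hne : T ≠ ⊥)
    (hop : ∀ K : Subgroup X, K.Normal → IsPGroup p K → K = ⊥) (hρ : Function.Injective ρ) (hp3 : 3 ≤ p)
    (hV : Nat.card V ≤ p ^ 2) {W : Submodule (ZMod p) V} (hW : ∀ x : X, ∀ w ∈ W, ρ x w ∈ W) :
    W = ⊥ ∨ W = ⊤ := by
  classical
  by_contra hcon
  push Not at hcon
  obtain ⟨hWb, hWt⟩ := hcon
  have hfr := finrank_le_two (p := p) hV
  have hW1 : Module.finrank (ZMod p) W = 1 := by
    have h1 : 1 ≤ Module.finrank (ZMod p) W := Submodule.one_le_finrank_iff.2 hWb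
    have h2 := Submodule.finrank_lt hWt
    omega
  obtain ⟨c, hc, hc0⟩ := Submodule.exists_mem_ne_zero_of_ne_bot hWb
  have hWc : W = Submodule.span (ZMod p) {c} := (Submodule.eq_of_le_of_finrank_le
    ((Submodule.span_singleton_le_iff_mem _ _).2 hc) (by rw [hW1, finrank_span_singleton hc0])).symm
  have hfix : ∀ u ∈ T, ∀ w ∈ W, ρ u w = w := by
    intro u hu w hw
    obtain ⟨r, hr⟩ := Submodule.mem_span_singleton.1 (hWc ▸ hW u c hc)
    obtain ⟨j, hj⟩ := pow_of_mem_pgroup hT hu
    have hn : ∀ n : ℕ, ρ (u ^ n) c = r ^ n • c := by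
      intro n
      induction n with
      | zero => simp
      | succ n ih => rw [pow_succ', map_mul_apply, ih, map_smul, ← hr, smul_smul, pow_succ]
    have h1 := hn (p ^ j)
    rw [hj, map_one] at h1
    have h2 : r ^ p ^ j = 1 := by
      refine (sub_eq_zero.1 ((smul_eq_zero.1 ?_).resolve_right hc0))
      rw [sub_smul, one_smul, ← h1]
      exact sub_self c
    obtain ⟨k, rfl⟩ := Submodule.mem_span_singleton.1 (hWc ▸ hw)
    rw [map_smul, ← hr, one_of_pow_eq_one h2, one_smul]
  obtain ⟨d, hd0, hd⟩ := exists_fixed hT W (fun u hu w hw => by rwa [hfix u hu w hw]) hWt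
  have htop : W ⊔ Submodule.span (ZMod p) {d} = ⊤ := by
    refine Submodule.eq_top_of_finrank_eq (le_antisymm (Submodule.finrank_le _) ?_)
    have hlt : W < W ⊔ Submodule.span (ZMod p) {d} := lt_of_le_of_ne le_sup_left fun h => hd0 (h ▸
      Submodule.mem_sup_right (Submodule.mem_span_singleton_self d))
    have := Submodule.finrank_lt_finrank_of_lt hlt
    omega
  have hn : (flag ρ W W le_rfl).Normal := by
    refine ⟨fun n hn g => ?_⟩
    obtain ⟨h1, h2, h3⟩ := hn
    have hf : ∀ w ∈ W, ρ (g * n * g⁻¹) w = w := fun w hw => by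
      rw [map_mul_apply, map_mul_apply, h3 _ (hW _ w hw), map_inv_apply]
    refine ⟨fun v => ?_, fun w hw => by rw [hf w hw, sub_self]; exact W.zero_mem, hf⟩
    have := hW g _ (h1 (ρ g⁻¹ v))
    rwa [map_sub, map_inv_apply, ← map_mul_apply, ← map_mul_apply] at this
  refine hne ((Subgroup.eq_bot_iff_forall _).2 fun u hu => ?_)
  have hu' : u ∈ flag ρ W W le_rfl := by
    refine ⟨fun v => ?_, fun w hw => by rw [hfix u hu w hw, sub_self]; exact W.zero_mem, hfix u hu⟩
    obtain ⟨w, hw, r, hr, rfl⟩ := Submodule.mem_sup.1 (htop.ge (Submodule.mem_top (x := v)))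
    obtain ⟨k, rfl⟩ := Submodule.mem_span_singleton.1 hr
    rw [map_add, hfix u hu w hw, add_sub_add_left_eq_sub, map_smul, ← smul_sub]
    exact W.smul_mem _ (hd u hu)
  have := hop _ hn (isPGroup_flag le_rfl hp3 hρ)
  rw [this] at hu'
  exact hu'

end Cfsg.Agent.Local.FS.RankThree
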