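import Cfsg.Agent.Lib.Local.FS.RankThreeNormal.Setup
import Cfsg.Agent.Lib.Local.FS.RankThreeNormal.Lines

/-!
An essential subgroup with three-generated Frattini quotient in a saturated system over a group of
sectional rank three is normal.
-/

set_option autoImplicit false

open scoped commutatorElement

namespace Cfsg.Agent.Local.FS.RankThreeNormal

open Cfsg Cfsg.FusionSystem Cfsg.Agent.Fusion

variable {Ω : Type*} [Group Ω] {S : Subgroup Ω} [Finite S] {F : FusionSystem S} {p : ℕ}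
  [hp : Fact p.Prime]

/-- The essential subgroup is normal in `S`. -/
theorem le_normalizer (hS : IsPGroup p S) (hF : F.IsSaturated p) (hp5 : 5 ≤ p)
    (hsr : Cfsg.SectionalPRankLE p 3 ↥S) {E : Subgroup Ω} (hE : F.IsEssential p E)
    (hrk : (frattini ↥E).index = p ^ 3) : S ≤ Subgroup.normalizer (E : Set Ω) := by
  classical
  by_contra hne
  have hES : E < S := lt_of_essential hS hF hE
  have hPS' : normalizerIn S E ≤ S := inf_le_left
  have hPS : normalizerIn S E < S := lt_of_le_of_ne hPS' fun e => hne (e.ge.trans inf_le_right)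
  have hEP : E ≤ normalizerIn S E := le_normalizerIn hES.le
  have hG : IsPGroup p ↥(normalizerIn S E) := hS.to_le hPS'
  haveI := finite_of_le hPS'
  have hsrP : Cfsg.SectionalPRankLE p 3 ↥(normalizerIn S E) :=
    sectional_of_injective hsr (Subgroup.inclusion hPS') (Subgroup.inclusion_injective hPS')
  obtain ⟨U₁, hirr | ⟨a, b, c, s, co, y, t, g₀, h, m, htA, -⟩⟩ := dichotomy hS hF (by omega : 3 ≤ p) hE hrk
  · have hfix := hirr.stable hG hp5 hsrP
    obtain ⟨x, hx, hxP⟩ := SetLike.exists_of_lt (lt_normalizerIn hS hPS)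
    obtain ⟨β, hβ, -⟩ := exists_aut_conj hx.2
    refine hxP ⟨hx.1, mem_normalizer_of_conj_mem hES.le fun w hw => ?_⟩
    have h1 : β ⟨w, hEP hw⟩ ∈ E.subgroupOf (normalizerIn S E) :=
      (hfix β).le ⟨_, Subgroup.mem_subgroupOf.2 hw, rfl⟩
    rw [← hβ w (hEP hw), av_apply β (hEP hw)]
    exact Subgroup.mem_subgroupOf.1 h1
  have hst := fun g => Moves.stable h m hp5 hsrP g
  -- a fully normalised conjugate of the normaliser
  obtain ⟨P', hconjP, hfn⟩ := exists_fullyNormalized (F := F) hPS'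
  obtain ⟨f, hf, -, hfi⟩ := exists_map_normalizer_fn hS hF hfn hconjP
  have hfP : Map F (normalizerIn S E) f := hf.restrict (le_normalizerIn hPS')
  obtain ⟨e, he⟩ := exists_equiv hfP hfi
  have hP'c : Nat.card P' = Nat.card ↥(normalizerIn S E) := by rw [← hfi, hfP.card_im]
  have hP'S : P' ≤ S := hfn.1
  haveI := finite_of_le hP'S
  have hP'lt : P' < S := lt_of_le_of_ne hP'S fun e' => by
    have := card_lt_of_lt hPS le_rfl
    rw [← hP'c, e'] at this
    exact lt_irrefl _ this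
  have hPN : P' ≤ normalizerIn S P' := le_normalizerIn hP'S
  obtain ⟨R, hR⟩ : ∃ R, R = (autInducedBy S P').comap (MulAut.congr e).toMonoidHom := ⟨_, rfl⟩
  obtain ⟨hfc, hfa⟩ := fc_fa_of_fn hS hF hfn
  haveI := mulAut_finite_of_le hP'S
  haveI := mulAut_finite_of_le hPS'
  have hRsyl : SylIn p R (F.autGroup (normalizerIn S E)) := by
    have hA := (fa_iff.1 hfa).2
    subst hR
    refine ⟨fun α hα => (congr_mem_autGroup_iff hfP hfi he).1 (hA.le hα),
      (isPGroup_autS (S := S) (P := P') hS).comap_of_injective _ (MulAut.congr e).injective, ?_⟩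
    rw [Subgroup.relIndex_comap, map_autGroup hfP hfi he]
    exact hA.not_dvd
  have hconj : ∀ u ∈ normalizerIn S P', ∃ r ∈ R, ∀ x, u * (e x : Ω) * u⁻¹ = e (r x) := by
    intro u hu
    obtain ⟨δ, hδ, hδS⟩ := exists_aut_conj hu.2
    refine ⟨(MulAut.congr e).symm δ, ?_, fun x => ?_⟩
    · rw [hR, Subgroup.mem_comap]
      show MulAut.congr e ((MulAut.congr e).symm δ) ∈ autInducedBy S P'
      rw [MulEquiv.apply_symm_apply]
      exact hδS S hu.1
    · rw [← hδ _ (e x).2, av_coe]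
      congr 1
      simp [MulAut.congr]
  -- only elements of `P'` fix the line of a conjugate of `E`
  have hkey : ∀ g ∈ F.autGroup (normalizerIn S E), ∀ u ∈ normalizerIn S P', ∀ r : MulAut ↥(normalizerIn S E),
      (∀ x, u * (e (g x) : Ω) * u⁻¹ = e (g (r x))) → Frame.rot b co (r b) = 0 → u ∈ P' := by
    intro g hg u hu r hr hrb
    have hrE : ∀ x ∈ E.subgroupOf (normalizerIn S E), r x ∈ E.subgroupOf (normalizerIn S E) := by
      intro x hx
      have hZ : ∀ w ∈ h.sub (midZero p), r w ∈ E.subgroupOf (normalizerIn S E) := fun w hw =>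
        ((hst r).2.le ⟨w, hw, rfl⟩).1
      exact (h.induction (X := (E.subgroupOf (normalizerIn S E)).comap r.toMonoidHom)
        (fun w hw => h.le ((hst r).1.le ⟨w, hw, rfl⟩)) (hZ a ⟨h.aE, by rw [h.co_a]; rfl⟩) (h.mem_of_rot hrb)
        (hZ c ⟨h.cE, by rw [h.co_c]; rfl⟩) hx)
    obtain ⟨ψ, hψ⟩ : ∃ ψ : ↥(normalizerIn S E) →* Ω, ∀ x, ψ x = e (g x) :=
      ⟨P'.subtype.comp (e.toMonoidHom.comp g.toMonoidHom), fun x => rfl⟩
    obtain ⟨E', hE'⟩ : ∃ E', E' = (E.subgroupOf (normalizerIn S E)).map ψ := ⟨_, rfl⟩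
    have hE'P : E' ≤ P' := by
      rw [hE']; rintro _ ⟨x, -, rfl⟩; rw [hψ]; exact SetLike.coe_mem _
    have hgm := (map_of_mem_autGroup hPS' hg).restrict hEP
    have hm := hgm.comp hfP fun x hx => av_mem g (hEP hx)
    have hval : ∀ x : ↥(normalizerIn S E), (f ∘ av g) (x : Ω) = ψ x := fun x => by
      rw [hψ, he, Function.comp_apply, av_coe]
    have him : im E (f ∘ av g) = E' := by
      rw [hE']
      refine hm.im_eq (fun x hx => ⟨⟨x, hEP hx⟩, Subgroup.mem_subgroupOf.2 hx, (hval _).symm⟩) ?_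
      rintro _ ⟨x, hx, rfl⟩
      exact ⟨x, Subgroup.mem_subgroupOf.1 hx, hval x⟩
    have hc : Nat.card ↥(normalizerIn S E') ≤ Nat.card ↥(normalizerIn S E) :=
      hE.2.1.2 E' (isConj_iff.2 ⟨_, hm, him⟩)
    have hle : P' ≤ normalizerIn S E' := by
      intro w hw
      refine ⟨hP'S hw, mem_normalizer_of_conj_mem (hE'P.trans hP'S) fun z hz => ?_⟩
      obtain ⟨x, hx⟩ := g.surjective (e.symm ⟨w, hw⟩)
      have hxw : ψ x = w := by rw [hψ, hx, MulEquiv.apply_symm_apply]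
      rw [hE'] at hz ⊢
      obtain ⟨z', hz', rfl⟩ := hz
      rw [← hxw, ← map_inv, ← map_mul, ← map_mul]
      exact ⟨_, h.normalE.conj_mem z' hz' x, rfl⟩
    have heq : P' = normalizerIn S E' := Subgroup.eq_of_le_of_card_ge hle (hc.trans hP'c.ge)
    refine heq.ge ⟨hu.1, mem_normalizer_of_conj_mem (hE'P.trans hP'S) fun z hz => ?_⟩
    rw [hE'] at hz ⊢
    obtain ⟨x, hx, rfl⟩ := hz
    rw [hψ, hr x]
    exact ⟨r x, hrE x hx, hψ _⟩
  obtain ⟨u₀, hu₀, hu₀P⟩ := SetLike.exists_of_lt (lt_normalizerIn hS hP'lt)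
  obtain ⟨r₀, hr₀R, hr₀⟩ := hconj u₀ hu₀
  obtain ⟨g, hg, s', hs', hts', hfixl, hnorm⟩ := Moves.exists_line h m hG hp5 (fun g => (hst g).2) hRsyl htA hr₀R
    fun h0 => hu₀P (hkey 1 (one_mem _) u₀ hu₀ r₀ (fun x => hr₀ x) h0)
  -- the torus extends to the normaliser
  obtain ⟨t₁, ht₁⟩ : ∃ t₁, t₁ = g * t * g⁻¹ := ⟨_, rfl⟩
  rw [← ht₁] at hnorm
  have ht₁A : t₁ ∈ F.autGroup (normalizerIn S E) := ht₁ ▸ mul_mem (mul_mem hg htA) (inv_mem hg)
  obtain ⟨τ, hτ⟩ : ∃ τ, τ = MulAut.congr e t₁ := ⟨_, rfl⟩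
  have hτA : τ ∈ F.autGroup P' := hτ ▸ congr_mem_autGroup hfP hfi he ht₁A
  have hNf : normalizerIn S P' ≤ Nf S P' (av τ) := by
    intro u hu
    obtain ⟨δ, hδ, hδS⟩ := exists_aut_conj hu.2
    have h1 : τ * δ * τ⁻¹ ∈ autInducedBy S P' := by
      have h2 := hnorm ((MulAut.congr e).symm δ) (by
        rw [hR, Subgroup.mem_comap]
        show MulAut.congr e ((MulAut.congr e).symm δ) ∈ autInducedBy S P'
        rw [MulEquiv.apply_symm_apply]
        exact hδS S hu.1)
      rw [hR, Subgroup.mem_comap, MulEquiv.coe_toMonoidHom, map_mul, map_mul, map_inv, MulEquiv.apply_symm_apply,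
        ← hτ] at h2
      exact h2
    obtain ⟨w, hw, hwx⟩ := mem_autInducedBy.1 h1
    refine ⟨hu.1, hu.2, w, hw, fun x hx => ?_⟩
    have h2 := hwx _ (av_mem τ hx)
    rw [av_mul _ _ (av_mem τ hx), av_inv_av τ hx, av_mul _ _ hx, hδ x hx] at h2
    exact h2
  obtain ⟨g', hg', hg'τ⟩ := (receptive_iff.1 (receptive_of_fc hS hF hfc)).2 P' _
    (map_of_mem_autGroup hP'S hτA) (im_av τ)
  have hgP' : im P' g' = P' := (im_congr hg'τ).trans (im_av τ)
  have hgQ := hg'.restrict hNf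
  haveI := finite_of_le (S := S) (T := normalizerIn S P') inf_le_left
  have hgi : im (normalizerIn S P') g' = normalizerIn S P' := by
    refine Subgroup.eq_of_le_of_card_ge (im_le_iff.2 fun x hx => ?_) (by rw [hgQ.card_im])
    have := hgQ.mem_normalizer hPN hx hx.2
    rwa [hgP'] at this
  obtain ⟨T, -, hT⟩ := exists_aut hgQ hgi
  obtain ⟨φ, hφ⟩ : ∃ φ : ↥(normalizerIn S E) →* ↥(normalizerIn S P'), ∀ x, (φ x : Ω) = e (g x) :=
    ⟨(Subgroup.inclusion hPN).comp (e.toMonoidHom.comp g.toMonoidHom), fun x => rfl⟩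
  have hφr : ∀ u : ↥(normalizerIn S P'), (u : Ω) ∈ P' → u ∈ φ.range := fun u hu => by
    obtain ⟨x, hx⟩ := g.surjective (e.symm ⟨u, hu⟩)
    exact ⟨x, Subtype.ext (by rw [hφ, hx, MulEquiv.apply_symm_apply])⟩
  refine Moves.false_of_line h m hp5 hsrP hs' hts' (Q := ↥(normalizerIn S P')) (hS.to_le inf_le_left)
    (sectional_of_injective hsr (Subgroup.inclusion inf_le_left) (Subgroup.inclusion_injective inf_le_left))
    (φ := φ) (T := T) (fun x x' hxx => g.injective (e.injective (Subtype.ext (by rw [← hφ, hxx, hφ])))) ?_ ?_ ?_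
  · intro htop
    obtain ⟨x, hx⟩ : (⟨u₀, hu₀⟩ : ↥(normalizerIn S P')) ∈ φ.range := htop ▸ Subgroup.mem_top _
    have h1 : u₀ = (e (g x) : Ω) := (congrArg Subtype.val hx).symm.trans (hφ x)
    exact hu₀P (h1.symm ▸ SetLike.coe_mem _)
  · intro x
    refine Subtype.ext ?_
    have hgt : g (t x) = t₁ (g x) := by rw [ht₁, MulAut.mul_apply, MulAut.mul_apply, MulAut.inv_apply_self]
    rw [hφ (t x), hgt, ← av_coe, hT _ (φ x).2, hφ, hg'τ _ (e (g x)).2, av_coe, hτ]
    congr 1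
    simp [MulAut.congr]
  · intro u
    obtain ⟨r, hrR, hr⟩ := hconj u u.2
    refine ⟨g⁻¹ * r * g, fun x => Subtype.ext ?_, ?_, fun h0 => ?_⟩
    · rw [hφ, Subgroup.coe_mul, Subgroup.coe_mul, Subgroup.coe_inv, hφ, hr, MulAut.mul_apply, MulAut.mul_apply,
        MulAut.apply_inv_self]
    · obtain ⟨L, hL⟩ := h.exists_act fun g => (hst g).2
      rw [MulAut.mul_apply, MulAut.mul_apply, ← hL, hfixl r hrR, hL, MulAut.inv_apply_self]
    · refine hφr u (hkey g hg u u.2 (g⁻¹ * r * g) (fun x => ?_) h0)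
      rw [hr, MulAut.mul_apply, MulAut.mul_apply, MulAut.apply_inv_self]

end Cfsg.Agent.Local.FS.RankThreeNormal
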