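import Cfsg.Agent.Lib.Local.FS.RankThreeNormal.Frame

/-!
A frame with the opposite transvection and a torus: the weight argument showing that a conjugate of
`E` containing the commutators with `c` contains `c`.
-/

set_option autoImplicit false

open scoped commutatorElement

namespace Cfsg.Agent.Local.FS.RankThreeNormal

variable {G : Type*} [Group G] {p : ℕ} [hp : Fact p.Prime]
variable {E U : Subgroup G} {a b c s : G} {co : G → ZMod p × ZMod p × ZMod p}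

/-- The opposite transvection `y` of `E` and an automorphism `t` of the group acting as a torus. -/
structure Moves (E : Subgroup G) (a b c : G) (co : G → ZMod p × ZMod p × ZMod p) (y : G → G)
    (t : MulAut G) (g₀ : ZMod p) : Prop where
  y_mem : ∀ x ∈ E, y x ∈ E
  y_mul : ∀ x ∈ E, ∀ x' ∈ E, y (x * x') = y x * y x'
  y_inj : Set.InjOn y (E : Set G)
  y_a : co (y a) = (1, 1, 0)
  y_b : co (y b) = (0, 1, 0)
  y_c : co (y c) = (0, 0, 1)
  t_mem : ∀ x ∈ E, t x ∈ E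
  t_a : co (t a) = (g₀, 0, 0)
  t_b : co (t b) = (0, g₀⁻¹, 0)
  t_c : co (t c) = (0, 0, 1)
  g_ne : g₀ ≠ 0
  ord : ∀ m : ℕ, g₀ ^ m = 1 → p - 1 ∣ m

namespace Frame

variable (h : Frame p E U a b c s co)
include h

/-- The frame transported by an automorphism. -/
theorem map (g : MulAut G) : Frame p (E.map g.toMonoidHom) (U.map g.toMonoidHom) (g a) (g b) (g c) (g s)
    fun x => co (g.symm x) := by
  have hi : ∀ (X : Subgroup G) x, x ∈ X.map g.toMonoidHom ↔ g.symm x ∈ X := fun X x =>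
    Subgroup.mem_map_equiv
  refine ⟨h.toPhi.map_equiv g, ⟨a, h.aE, rfl⟩, ⟨b, h.bE, rfl⟩, ⟨c, h.cE, rfl⟩, ?_, ?_, ?_, ?_, ?_, ?_, ?_, ?_, ?_⟩
  · rw [hi, MulEquiv.symm_apply_apply]; exact h.s_not
  · intro x hx y hy
    rw [hi] at hx hy
    show co (g.symm (x * y)) = co (g.symm x) + co (g.symm y)
    rw [map_mul]; exact h.add _ hx _ hy
  · intro x hx
    rw [hi] at hx ⊢
    exact h.zero _ hx
  · show co (g.symm (g a)) = _; rw [MulEquiv.symm_apply_apply]; exact h.co_a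
  · show co (g.symm (g b)) = _; rw [MulEquiv.symm_apply_apply]; exact h.co_b
  · show co (g.symm (g c)) = _; rw [MulEquiv.symm_apply_apply]; exact h.co_c
  · exact ⟨⁅s, a⁆, h.sa, map_commutatorElement _ _ _⟩
  · exact ⟨⁅s, b⁆ * a⁻¹, h.sb, by simp⟩
  · exact ⟨⁅s, c⁆, h.sc, map_commutatorElement _ _ _⟩

/-- Facts on the conjugate `E' = g(E)` read in its own frame. -/
theorem conj_facts (g : MulAut G) :
    (∀ x y : G, ⁅x, y⁆ ∈ E.map g.toMonoidHom) ∧ U ≤ E.map g.toMonoidHom ∧ a ∈ E.map g.toMonoidHom ∧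
      layer p ⊤ U ≤ U.map g.toMonoidHom := by
  have h' := h.map g
  have hle : h'.sub (midZero p) ≤ E.map g.toMonoidHom := fun x hx => hx.1
  have hU : U ≤ h'.sub (midZero p) :=
    h.min _ (fun x _ => (h'.top_section x x).2) fun x _ y _ => (h'.top_section x y).1
  have hcm : ∀ x y : G, ⁅x, y⁆ ∈ E.map g.toMonoidHom := fun x y => hle (h'.top_section x y).1
  refine ⟨hcm, hU.trans hle, ?_, layer_le_iff.2 ⟨fun x _ u hu => h'.comm_midZero x (hU hu),
    fun u hu => h'.pow u (hle (hU hu))⟩⟩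
  have := (E.map g.toMonoidHom).mul_mem (Subgroup.inv_mem _ (hU.trans hle h.sb)) (hcm s b)
  rwa [mul_inv_rev, inv_inv, inv_mul_cancel_right] at this

end Frame

namespace Moves

variable {y : G → G} {t : MulAut G} {g₀ : ZMod p} (h : Frame p E U a b c s co)
  (m : Moves E a b c co y t g₀)
include h m

theorem co_y {x : G} (hx : x ∈ E) : co (y x) = ((co x).1, (co x).1 + (co x).2.1, (co x).2.2) := by
  rw [h.co_map m.y_mem m.y_mul hx, m.y_a, m.y_b, m.y_c]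
  ext <;> simp [Prod.smul_mk]

theorem co_t {x : G} (hx : x ∈ E) : co (t x) = (g₀ * (co x).1, g₀⁻¹ * (co x).2.1, (co x).2.2) := by
  rw [h.co_map m.t_mem (fun x _ x' _ => map_mul t x x') hx, m.t_a, m.t_b, m.t_c]
  ext <;> simp [Prod.smul_mk, mul_comm]

theorem y_U : ∀ u ∈ U, y u ∈ U := h.map_mem m.y_mem m.y_mul

theorem t_U : ∀ u ∈ U, t u ∈ U := h.map_mem m.t_mem fun x _ x' _ => map_mul t x x'

theorem rot_t : Frame.rot b co (t s) = g₀ * g₀ := by
  have hb := h.co_eq (by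
    rw [commutatorElement_def]; exact E.mul_mem (h.conjMem s b h.bE) (E.inv_mem h.bE)) h.aE h.sb
  have h1 := h.co_comm (t s) (m.t_mem b h.bE)
  rw [← map_commutatorElement, co_t h m (h.comm_mem_axisA s h.bE).1, hb, h.co_a, m.t_b] at h1
  have h2 : g₀ = Frame.rot b co (t s) * g₀⁻¹ := by simpa using congrArg Prod.fst h1
  rw [eq_comm, ← div_eq_mul_inv, div_eq_iff m.g_ne] at h2
  exact h2

theorem g_facts (hp5 : 5 ≤ p) :
    g₀ * g₀ ≠ g₀ ∧ g₀ * g₀ ≠ g₀⁻¹ ∧ g₀ * g₀ ≠ 1 ∧ g₀ ^ ((p - 1) / 2) = -1 := by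
  have hsmall : ∀ n : ℕ, 0 < n → n < p - 1 → g₀ ^ n ≠ 1 := fun n h0 hlt e =>
    absurd (Nat.le_of_dvd h0 (m.ord n e)) (by omega)
  refine ⟨fun e => ?_, fun e => ?_, fun e => ?_, ?_⟩
  · exact hsmall 1 one_pos (by omega) (by rw [pow_one]; exact mul_left_cancel₀ m.g_ne (e.trans (mul_one _).symm))
  · refine hsmall 3 (by norm_num) (by omega) ?_
    rw [pow_succ, pow_two, e, inv_mul_cancel₀ m.g_ne]
  · exact hsmall 2 (by norm_num) (by omega) (by rw [pow_two]; exact e)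
  · have hp' := hp.out
    have h2 : g₀ ^ ((p - 1) / 2) * g₀ ^ ((p - 1) / 2) = 1 := by
      rw [← pow_add, show (p - 1) / 2 + (p - 1) / 2 = p - 1 by
        rcases hp'.eq_two_or_odd with h | h <;> omega]
      exact ZMod.pow_card_sub_one_eq_one m.g_ne
    rcases mul_self_eq_one_iff.1 h2 with h3 | h3
    · exact absurd h3 (hsmall _ (by omega) (by omega))
    · exact h3

/-- If the commutators of `E` with `c` lie in the Frattini subgroup of a conjugate, so does `c`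
in that conjugate. -/
theorem mem_of_comm_c [Finite G] (hp5 : 5 ≤ p) (g : MulAut G)
    (hc : ∀ e ∈ E, ⁅e, c⁆ ∈ U.map g.toMonoidHom) : c ∈ E.map g.toMonoidHom := by
  have hp2 : p ≠ 2 := by omega
  obtain ⟨-, -, -, hN'⟩ := h.conj_facts g
  obtain ⟨N, hNd⟩ : ∃ N, N = layer p ⊤ U := ⟨_, rfl⟩
  have hNU : N ≤ U := hNd ▸ layer_le h.normalU
  obtain ⟨D, hDd⟩ : ∃ D, D = N ⊔ Subgroup.closure {x | ∃ e ∈ E, ⁅e, c⁆ = x} := ⟨_, rfl⟩
  have hND : N ≤ D := hDd ▸ le_sup_left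
  have hDU : D ≤ U := hDd ▸ sup_le hNU ((Subgroup.closure_le _).2 fun x ⟨e, he, hx⟩ =>
    hx ▸ h.comm e he c h.cE)
  have hDn : D.Normal := ⟨fun d hd x => by
    rw [show x * d * x⁻¹ = ⁅x, d⁆ * d by rw [commutatorElement_def]; group]
    exact D.mul_mem (hND (hNd ▸ comm_mem_layer (Subgroup.mem_top x) (hDU hd))) hd⟩
  have hD' : D ≤ U.map g.toMonoidHom := hDd ▸ sup_le (hNd ▸ hN') ((Subgroup.closure_le _).2
    fun x ⟨e, he, hx⟩ => hx ▸ hc e he)
  have dN : Section p E U N := hNd ▸ ⟨h.layer_normal inferInstance, h.le, h.comm,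
    fun x _ u hu => comm_mem_layer (Subgroup.mem_top x) hu, fun u hu => pow_mem_layer hu⟩
  have d : Section p E U D := ⟨hDn, h.le, h.comm,
    fun x hx u hu => hND (dN.cent x hx u hu), fun u hu => hND (dN.pow u hu)⟩
  have hec : ∀ e ∈ E, ⁅e, c⁆ ∈ D := fun e he =>
    hDd ▸ Subgroup.mem_sup_right (Subgroup.subset_closure ⟨e, he, rfl⟩)
  have htD : D ≤ D.comap t.toMonoidHom := by
    intro x hx
    rw [hDd] at hx
    refine (sup_le ?_ ?_ : N ⊔ Subgroup.closure {x | ∃ e ∈ E, ⁅e, c⁆ = x} ≤ D.comap t.toMonoidHom) hx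
    · intro x hx
      refine hND (hNd ▸ map_mem_layer le_top h.normalU (fun _ _ => Subgroup.mem_top _)
        (fun x _ x' _ => map_mul t x x') (t_U h m) x (hNd ▸ hx))
    · refine (Subgroup.closure_le _).2 fun x ⟨e, he, hx⟩ => hx ▸ ?_
      show t ⁅e, c⁆ ∈ D
      have hu : c⁻¹ * t c ∈ U := by
        rw [← h.zero _ (E.mul_mem (E.inv_mem h.cE) (m.t_mem c h.cE)),
          h.add _ (E.inv_mem h.cE) _ (m.t_mem c h.cE), h.co_inv h.cE, h.co_c, m.t_c, neg_add_cancel]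
      haveI := hDn
      rw [← d.mk_eq_one, map_commutatorElement, show t c = c * (c⁻¹ * t c) by group,
        d.comm_mul_right (m.t_mem e he) h.cE (h.le hu), d.mk_eq_one.2 (hec _ (m.t_mem e he)),
        d.mk_eq_one.2 (d.cent _ (m.t_mem e he) _ hu), one_mul]
  haveI := hDn
  obtain ⟨q, hq⟩ : ∃ q, q = QuotientGroup.mk' D := ⟨_, rfl⟩
  obtain ⟨θ, hθ⟩ : ∃ θ : G ⧸ D →* G ⧸ D, ∀ x, θ (q x) = q (t x) :=
    ⟨QuotientGroup.map D D t.toMonoidHom htD, fun x => by subst hq; rfl⟩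
  have hq1 : ∀ x, q x = 1 ↔ x ∈ D := fun x => hq ▸ d.mk_eq_one
  -- the values of powers and commutators
  have hpowv : ∀ x ∈ E, q (x ^ p) =
      pw (q (a ^ p)) (co x).1 * pw (q (b ^ p)) (co x).2.1 * pw (q (c ^ p)) (co x).2.2 := fun x hx =>
    h.value (f := fun x => q (x ^ p)) (fun x hx x' hx' => hq ▸ d.mul_pow hp2 hx hx')
      (fun u hu => (hq1 _).2 (d.pow u hu)) hx
  have hEc : ∀ e ∈ E, q ⁅e, c⁆ = 1 := fun e he => (hq1 _).2 (hec e he)
  have hcE : ∀ e ∈ E, q ⁅c, e⁆ = 1 := fun e he => by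
    rw [← commutatorElement_inv, map_inv, hEc e he, inv_one]
  have hab : ∀ x ∈ E, ∀ x' ∈ E, q ⁅x, x'⁆ =
      pw (q ⁅a, b⁆) ((co x).1 * (co x').2.1 - (co x).2.1 * (co x').1) := by
    intro x hx x' hx'
    have hexp : q ⁅a, b⁆ ^ p = 1 := hq ▸ d.pow_eq (h.comm a h.aE b h.bE)
    have hf : ∀ w ∈ E, ∀ v ∈ E, q ⁅w, v⁆ =
        pw (q ⁅w, a⁆) (co v).1 * pw (q ⁅w, b⁆) (co v).2.1 * pw (q ⁅w, c⁆) (co v).2.2 := fun w hw v hv =>
      h.value (f := fun v => q ⁅w, v⁆) (fun v hv v' hv' => hq ▸ d.comm_mul_right hw hv hv')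
        (fun u hu => (hq1 _).2 (d.cent w hw u hu)) hv
    have hg : q ⁅x, x'⁆ = pw (q ⁅a, x'⁆) (co x).1 * pw (q ⁅b, x'⁆) (co x).2.1 * pw (q ⁅c, x'⁆) (co x).2.2 :=
      h.value (f := fun v => q ⁅v, x'⁆) (fun v hv v' hv' => hq ▸ d.comm_mul_left hv hv' hx')
        (fun u hu => by
          show q ⁅u, x'⁆ = 1
          rw [← commutatorElement_inv, map_inv, (hq1 _).2 (d.cent x' hx' u hu), inv_one]) hx
    rw [hg, hf a h.aE x' hx', hf b h.bE x' hx', hcE x' hx', hEc a h.aE, hEc b h.bE, commutatorElement_self,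
      commutatorElement_self, ← commutatorElement_inv a b, map_one, map_inv]
    simp only [one_pw, one_mul, mul_one]
    have hinv : (q ⁅a, b⁆)⁻¹ = pw (q ⁅a, b⁆) (-1 : ZMod p) := by rw [pw_neg hexp, pw_one_exp]
    rw [hinv, pw_mul hexp, pw_mul hexp, pw_mul hexp, ← pw_add hexp]
    congr 1
    ring
  obtain ⟨A, hAd⟩ : ∃ A, A = U.map q := ⟨_, rfl⟩
  obtain ⟨S, hSd⟩ : ∃ S : Set (G ⧸ D), S = {q (a ^ p), q (b ^ p), q (c ^ p), q ⁅a, b⁆} := ⟨_, rfl⟩
  have hSA : S ⊆ A := by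
    subst hSd hAd
    rintro x (rfl | rfl | rfl | rfl)
    exacts [⟨_, h.pow a h.aE, rfl⟩, ⟨_, h.pow b h.bE, rfl⟩, ⟨_, h.pow c h.cE, rfl⟩,
      ⟨_, h.comm a h.aE b h.bE, rfl⟩]
  have hgen : U ≤ (Subgroup.closure S).comap q := by
    have hs : ∀ x, x ∈ S → ∀ i : ZMod p, pw x i ∈ Subgroup.closure S := fun x hx i =>
      pow_mem (Subgroup.subset_closure hx) _
    refine h.min _ (fun x hx => ?_) fun x hx x' hx' => ?_
    · rw [Subgroup.mem_comap, hpowv x hx]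
      refine mul_mem (mul_mem (hs _ ?_ _) (hs _ ?_ _)) (hs _ ?_ _) <;> simp [hSd]
    · rw [Subgroup.mem_comap, hab x hx x' hx']
      exact hs _ (by simp [hSd]) _
  obtain ⟨y₀, hy₀⟩ : ∃ y₀, y₀ = q ⁅s, c⁆ := ⟨_, rfl⟩
  have hcomm : ∀ x u : G, u ∈ U → Commute (q x) (q u) := fun x u hu =>
    commutatorElement_eq_one_iff_commute.1 (by
      rw [← map_commutatorElement]
      exact (hq1 _).2 (hND (hNd ▸ comm_mem_layer (Subgroup.mem_top x) hu)))
  have hy₀p : y₀ ^ p = 1 := hy₀ ▸ hq ▸ d.pow_eq h.sc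
  have hxc : ∀ x : G, q ⁅x, c⁆ = pw y₀ (Frame.rot b co x) := by
    have hsi : ∀ i : ℕ, q ⁅s ^ i, c⁆ = y₀ ^ i := by
      intro i
      induction i with
      | zero => simp
      | succ i ih =>
        rw [show ⁅s ^ (i + 1), c⁆ = s ^ i * ⁅s, c⁆ * (s ^ i)⁻¹ * ⁅s ^ i, c⁆ by
          simp only [commutatorElement_def, pow_succ]; group,
          map_mul, map_mul, map_mul, map_inv, (hcomm (s ^ i) _ h.sc).eq, mul_inv_cancel_right, ih,
          ← hy₀, pow_succ']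
    intro x
    obtain ⟨e, he, i, rfl⟩ := h.exists_dec h.s_not x
    have hsU : ⁅s ^ i, c⁆ ∈ U := by
      rw [← h.zero _ (h.comm_mem_axisA _ h.cE).1, h.co_comm _ h.cE, h.co_c]
      simp
    rw [h.rot_mul, h.rot_of_mem he, h.rot_pow, h.rot_s, zero_add, mul_one, pw_natCast hy₀p,
      show ⁅e * s ^ i, c⁆ = e * ⁅s ^ i, c⁆ * e⁻¹ * ⁅e, c⁆ by simp only [commutatorElement_def]; group,
      map_mul, map_mul, map_mul, map_inv, (hcomm e _ hsU).eq, mul_inv_cancel_right, hEc e he, mul_one, hsi]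
  obtain ⟨g1, g2, g3, -⟩ := g_facts h m hp5
  have hy1 : y₀ = 1 := by
    refine eigen_zero (A := A) ?_ ?_ θ ?_ [g₀, g₀⁻¹, 1] (k := g₀ * g₀) (by simp [g1, g2, g3]) S hSA ?_ y₀ ?_ ?_
    · intro x hx x' hx'
      rw [hAd] at hx hx'
      obtain ⟨u, -, rfl⟩ := hx
      obtain ⟨v, hv, rfl⟩ := hx'
      exact hcomm u v hv
    · rintro _ hx
      obtain ⟨u, hu, rfl⟩ := (hAd ▸ hx : _ ∈ U.map q)
      exact hq ▸ d.pow_eq hu
    · rintro _ hx
      obtain ⟨u, hu, rfl⟩ := (hAd ▸ hx : _ ∈ U.map q)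
      rw [hθ, hAd]
      exact ⟨_, t_U h m u hu, rfl⟩
    · subst hSd
      rintro x (rfl | rfl | rfl | rfl)
      · refine Or.inr ⟨g₀, by simp, ?_⟩
        rw [hθ, map_pow, hpowv _ (m.t_mem a h.aE), m.t_a, pw_zero, pw_zero, mul_one, mul_one]
      · refine Or.inr ⟨g₀⁻¹, by simp, ?_⟩
        rw [hθ, map_pow, hpowv _ (m.t_mem b h.bE), m.t_b, pw_zero, pw_zero, one_mul, mul_one]
      · refine Or.inr ⟨1, by simp, ?_⟩
        rw [hθ, map_pow, hpowv _ (m.t_mem c h.cE), m.t_c, pw_zero, pw_zero, one_mul, one_mul]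
      · refine Or.inr ⟨1, by simp, ?_⟩
        rw [hθ, map_commutatorElement, hab _ (m.t_mem a h.aE) _ (m.t_mem b h.bE), m.t_a, m.t_b]
        congr 1
        simp [m.g_ne]
    · obtain ⟨x, hx, hxe⟩ : y₀ ∈ U.map q := ⟨_, h.sc, hy₀.symm⟩
      exact hxe ▸ hgen hx
    · have hu : c⁻¹ * t c ∈ U := by
        rw [← h.zero _ (E.mul_mem (E.inv_mem h.cE) (m.t_mem c h.cE)),
          h.add _ (E.inv_mem h.cE) _ (m.t_mem c h.cE), h.co_inv h.cE, h.co_c, m.t_c, neg_add_cancel]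
      rw [hy₀, hθ, map_commutatorElement, show t c = c * (c⁻¹ * t c) by group,
        show ⁅t s, c * (c⁻¹ * t c)⁆ = ⁅t s, c⁆ * (c * ⁅t s, c⁻¹ * t c⁆ * c⁻¹) by
          simp only [commutatorElement_def]; group,
        map_mul, map_mul, map_mul,
        show q ⁅t s, c⁻¹ * t c⁆ = 1 from (hq1 _).2 (hND (hNd ▸ comm_mem_layer (Subgroup.mem_top _) hu)),
        mul_one, map_inv, mul_inv_cancel, mul_one, hxc, rot_t h m, hy₀]
  refine (h.map g).faithful fun e _ => hD' ((hq1 _).1 ?_)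
  rw [← commutatorElement_inv, map_inv, hxc, hy1, one_pw, inv_one]

end Moves

end Cfsg.Agent.Local.FS.RankThreeNormal
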