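import Cfsg.Agent.Lib.Local.FS.RankThreeNormal.Linear
import Cfsg.Agent.Lib.Local.FS.RankThreeNormal.Irreducible
import Cfsg.Agent.Lib.Local.FS.RankThreeNormal.Coprime
import Cfsg.Agent.Lib.Local.FS.EssentialRankTwo
import Cfsg.Agent.Lib.Local.FS.Essential

/-!
The outer automiser of an essential subgroup as a linear group on its Frattini quotient, read inside
the normaliser.
-/

set_option autoImplicit false

open scoped commutatorElement

namespace Cfsg.Agent.Local.FS.RankThreeNormal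

open Cfsg Cfsg.FusionSystem Cfsg.Agent.Fusion RankThree

/-- A linear representation with a strongly embedded subgroup attached to a normal subgroup `E` of `G`
with Frattini subgroup `U`; `FS` is the set of maps of `E` and `A` the automiser of `G`. -/
structure Out {G X V : Type*} [Group G] [Group X] [AddCommGroup V] (p : ℕ) [Module (ZMod p) V]
    (E U : Subgroup G) (FS : Set (G → G)) (A : Subgroup (MulAut G)) (M T : Subgroup X)
    (ρ : X →* (V ≃ₗ[ZMod p] V)) (q : G →* X) (vq : G → V) : Prop where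
  finX : Finite X
  finV : Finite V
  emb : Emb p M T
  inj : Function.Injective ρ
  conj_le : ∀ P₀ : Subgroup X, IsPGroup p P₀ → ∃ γ : X, ∀ x ∈ P₀, γ * x * γ⁻¹ ∈ T
  opTriv : ∀ K : Subgroup X, K.Normal → IsPGroup p K → K = ⊥
  ne_bot : T ≠ ⊥
  normalE : E.Normal
  normalU : U.Normal
  le : U ≤ E
  pow : ∀ x ∈ E, x ^ p ∈ U
  comm : ∀ x ∈ E, ∀ y ∈ E, ⁅x, y⁆ ∈ U
  min : ∀ N : Subgroup G, (∀ x ∈ E, x ^ p ∈ N) → (∀ x ∈ E, ∀ y ∈ E, ⁅x, y⁆ ∈ N) → U ≤ N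
  card : Nat.card E = Nat.card V * Nat.card U
  index : E.index = Nat.card T
  ker : q.ker = E
  range : q.range = T
  vq_mul : ∀ x ∈ E, ∀ y ∈ E, vq (x * y) = vq x + vq y
  vq_zero : ∀ x ∈ E, (vq x = 0 ↔ x ∈ U)
  vq_surj : ∀ v, ∃ x ∈ E, vq x = v
  conj : ∀ x, ∀ e ∈ E, vq (x * e * x⁻¹) = ρ (q x) (vq e)
  auto : ∀ u : X, ∃ f ∈ FS, ∀ x ∈ E, vq (f x) = ρ u (vq x)
  isAuto : ∀ f ∈ FS, IsAuto E f ∧ ∃ u : X, ∀ x ∈ E, vq (f x) = ρ u (vq x)
  extend : ∀ τ : X, (∀ u ∈ T, τ * u * τ⁻¹ ∈ T) → ∃ t ∈ A, ∀ x ∈ E, t x ∈ E ∧ vq (t x) = ρ τ (vq x)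

variable {Ω : Type*} [Group Ω] {S : Subgroup Ω}

/-- The maps of the normaliser that restrict on `E` to automorphisms in the system. -/
def autFun (F : FusionSystem S) (E P : Subgroup Ω) : Set (↥P → ↥P) :=
  {f | ∃ α ∈ F.autGroup E, ∀ x : ↥P, (x : Ω) ∈ E → (f x : Ω) = av α (x : Ω)}

variable [Finite S] {F : FusionSystem S} {p : ℕ} [hp : Fact p.Prime]

/-- Every essential subgroup has such a representation. -/
theorem exists_out (hS : IsPGroup p S) (hF : F.IsSaturated p) {E : Subgroup Ω} (hE : F.IsEssential p E)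
    [((Inn E).subgroupOf (F.autGroup E)).Normal] :
    ∃ (_ : AddCommGroup (Additive (↥E ⧸ frattini ↥E))) (_ : Module (ZMod p) (Additive (↥E ⧸ frattini ↥E)))
      (U₁ : Subgroup ↥(normalizerIn S E))
      (M T : Subgroup (↥(F.autGroup E) ⧸ (Inn E).subgroupOf (F.autGroup E)))
      (ρ : (↥(F.autGroup E) ⧸ (Inn E).subgroupOf (F.autGroup E)) →*
        (Additive (↥E ⧸ frattini ↥E) ≃ₗ[ZMod p] Additive (↥E ⧸ frattini ↥E)))
      (q : ↥(normalizerIn S E) →* (↥(F.autGroup E) ⧸ (Inn E).subgroupOf (F.autGroup E)))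
      (vq : ↥(normalizerIn S E) → Additive (↥E ⧸ frattini ↥E)),
      Out p (E.subgroupOf (normalizerIn S E)) U₁ (autFun F E (normalizerIn S E))
        (F.autGroup (normalizerIn S E)) M T ρ q vq := by
  classical
  have hES : E < S := lt_of_essential hS hF hE
  haveI := finite_of_le hES.le
  haveI := mulAut_finite_of_le hES.le
  have hC : F.IsCentric E := hE.1
  have hfn : F.IsFullyNormalized E := hE.2.1
  obtain ⟨hfc, hfa⟩ := fc_fa_of_fn hS hF hfn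
  have hrec := receptive_of_fc hS hF hfc
  obtain ⟨hN, hemb⟩ := essential_data hS hF hE
  haveI := hN
  obtain ⟨hTsyl, hTne, hΓ, -⟩ := out_data hS hF hES hfn hC
  obtain ⟨π, hπ⟩ : ∃ π, π = QuotientGroup.mk' ((Inn E).subgroupOf (F.autGroup E)) := ⟨_, rfl⟩
  obtain ⟨M, hM⟩ : ∃ M, M = ((Subgroup.closure (extSet F E)).subgroupOf (F.autGroup E)).map π := ⟨_, rfl⟩
  obtain ⟨T, hT⟩ : ∃ T, T = ((autInducedBy S E).subgroupOf (F.autGroup E)).map π := ⟨_, rfl⟩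
  rw [← hπ, ← hT] at hTsyl hTne hΓ
  rw [← hπ, ← hM] at hemb
  rw [← hM] at hΓ
  have hπ1 : ∀ a, π a = 1 ↔ (a : MulAut E) ∈ Inn E := fun a => by
    rw [hπ]; exact (QuotientGroup.eq_one_iff a).trans Subgroup.mem_subgroupOf
  have hπT : ∀ a : F.autGroup E, π a ∈ T → (a : MulAut E) ∈ autInducedBy S E := by
    intro a ha
    rw [hT] at ha
    obtain ⟨b, hb, he⟩ := ha
    have h1 : ((b⁻¹ * a : F.autGroup E) : MulAut E) ∈ autInducedBy S E :=
      inn_le_autInducedBy hES.le ((hπ1 _).1 (by rw [map_mul, map_inv, he, inv_mul_cancel]))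
    simpa using (autInducedBy S E).mul_mem (show (b : MulAut E) ∈ autInducedBy S E from hb) h1
  have hEmb : Emb p M T := by
    obtain ⟨-, hne, -⟩ := Local.isStronglyPEmbedded_iff.1 hemb
    have hTM : T ≤ M := by
      rw [hT, hM]
      exact Subgroup.map_mono (Subgroup.comap_mono (autInducedBy_le_closure_extSet hES))
    refine ⟨hne, hTM, hTsyl.isPGroup, fun y hy hy1 γ hγ => ?_, fun y hy hpel => ?_⟩
    · refine Local.mem_of_conj_le hTsyl hΓ (A := Subgroup.zpowers y) (Subgroup.zpowers_le.2 hy)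
        (Subgroup.zpowers_ne_bot.2 hy1) ?_
      rw [cj_le_iff, Subgroup.zpowers_le, mem_cj, inv_inv]
      exact hγ
    · obtain ⟨j, hj⟩ := hpel
      have hzp : IsPGroup p ↥(Subgroup.zpowers y) := by
        obtain ⟨i, -, hi⟩ := (Nat.dvd_prime_pow hp.out).1 (orderOf_dvd_of_pow_eq_one hj)
        exact IsPGroup.of_card ((Nat.card_zpowers _).trans hi)
      obtain ⟨χ, hχ, hle⟩ := (hTsyl.mono hTM le_top).conj_le hzp (Subgroup.zpowers_le.2 hy)
      exact ⟨χ, hχ, hle (conj_mem_cj (Subgroup.mem_zpowers _))⟩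
  -- the Frattini quotient of `E`
  have hEp : IsPGroup p E := hS.to_le hES.le
  obtain ⟨Φ, hΦ⟩ : ∃ Φ, Φ = frattini ↥E := ⟨_, rfl⟩
  haveI hΦn : Φ.Normal := hΦ ▸ inferInstance
  have hΦa : ∀ (γ : MulAut E) {x}, x ∈ Φ → γ x ∈ Φ := fun γ {x} hx => by
    rw [hΦ] at hx ⊢; exact frattini_map_mem γ hx
  have hΦp : ∀ x : E, x ^ p ∈ Φ := fun x => hΦ ▸ Solv.pow_mem_frattini hEp x
  have hΦc : ∀ x y : E, ⁅x, y⁆ ∈ Φ := fun x y => hΦ ▸ Solv.commutatorElement_mem_frattini hEp x y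
  letI : CommGroup (E ⧸ Φ) :=
    { (inferInstance : Group (E ⧸ Φ)) with mul_comm := Solv.quotient_mul_comm Φ hΦc }
  obtain ⟨hmod⟩ : Nonempty (Module (ZMod p) (Additive (E ⧸ Φ))) := ⟨AddCommGroup.zmodModule fun v => by
    refine Additive.toMul.injective ?_
    rw [toMul_nsmul, toMul_zero]
    induction Additive.toMul v using QuotientGroup.induction_on with | _ x
    rw [← QuotientGroup.mk_pow, QuotientGroup.eq_one_iff]
    exact hΦp x⟩
  obtain ⟨mkV, hmkV⟩ : ∃ mkV : E → Additive (E ⧸ Φ), ∀ x, mkV x = Additive.ofMul (QuotientGroup.mk x) :=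
    ⟨_, fun x => rfl⟩
  have mkV_mul : ∀ x y, mkV (x * y) = mkV x + mkV y := fun x y => by
    rw [hmkV, hmkV, hmkV, QuotientGroup.mk_mul]; rfl
  have mkV_surj : ∀ v, ∃ x, mkV x = v := fun v => by
    obtain ⟨x, hx⟩ := QuotientGroup.mk_surjective (Additive.toMul v)
    exact ⟨x, by rw [hmkV, hx]; rfl⟩
  have mkV_zero : ∀ x, mkV x = 0 ↔ x ∈ Φ := fun x => by
    rw [hmkV, ← QuotientGroup.eq_one_iff (N := Φ) x]
    exact Iff.rfl
  haveI : Finite (Additive (E ⧸ Φ)) := Finite.of_equiv _ Additive.ofMul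
  have hV : Nat.card (Additive (E ⧸ Φ)) = Φ.index := by
    rw [Nat.card_congr Additive.toMul, ← Subgroup.index_eq_card]
  have hΦmap : ∀ γ : MulAut E, Φ.map γ.toMonoidHom = Φ := fun γ =>
    Subgroup.eq_of_le_of_card_ge (by rintro _ ⟨x, hx, rfl⟩; exact hΦa γ hx)
      (Subgroup.card_map_of_injective γ.injective).ge
  obtain ⟨lin, hlin⟩ : ∃ lin : MulAut E → (Additive (E ⧸ Φ) ≃ₗ[ZMod p] Additive (E ⧸ Φ)),
      ∀ γ x, lin γ (mkV x) = mkV (γ x) :=
    ⟨fun γ => (MulEquiv.toAdditive (QuotientGroup.congr Φ Φ γ (hΦmap γ)) :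
      Additive (E ⧸ Φ) ≃+ Additive (E ⧸ Φ)).toLinearEquiv fun r v =>
        ZMod.map_smul (MulEquiv.toAdditive (QuotientGroup.congr Φ Φ γ (hΦmap γ)) :
          Additive (E ⧸ Φ) ≃+ Additive (E ⧸ Φ)) r v,
      fun γ x => by rw [hmkV, hmkV]; rfl⟩
  obtain ⟨ρ₀, hρ₀⟩ : ∃ ρ₀ : F.autGroup E →* (Additive (E ⧸ Φ) ≃ₗ[ZMod p] Additive (E ⧸ Φ)),
      ∀ a x, ρ₀ a (mkV x) = mkV ((a : MulAut E) x) :=
    ⟨MonoidHom.mk' (fun a => lin a) fun a b => LinearEquiv.ext fun v => by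
      obtain ⟨x, rfl⟩ := mkV_surj v
      show lin ((a * b : F.autGroup E) : MulAut E) (mkV x) = lin a (lin b (mkV x))
      rw [hlin, hlin, hlin, Subgroup.coe_mul, MulAut.mul_apply], fun a x => hlin a x⟩
  have hker : (Inn E).subgroupOf (F.autGroup E) ≤ ρ₀.ker := by
    intro a ha
    obtain ⟨w, hw, hwx⟩ := mem_Inn.1 (Subgroup.mem_subgroupOf.1 ha)
    refine MonoidHom.mem_ker.2 (LinearEquiv.ext fun v => ?_)
    obtain ⟨x, rfl⟩ := mkV_surj v
    rw [hρ₀]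
    have e : (a : MulAut E) x = ⁅(⟨w, hw⟩ : E), x⁆ * x := Subtype.ext (by
      rw [← av_coe, hwx x x.2]; simp [commutatorElement_def])
    rw [e, mkV_mul, (mkV_zero _).2 (hΦc _ _), zero_add]
    rfl
  obtain ⟨ρ, hρ⟩ : ∃ ρ : _ →* (Additive (E ⧸ Φ) ≃ₗ[ZMod p] Additive (E ⧸ Φ)),
      ∀ a x, ρ (π a) (mkV x) = mkV ((a : MulAut E) x) :=
    ⟨QuotientGroup.lift _ ρ₀ hker, fun a x => by rw [hπ]; exact hρ₀ a x⟩
  have hπs : ∀ u, ∃ a, π a = u := fun u => by rw [hπ]; exact QuotientGroup.mk'_surjective _ u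
  have hρi : Function.Injective ρ := by
    have hKA : IsPGroup p (ρ.comp π).ker := by
      refine IsPGroup.iff_card.2 ⟨_, Nat.eq_prime_pow_of_unique_prime_dvd Nat.card_pos.ne' fun {r} hr hd => ?_⟩
      by_contra hrp
      haveI := Fact.mk hr
      obtain ⟨⟨a, ha⟩, hao⟩ := exists_prime_orderOf_dvd_card' (G := (ρ.comp π).ker) r hd
      rw [Subgroup.orderOf_mk] at hao
      have h1 : (a : MulAut E) = 1 := eq_one_of_trivial_frattini hEp hr hrp
        (by rw [← Subgroup.coe_pow, ← hao, pow_orderOf_eq_one, Subgroup.coe_one]) fun x => by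
          have h2 : mkV ((a : MulAut E) x) = mkV x := by
            rw [← hρ, show ρ (π a) = 1 from MonoidHom.mem_ker.1 ha]; rfl
          rw [← hΦ, ← QuotientGroup.eq]
          rw [hmkV, hmkV] at h2
          exact (Additive.ofMul.injective h2).symm
      rw [show a = 1 from Subtype.ext h1, orderOf_one] at hao
      exact hr.ne_one hao.symm
    have hKp : IsPGroup p ρ.ker := by
      have e : ρ.ker = (ρ.comp π).ker.map π := by
        rw [← MonoidHom.comap_ker, Subgroup.map_comap_eq_self_of_surjective hπs]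
      rw [e]
      exact hKA.map π
    exact (MonoidHom.ker_eq_bot_iff _).1 (normal_pgroup_eq_bot hemb hKp)
  -- the group `P`
  obtain ⟨E₁, hE₁⟩ : ∃ E₁, E₁ = E.subgroupOf (normalizerIn S E) := ⟨_, rfl⟩
  rw [← hE₁]
  have hPS : normalizerIn S E ≤ S := inf_le_left
  have hEP : E ≤ normalizerIn S E := le_normalizerIn hES.le
  have hG : IsPGroup p ↥(normalizerIn S E) := hS.to_le hPS
  have mem₁ : ∀ x : ↥(normalizerIn S E), x ∈ E₁ ↔ (x : Ω) ∈ E := fun x => by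
    rw [hE₁]; exact Subgroup.mem_subgroupOf
  obtain ⟨ι₁, hι₁⟩ : ∃ ι₁ : E →* ↥(normalizerIn S E), ∀ e, (ι₁ e : Ω) = e :=
    ⟨Subgroup.inclusion hEP, fun e => rfl⟩
  obtain ⟨q, hq⟩ : ∃ q : ↥(normalizerIn S E) →* _, ∀ x, ∃ a : F.autGroup E, π a = q x ∧
      (a : MulAut E) ∈ autInducedBy S E ∧ ∀ e : E, ((a : MulAut E) e : Ω) = x * e * (x : Ω)⁻¹ :=
    ⟨π.comp ((normalizerHomS S E).codRestrict (F.autGroup E) fun x =>
      autInducedBy_le_autGroup hES.le (range_normalizerHomS.le ⟨x, rfl⟩)), fun x =>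
      ⟨⟨_, _⟩, rfl, range_normalizerHomS.le ⟨x, rfl⟩, fun e => by
        rw [← av_coe]; exact normalizerHomS_apply x e.2⟩⟩
  have hqT : ∀ x, q x ∈ T := fun x => by
    obtain ⟨a, ha, haS, -⟩ := hq x
    rw [← ha, hT]; exact ⟨a, haS, rfl⟩
  have hTq : ∀ u ∈ T, ∃ x, q x = u := by
    intro u hu
    rw [hT] at hu
    obtain ⟨a, ha, rfl⟩ := hu
    obtain ⟨g, hg, hgx⟩ := mem_autInducedBy.1 (show (a : MulAut E) ∈ autInducedBy S E from ha)
    obtain ⟨b, hb, -, hbx⟩ := hq ⟨g, hg, mem_normalizer_of_conj_aut hgx⟩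
    refine ⟨⟨g, hg, mem_normalizer_of_conj_aut hgx⟩, ?_⟩
    rw [← hb]
    congr 1
    refine Subtype.ext (MulEquiv.ext fun e => Subtype.ext ?_)
    rw [hbx, ← av_coe, hgx e e.2]
  have hqker : q.ker = E₁ := by
    ext x
    rw [MonoidHom.mem_ker, mem₁]
    obtain ⟨a, ha, -, hax⟩ := hq x
    rw [← ha, hπ1, mem_Inn]
    refine ⟨?_, fun hx => ⟨x, hx, fun e he => by rw [av_apply _ he, hax]⟩⟩
    rintro ⟨w, hw, hwx⟩
    have hc : w⁻¹ * x ∈ centralizerIn S E := by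
      refine mem_centralizerIn.2 ⟨S.mul_mem (S.inv_mem (hES.le hw)) (hPS x.2), fun e he => ?_⟩
      have h1 := hwx e he
      rw [av_apply _ he, hax] at h1
      calc e * (w⁻¹ * (x : Ω)) = w⁻¹ * (w * e * w⁻¹) * x := by group
        _ = w⁻¹ * ((x : Ω) * e * (x : Ω)⁻¹) * x := by rw [← h1]
        _ = _ := by group
    simpa using E.mul_mem hw (hC.2 E (isConj_refl hES.le) hc)
  obtain ⟨U₁, hU₁⟩ : ∃ U₁, U₁ = Φ.map ι₁ := ⟨_, rfl⟩
  obtain ⟨vq, hvq⟩ : ∃ vq : ↥(normalizerIn S E) → Additive (E ⧸ Φ),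
      ∀ (x : ↥(normalizerIn S E)) (hx : (x : Ω) ∈ E), vq x = mkV ⟨x, hx⟩ :=
    ⟨fun x => if hx : (x : Ω) ∈ E then mkV ⟨x, hx⟩ else 0, fun x hx => dif_pos hx⟩
  have vq_mul : ∀ x ∈ E₁, ∀ y ∈ E₁, vq (x * y) = vq x + vq y := fun x hx y hy => by
    rw [hvq x ((mem₁ x).1 hx), hvq y ((mem₁ y).1 hy), hvq (x * y) (E.mul_mem ((mem₁ x).1 hx) ((mem₁ y).1 hy)),
      ← mkV_mul]
    rfl
  have vq_zero : ∀ x ∈ E₁, (vq x = 0 ↔ x ∈ U₁) := fun x hx => by
    rw [hvq x ((mem₁ x).1 hx), mkV_zero, hU₁]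
    refine ⟨fun h => ⟨_, h, Subtype.ext (by rw [hι₁])⟩, ?_⟩
    rintro ⟨u, hu, hux⟩
    have e : (⟨x, (mem₁ x).1 hx⟩ : E) = u := Subtype.ext (by show (x : Ω) = u; rw [← hι₁ u, hux])
    rw [e]; exact hu
  have vq_surj : ∀ v, ∃ x ∈ E₁, vq x = v := fun v => by
    obtain ⟨e, rfl⟩ := mkV_surj v
    exact ⟨ι₁ e, (mem₁ _).2 (hι₁ e ▸ e.2), by
      rw [hvq _ (hι₁ e ▸ e.2)]; congr 1; exact Subtype.ext (hι₁ e)⟩
  have hE₁n : E₁.Normal := ⟨fun e he x => (mem₁ _).2 (conj_mem_of_normalizer x.2.2 ((mem₁ e).1 he))⟩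
  have hconj : ∀ x, ∀ e ∈ E₁, vq (x * e * x⁻¹) = ρ (q x) (vq e) := fun x e he => by
    obtain ⟨a, ha, -, hax⟩ := hq x
    rw [hvq _ ((mem₁ _).1 (hE₁n.conj_mem e he x)), hvq e ((mem₁ e).1 he), ← ha, hρ]
    congr 1
    refine Subtype.ext ?_
    rw [hax]
    simp
  have hcomm : ∀ x, ∀ e ∈ E₁, ⁅x, e⁆ ∈ E₁ ∧ vq ⁅x, e⁆ = ρ (q x) (vq e) - vq e := fun x e he => by
    have h1 : ⁅x, e⁆ ∈ E₁ := by
      rw [commutatorElement_def]; exact E₁.mul_mem (hE₁n.conj_mem e he x) (E₁.inv_mem he)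
    refine ⟨h1, ?_⟩
    rw [← hconj x e he, eq_sub_iff_add_eq, ← vq_mul _ h1 e he, commutatorElement_def, inv_mul_cancel_right]
  have hPhi : U₁.Normal ∧ U₁ ≤ E₁ ∧ (∀ x ∈ E₁, x ^ p ∈ U₁) ∧ (∀ x ∈ E₁, ∀ y ∈ E₁, ⁅x, y⁆ ∈ U₁) ∧
      (∀ N : Subgroup ↥(normalizerIn S E), (∀ x ∈ E₁, x ^ p ∈ N) → (∀ x ∈ E₁, ∀ y ∈ E₁, ⁅x, y⁆ ∈ N) → U₁ ≤ N) ∧
      Nat.card E₁ = Nat.card (Additive (E ⧸ Φ)) * Nat.card U₁ ∧ E₁.index = Nat.card T := by
    subst hU₁
    refine ⟨⟨?_⟩, ?_, ?_, ?_, ?_, ?_, ?_⟩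
    · rintro _ ⟨u, hu, rfl⟩ x
      obtain ⟨a, -, -, hax⟩ := hq x
      exact ⟨(a : MulAut E) u, hΦa _ hu, Subtype.ext (by
        rw [hι₁, hax, Subgroup.coe_mul, Subgroup.coe_mul, Subgroup.coe_inv, hι₁])⟩
    · rintro _ ⟨u, -, rfl⟩; exact (mem₁ _).2 (hι₁ u ▸ u.2)
    · intro x hx
      exact ⟨_, hΦp ⟨x, (mem₁ x).1 hx⟩, by rw [map_pow]; congr 1; exact Subtype.ext (hι₁ _)⟩
    · intro x hx y hy
      refine ⟨_, hΦc ⟨x, (mem₁ x).1 hx⟩ ⟨y, (mem₁ y).1 hy⟩, ?_⟩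
      rw [map_commutatorElement]
      congr 1 <;> exact Subtype.ext (hι₁ _)
    · intro N hNp hNc
      have hm : ∀ e : E, ι₁ e ∈ E₁ := fun e => (mem₁ _).2 (hι₁ e ▸ e.2)
      rw [Subgroup.map_le_iff_le_comap, hΦ]
      haveI : (N.comap ι₁).Normal := ⟨fun n hn e => by
        have h1 : ⁅e, n⁆ ∈ N.comap ι₁ := by
          rw [Subgroup.mem_comap, map_commutatorElement]; exact hNc _ (hm e) _ (hm n)
        simpa [commutatorElement_def] using mul_mem h1 hn⟩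
      refine Solv.frattini_le (p := p) _ (fun a b => ?_) fun a => ?_
      · rw [Subgroup.mem_comap, map_commutatorElement]; exact hNc _ (hm a) _ (hm b)
      · rw [Subgroup.mem_comap, map_pow]; exact hNp _ (hm a)
    · rw [Subgroup.card_map_of_injective (fun a b e => Subtype.ext (by rw [← hι₁, ← hι₁ b, e])), hE₁,
        Nat.card_congr (Subgroup.subgroupOfEquivOfLe hEP).toEquiv, ← Φ.card_mul_index, hV, mul_comm]
    · rw [← hqker, Subgroup.index_ker]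
      have e : q.range = T := SetLike.ext fun u =>
        ⟨fun h => (by obtain ⟨x, rfl⟩ := MonoidHom.mem_range.1 h; exact hqT x), fun hu => hTq u hu⟩
      rw [e]
  -- automorphisms of `E`
  obtain ⟨fa, hfa'⟩ : ∃ fa : MulAut E → ↥(normalizerIn S E) → ↥(normalizerIn S E),
      ∀ (γ) (x : ↥(normalizerIn S E)) (hx : (x : Ω) ∈ E), fa γ x = ι₁ (γ ⟨x, hx⟩) :=
    ⟨fun γ x => if hx : (x : Ω) ∈ E then ι₁ (γ ⟨x, hx⟩) else 1, fun γ x hx => dif_pos hx⟩
  have hauto : ∀ γ : MulAut E, IsAuto E₁ (fa γ) := fun γ => by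
    refine ⟨fun x hx => ?_, fun x hx y hy => ?_, fun x hx y hy he => ?_⟩
    · rw [hfa' γ x ((mem₁ x).1 hx)]; exact (mem₁ _).2 (hι₁ _ ▸ SetLike.coe_mem _)
    · rw [hfa' γ x ((mem₁ x).1 hx), hfa' γ y ((mem₁ y).1 hy),
        hfa' γ (x * y) (E.mul_mem ((mem₁ x).1 hx) ((mem₁ y).1 hy)), ← map_mul, ← map_mul]
      rfl
    · rw [hfa' γ x ((mem₁ x).1 hx), hfa' γ y ((mem₁ y).1 hy)] at he
      have h1 : (⟨(x : Ω), (mem₁ x).1 hx⟩ : E) = ⟨(y : Ω), (mem₁ y).1 hy⟩ :=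
        γ.injective (Subtype.ext (by rw [← hι₁, he, hι₁]))
      exact Subtype.ext (show (x : Ω) = y from congrArg (fun z : E => (z : Ω)) h1)
  have hfav : ∀ (a : F.autGroup E), ∀ x ∈ E₁, vq (fa a x) = ρ (π a) (vq x) := fun a x hx => by
    rw [hvq x ((mem₁ x).1 hx), hρ, hfa' _ x ((mem₁ x).1 hx), hvq _ (hι₁ _ ▸ SetLike.coe_mem _)]
    congr 1
    exact Subtype.ext (hι₁ _)
  have hext : ∀ τ, (∀ u ∈ T, τ * u * τ⁻¹ ∈ T) → ∃ t ∈ F.autGroup (normalizerIn S E),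
      ∀ x ∈ E₁, t x ∈ E₁ ∧ vq (t x) = ρ τ (vq x) := by
    intro τ hτ
    obtain ⟨α, hα⟩ := hπs τ
    have hNf : normalizerIn S E ≤ Nf S E (av (α : MulAut E)) := by
      intro x hx
      obtain ⟨β, hβ, -, hβx⟩ := hq ⟨x, hx⟩
      have h1 : π (α * β * α⁻¹) ∈ T := by
        rw [map_mul, map_mul, map_inv, hα, hβ]; exact hτ _ (hqT _)
      obtain ⟨g, hg, hgx⟩ := mem_autInducedBy.1 (hπT _ h1)
      refine ⟨hx.1, hx.2, g, hg, fun e he => ?_⟩
      have h2 := hgx _ (av_mem (α : MulAut E) he)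
      simp only [Subgroup.coe_mul, Subgroup.coe_inv] at h2
      rw [av_mul _ _ (av_mem _ he), av_inv_av _ he, av_mul _ _ he, av_apply (β : MulAut E) he, hβx] at h2
      exact h2
    obtain ⟨g', hg', hg'α⟩ := (receptive_iff.1 hrec).2 E _ (map_of_mem_autGroup hES.le α.2) (im_av _)
    have hgE : im E g' = E := (im_congr hg'α).trans (im_av _)
    have hgP := hg'.restrict hNf
    have hgi : im (normalizerIn S E) g' = normalizerIn S E := by
      refine Subgroup.eq_of_le_of_card_ge (im_le_iff.2 fun x hx => ?_) (by rw [hgP.card_im])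
      have := hgP.mem_normalizer hEP hx hx.2
      rwa [hgE] at this
    obtain ⟨t, ht, htg⟩ := exists_aut hgP hgi
    have htv : ∀ x ∈ E₁, t x ∈ E₁ ∧ vq (t x) = ρ τ (vq x) := by
      intro x hx
      have h1 : t x = fa (α : MulAut E) x := Subtype.ext (by
        rw [hfa' _ x ((mem₁ x).1 hx), hι₁, ← av_coe (α : MulAut E), ← hg'α _ ((mem₁ x).1 hx), ← htg _ x.2, av_coe])
      rw [h1, ← hα]
      exact ⟨(hauto _).mem x hx, hfav α x hx⟩
    exact ⟨t, ht, htv⟩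
  subst hΦ
  refine ⟨inferInstance, hmod, U₁, M, T, ρ, q, vq, ?_⟩
  obtain ⟨hUn, hUE, hUp, hUc, hUm, hcard, hidx⟩ := hPhi
  exact
    { finX := inferInstance
      finV := inferInstance
      emb := hEmb
      inj := hρi
      conj_le := fun P₀ hP₀ => by
        obtain ⟨χ, -, hle⟩ := hTsyl.conj_le hP₀ le_top
        exact ⟨χ, fun x hx => hle (conj_mem_cj hx)⟩
      opTriv := fun K hK hKp => by haveI := hK; exact normal_pgroup_eq_bot hemb hKp
      ne_bot := hTne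
      normalE := hE₁n
      normalU := hUn
      le := hUE
      pow := hUp
      comm := hUc
      min := hUm
      card := hcard
      index := hidx
      ker := hqker
      range := SetLike.ext fun u =>
        ⟨fun h => (by obtain ⟨x, rfl⟩ := MonoidHom.mem_range.1 h; exact hqT x), fun hu => hTq u hu⟩
      vq_mul := vq_mul
      vq_zero := vq_zero
      vq_surj := vq_surj
      conj := hconj
      auto := fun u => by
        obtain ⟨a, rfl⟩ := hπs u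
        exact ⟨fa a, ⟨a, a.2, fun x hx => by rw [hfa' _ x hx, hι₁, ← av_apply]⟩, hfav a⟩
      isAuto := fun f hf => by
        obtain ⟨α, hα, hf⟩ := hf
        have heq : ∀ x ∈ E₁, f x = fa α x := fun x hx => Subtype.ext (by
          rw [hf x ((mem₁ x).1 hx), hfa' _ x ((mem₁ x).1 hx), hι₁, ← av_apply])
        refine ⟨⟨fun x hx => heq x hx ▸ (hauto α).mem x hx, fun x hx y hy => ?_, fun x hx y hy e => ?_⟩,
          π ⟨α, hα⟩, fun x hx => by rw [heq x hx]; exact hfav ⟨α, hα⟩ x hx⟩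
        · rw [heq _ (E₁.mul_mem hx hy), heq x hx, heq y hy]; exact (hauto α).mul x hx y hy
        · rw [heq x hx, heq y hy] at e; exact (hauto α).inj hx hy e
      extend := hext }

end Cfsg.Agent.Local.FS.RankThreeNormal
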