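import Cfsg.Agent.Lib.Local.FS.RankThreeNormal.Out
import Cfsg.Agent.Lib.Local.FS.RankThreeNormal.LinearExtra
import Cfsg.Agent.Lib.Local.FS.RankThreeNormal.RankTwoShape
import Cfsg.Agent.Lib.Local.FS.RankThreeNormal.Moves

/-!
The shape of an essential subgroup in its normaliser: two generators with irreducible automorphisms,
three generators with irreducible automorphisms, or a frame with a torus and an invariant line.
-/

set_option autoImplicit false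

open scoped commutatorElement

namespace Cfsg.Agent.Local.FS.RankThreeNormal

open RankThree

variable {G : Type*} [Group G] {p : ℕ} [hp : Fact p.Prime]

/-- Three generators, irreducible automorphisms and no transvection. -/
structure Irr (p : ℕ) (E U : Subgroup G) : Prop extends Phi p E U where
  irr : ∀ N : Subgroup G, U ≤ N → N ≤ E → (∀ f, IsAuto E f → ∀ x ∈ N, f x ∈ N) → N = U ∨ N = E
  nc : ¬ ∃ a₀ : G, ∀ x : G, ∀ e ∈ E, ⁅x, e⁆ ∈ Subgroup.zpowers a₀ ⊔ U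

/-- Every automorphism of the group fixes such a subgroup. -/
theorem Irr.stable [Finite G] {E U : Subgroup G} (h : Irr p E U) (hG : IsPGroup p G) (hp5 : 5 ≤ p)
    (hsr : Cfsg.SectionalPRankLE p 3 G) (g : MulAut G) : E.map g.toMonoidHom = E :=
  h.toPhi.stable_of_irreducible hG (by omega) hsr h.irr h.nc g

/-- A frame with a torus from `A` and a line invariant under `FS`. -/
def Transvec (p : ℕ) [Fact p.Prime] (FS : Set (G → G)) (A : Subgroup (MulAut G)) (E U : Subgroup G) : Prop :=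
  ∃ (a b c s : G) (co : G → ZMod p × ZMod p × ZMod p) (y : G → G) (t : MulAut G) (g₀ : ZMod p),
    Frame p E U a b c s co ∧ Moves E a b c co y t g₀ ∧ t ∈ A ∧
      ∀ f ∈ FS, (co (f c)).1 = 0 ∧ (co (f c)).2.1 = 0

variable {X V : Type*} [Group X] [AddCommGroup V] [Module (ZMod p) V] {E U : Subgroup G}
  {FS : Set (G → G)} {A : Subgroup (MulAut G)} {M T : Subgroup X} {ρ : X →* (V ≃ₗ[ZMod p] V)} {q : G →* X}
  {vq : G → V}

namespace Out

variable (h : Out p E U FS A M T ρ q vq)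
include h

theorem hcomm (x : G) {e : G} (he : e ∈ E) : ⁅x, e⁆ ∈ E ∧ vq ⁅x, e⁆ = ρ (q x) (vq e) - vq e := by
  have h1 : ⁅x, e⁆ ∈ E := by
    rw [commutatorElement_def]; exact E.mul_mem (h.normalE.conj_mem e he x) (E.inv_mem he)
  refine ⟨h1, ?_⟩
  rw [← h.conj x e he, eq_sub_iff_add_eq, ← h.vq_mul _ h1 e he, commutatorElement_def, inv_mul_cancel_right]

theorem vq_one : vq 1 = 0 := (h.vq_zero 1 E.one_mem).2 U.one_mem

theorem vq_inv {x : G} (hx : x ∈ E) : vq x⁻¹ = -vq x :=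
  eq_neg_of_add_eq_zero_left (by rw [← h.vq_mul _ (E.inv_mem hx) _ hx, inv_mul_cancel, h.vq_one])

theorem vq_zpow {x : G} (hx : x ∈ E) (k : ℤ) : vq (x ^ k) = (k : ZMod p) • vq x := by
  induction k using Int.induction_on with
  | zero => simp [h.vq_one]
  | succ n ih =>
    rw [zpow_add_one, h.vq_mul _ (E.zpow_mem hx _) _ hx, ih]
    push_cast
    rw [add_smul, one_smul]
  | pred n ih =>
    rw [zpow_sub_one, h.vq_mul _ (E.zpow_mem hx _) _ (E.inv_mem hx), ih, h.vq_inv hx]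
    push_cast
    rw [sub_smul, one_smul, sub_eq_add_neg]

theorem card_T [Finite X] (hle : Nat.card T ≤ p) : Nat.card T = p := by
  refine le_antisymm hle ?_
  obtain ⟨i, hi⟩ := IsPGroup.iff_card.1 h.emb.pgroup
  rcases Nat.eq_zero_or_pos i with rfl | h'
  · exact absurd (Subgroup.eq_bot_of_card_eq _ (by rw [hi, pow_zero])) h.ne_bot
  · rw [hi]; exact Nat.le_self_pow h'.ne' p

theorem exists_q {u : X} (hu : u ∈ T) : ∃ s, q s = u := MonoidHom.mem_range.1 (h.range.ge hu)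

/-- Irreducibility passes to the subgroups between `U` and `E`. -/
theorem irreducible (hirr : ∀ W : Submodule (ZMod p) V, (∀ x : X, ∀ w ∈ W, ρ x w ∈ W) → W = ⊥ ∨ W = ⊤)
    (N : Subgroup G) (hUN : U ≤ N) (hNE : N ≤ E) (hN : ∀ f ∈ FS, ∀ x ∈ N, f x ∈ N) : N = U ∨ N = E := by
  obtain ⟨W₀, hW₀⟩ : ∃ W₀ : AddSubgroup (V), ∀ v, v ∈ W₀ ↔ ∃ x ∈ N, vq x = v :=
    ⟨{ carrier := {v | ∃ x ∈ N, vq x = v}
       zero_mem' := ⟨1, N.one_mem, (h.vq_zero 1 E.one_mem).2 U.one_mem⟩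
       add_mem' := by
         rintro v w ⟨x, hx, rfl⟩ ⟨y, hy, rfl⟩
         exact ⟨x * y, N.mul_mem hx hy, h.vq_mul x (hNE hx) y (hNE hy)⟩
       neg_mem' := by
         rintro v ⟨x, hx, rfl⟩
         refine ⟨x⁻¹, N.inv_mem hx, eq_neg_of_add_eq_zero_left ?_⟩
         rw [← h.vq_mul _ (hNE (N.inv_mem hx)) _ (hNE hx), inv_mul_cancel]
         exact (h.vq_zero 1 E.one_mem).2 U.one_mem }, fun v => Iff.rfl⟩
  have hWi : ∀ u, ∀ w ∈ AddSubgroup.toZModSubmodule p W₀, ρ u w ∈ AddSubgroup.toZModSubmodule p W₀ := by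
    intro u w hw
    obtain ⟨f, hf, hfv⟩ := h.auto u
    obtain ⟨x, hx, rfl⟩ := (hW₀ w).1 hw
    exact (hW₀ _).2 ⟨f x, hN f hf x hx, hfv x (hNE hx)⟩
  rcases hirr _ hWi with hb | ht
  · refine Or.inl (le_antisymm (fun x hx => (h.vq_zero x (hNE hx)).1 ?_) hUN)
    have : vq x ∈ AddSubgroup.toZModSubmodule p W₀ := (hW₀ _).2 ⟨x, hx, rfl⟩
    rwa [hb, Submodule.mem_bot] at this
  · refine Or.inr (le_antisymm hNE fun x hx => ?_)
    obtain ⟨y, hy, hyx⟩ := (hW₀ _).1 (show vq x ∈ AddSubgroup.toZModSubmodule p W₀ by rw [ht]; trivial)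
    have h1 : y⁻¹ * x ∈ U := (h.vq_zero _ (E.mul_mem (E.inv_mem (hNE hy)) hx)).1 (by
      rw [h.vq_mul _ (E.inv_mem (hNE hy)) _ hx, ← hyx, ← h.vq_mul _ (E.inv_mem (hNE hy)) _ (hNE hy),
        inv_mul_cancel]
      exact (h.vq_zero 1 E.one_mem).2 U.one_mem)
    simpa using N.mul_mem hy (hUN h1)

/-- Without transvections the commutators do not lie in a line. -/
theorem not_line (hPhi : Phi p E U) {z₀ : X} (hz₀T : z₀ ∈ T) (hz₀ : z₀ ≠ 1) (hzp : z₀ ^ p = 1)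
    (htv : ¬ ∃ φ c, Tv ρ z₀ φ c) : ¬ ∃ a₀ : G, ∀ x : G, ∀ e ∈ E, ⁅x, e⁆ ∈ Subgroup.zpowers a₀ ⊔ U := by
  rintro ⟨a₀, ha₀⟩
  obtain ⟨s, hs⟩ := h.exists_q hz₀T
  -- the image of `z₀ - 1` is a line
  obtain ⟨c₀, hc₀⟩ : ∃ c₀ : V, ∀ v, ∃ r : ZMod p, ρ z₀ v - v = r • c₀ := by
    haveI := hPhi.normalU
    have hdec : ∀ v, ∃ (k : ℤ), ∃ u ∈ U, a₀ ^ k ∈ E ∧ ρ z₀ v - v = vq (a₀ ^ k) := by
      intro v
      obtain ⟨e, he, rfl⟩ := h.vq_surj v
      obtain ⟨h1, h2⟩ := h.hcomm s he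
      obtain ⟨w, hw, u, hu, hwu⟩ := Subgroup.mem_sup_of_normal_right.1 (ha₀ s e he)
      obtain ⟨k, rfl⟩ := Subgroup.mem_zpowers_iff.1 hw
      have hk : a₀ ^ k ∈ E := by
        rw [show a₀ ^ k = ⁅s, e⁆ * u⁻¹ by rw [← hwu, mul_inv_cancel_right]]
        exact E.mul_mem h1 (E.inv_mem (hPhi.le hu))
      refine ⟨k, u, hu, hk, ?_⟩
      rw [← hs, ← h2, ← hwu, h.vq_mul _ hk u (hPhi.le hu), (h.vq_zero u (hPhi.le hu)).2 hu, add_zero]
    have hzp : ∀ x ∈ E, ∀ k : ℤ, vq (x ^ k) = (k : ZMod p) • vq x := fun x hx k => by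
      exact h.vq_zpow hx k
    by_cases haE : a₀ ∈ E
    · exact ⟨vq a₀, fun v => by
        obtain ⟨k, u, -, -, hk⟩ := hdec v
        exact ⟨k, hk.trans (hzp _ haE k)⟩⟩
    · refine ⟨vq (a₀ ^ p), fun v => ?_⟩
      obtain ⟨k, u, -, hkE, hk⟩ := hdec v
      obtain ⟨m, rfl⟩ : (p : ℤ) ∣ k := by
        by_contra hnd
        obtain ⟨x, y, hxy⟩ := ((Nat.prime_iff_prime_int.1 hp.out).coprime_iff_not_dvd).2 hnd
        refine haE ?_
        rw [show a₀ = (a₀ ^ p) ^ x * (a₀ ^ k) ^ y by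
          rw [← zpow_natCast a₀ p, ← zpow_mul, ← zpow_mul, ← zpow_add,
            show (p : ℤ) * x + k * y = 1 by linarith, zpow_one]]
        exact E.mul_mem (E.zpow_mem (hPhi.pow_mem_E _) x) (E.zpow_mem hkE y)
      refine ⟨m, hk.trans ?_⟩
      rw [zpow_mul, zpow_natCast, hzp _ (hPhi.pow_mem_E _) m]
  have hc0 : c₀ ≠ 0 := fun e => hz₀ (h.inj (LinearEquiv.ext fun v => by
    obtain ⟨r, hr⟩ := hc₀ v
    rw [e, smul_zero, sub_eq_zero] at hr
    rw [hr, map_one]; rfl))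
  choose φ₀ hφ₀ using hc₀
  have huq : ∀ {r r' : ZMod p}, r • c₀ = r' • c₀ → r = r' := fun {r r'} e =>
    sub_eq_zero.1 ((smul_eq_zero.1 (by rw [sub_smul, e, sub_self])).resolve_right hc0)
  obtain ⟨φ, hφ⟩ : ∃ φ : V →ₗ[ZMod p] ZMod p, ∀ v, φ v = φ₀ v :=
    ⟨{ toFun := φ₀
       map_add' := fun v w => huq (by rw [← hφ₀, add_smul, ← hφ₀, ← hφ₀, map_add]; abel)
       map_smul' := fun r v => huq (by
        rw [← hφ₀, RingHom.id_apply, smul_eq_mul, mul_smul, ← hφ₀, map_smul, smul_sub]) }, fun v => rfl⟩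
  have hz : ∀ v, ρ z₀ v = v + φ v • c₀ := fun v => by rw [hφ, ← hφ₀]; abel
  refine htv ⟨φ, c₀, ?_, hz⟩
  have hn : ∀ n : ℕ, ρ (z₀ ^ n) c₀ = (1 + φ c₀) ^ n • c₀ := by
    intro n
    induction n with
    | zero => simp
    | succ n ih =>
      rw [pow_succ', map_mul_apply, ih, map_smul, hz c₀, pow_succ, mul_smul, add_smul, one_smul]
  have h2 := hn p
  rw [hzp, map_one, ZMod.pow_card] at h2
  have h3 : (1 : ZMod p) • c₀ = (1 + φ c₀) • c₀ := by rw [one_smul]; exact h2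
  exact left_eq_add.1 (huq h3)

/-- Three generators. -/
theorem rank_three (hV : Nat.card V = p ^ 3) (hp3 : 3 ≤ p) : Irr p E U ∨ Transvec p FS A E U := by
  haveI := h.finX
  haveI := h.finV
  have hTc : Nat.card T = p := h.card_T (h.emb.card_le h.inj hV)
  have hPhi : Phi p E U := ⟨h.normalE, h.normalU, h.le, h.pow, h.comm, h.min, by rw [h.card, hV],
    h.index.trans hTc⟩
  obtain ⟨z₀, hz₀T, hz₀⟩ := SetLike.exists_of_lt (bot_lt_iff_ne_bot.2 h.ne_bot)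
  rw [Subgroup.mem_bot] at hz₀
  have hzp : z₀ ^ p = 1 := by
    have h1 : orderOf z₀ ∣ Nat.card T := by
      have := orderOf_dvd_natCard (⟨z₀, hz₀T⟩ : T)
      rwa [Subgroup.orderOf_mk] at this
    exact orderOf_dvd_iff_pow_eq_one.1 (hTc ▸ h1)
  by_cases htv : ∃ φ c, Tv ρ z₀ φ c
  swap
  · left
    exact ⟨hPhi, fun N hUN hNE hN => h.irreducible
      (fun W hW => h.emb.irreducible h.inj hV hp3 hz₀T hz₀ htv hW) N hUN hNE
        fun f hf => hN f (h.isAuto f hf).1, h.not_line hPhi hz₀T hz₀ hzp htv⟩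
  right
  obtain ⟨φ, c₀, htv⟩ := htv
  obtain ⟨z, y, τ, cv, dv, lv, g₀, sp, hz1⟩ := h.emb.exists_split h.inj hV htv hz₀T hz₀
  obtain ⟨s, hs⟩ := h.exists_q sp.z_mem
  obtain ⟨a, ha, hac⟩ := h.vq_surj cv
  obtain ⟨b, hb, hbd⟩ := h.vq_surj dv
  obtain ⟨c, hc, hcl⟩ := h.vq_surj lv
  obtain ⟨Λ, hΛ⟩ : ∃ Λ : (ZMod p × ZMod p × ZMod p) ≃ V,
      ∀ v, Λ v = v.1 • cv + v.2.1 • dv + v.2.2 • lv := by
    refine ⟨Equiv.ofBijective (fun v => v.1 • cv + v.2.1 • dv + v.2.2 • lv) ⟨fun v w he => ?_, fun u => ?_⟩,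
      fun v => rfl⟩
    · obtain ⟨h1, h2, h3⟩ := sp.ind (v.1 - w.1) (v.2.1 - w.2.1) (v.2.2 - w.2.2) (by
        simp only at he
        rw [sub_smul, sub_smul, sub_smul]
        linear_combination (norm := abel) he)
      exact Prod.ext (sub_eq_zero.1 h1) (Prod.ext (sub_eq_zero.1 h2) (sub_eq_zero.1 h3))
    · obtain ⟨i, j, k, h⟩ := sp.span u
      exact ⟨(i, j, k), h.symm⟩
  obtain ⟨co, hco⟩ : ∃ co : G → ZMod p × ZMod p × ZMod p, ∀ x, co x = Λ.symm (vq x) :=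
    ⟨_, fun x => rfl⟩
  have hco' : ∀ x v, vq x = v.1 • cv + v.2.1 • dv + v.2.2 • lv → co x = v := fun x v h => by
    rw [hco, h, ← hΛ, Equiv.symm_apply_apply]
  have hzero : ∀ x ∈ E, (co x = 0 ↔ x ∈ U) := fun x hx => by
    rw [← h.vq_zero x hx, hco, Equiv.symm_apply_eq, hΛ]
    simp
  have sub_mem : ∀ x e w, e ∈ E → w ∈ E → ρ (q x) (vq e) - vq e = vq w → ⁅x, e⁆ * w⁻¹ ∈ U := by
    intro x e w he hw hh
    obtain ⟨h1, h2⟩ := h.hcomm x he
    refine (h.vq_zero _ (E.mul_mem h1 (E.inv_mem hw))).1 ?_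
    have h3 : vq w⁻¹ = -vq w := eq_neg_of_add_eq_zero_left (by
      rw [← h.vq_mul _ (E.inv_mem hw) _ hw, inv_mul_cancel]; exact (h.vq_zero 1 E.one_mem).2 U.one_mem)
    rw [h.vq_mul _ h1 _ (E.inv_mem hw), h2, hh, h3, add_neg_cancel]
  have hframe : Frame p E U a b c s co := by
    refine ⟨hPhi, ha, hb, hc, ?_, ?_, hzero, ?_, ?_, ?_, ?_, ?_, ?_⟩
    · intro hsE
      rw [← h.ker, MonoidHom.mem_ker, hs] at hsE
      exact hz1 hsE
    · intro x hx y hy
      refine hco' _ _ ?_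
      have e1 : ∀ x, vq x = (co x).1 • cv + (co x).2.1 • dv + (co x).2.2 • lv := fun x => by
        rw [← hΛ, hco, Equiv.apply_symm_apply]
      rw [h.vq_mul x hx y hy, e1 x, e1 y]
      simp only [Prod.fst_add, Prod.snd_add, add_smul]
      abel
    · exact hco' _ _ (by simp [hac])
    · exact hco' _ _ (by simp [hbd])
    · exact hco' _ _ (by simp [hcl])
    · have := sub_mem s a 1 ha E.one_mem (by
        rw [hs, hac, sp.zc, sub_self]; exact ((h.vq_zero 1 E.one_mem).2 U.one_mem).symm)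
      simpa using this
    · exact sub_mem s b a hb ha (by rw [hs, hbd, sp.zd, hac, add_sub_cancel_left])
    · have := sub_mem s c 1 hc E.one_mem (by
        rw [hs, hcl, sp.zl, sub_self]; exact ((h.vq_zero 1 E.one_mem).2 U.one_mem).symm)
      simpa using this
  obtain ⟨t, ht, htv'⟩ := h.extend τ sp.norm
  obtain ⟨fy, hfy, hfyv⟩ := h.auto y
  have hy := (h.isAuto fy hfy).1
  refine ⟨a, b, c, s, co, fy, t, g₀, hframe, ?_, ht, fun f hf => ?_⟩
  · refine ⟨hy.mem, hy.mul, hy.inj, ?_, ?_, ?_, fun x hx => (htv' x hx).1, ?_, ?_, ?_,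
      sp.g_ne, sp.ord⟩
    · exact hco' _ _ (by rw [hfyv a ha, hac, sp.yc]; simp)
    · exact hco' _ _ (by rw [hfyv b hb, hbd, sp.yd]; simp)
    · exact hco' _ _ (by rw [hfyv c hc, hcl, sp.yl]; simp)
    · exact hco' _ _ (by rw [(htv' a ha).2, hac, sp.τc]; simp)
    · exact hco' _ _ (by rw [(htv' b hb).2, hbd, sp.τd]; simp)
    · exact hco' _ _ (by rw [(htv' c hc).2, hcl, sp.τl]; simp)
  · obtain ⟨-, u, hu⟩ := h.isAuto f hf
    obtain ⟨δ, hδ⟩ := sp.line h.emb h.inj hV hp3 h.conj_le hz1 u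
    rw [hco' (f c) (0, 0, δ) (by rw [hu c hc, hcl, hδ]; simp)]
    exact ⟨rfl, rfl⟩

/-- Two generators or fewer: exactly two, a group of index `p` and irreducible automorphisms. -/
theorem rank_two [Finite G] (hV : Nat.card V ≤ p ^ 2) (hVp : ∃ k, Nat.card V = p ^ k) (hp3 : 3 ≤ p) :
    Pair p E U ∧
      (∀ N : Subgroup G, U ≤ N → N ≤ E → (∀ f, IsAuto E f → ∀ x ∈ N, f x ∈ N) → N = U ∨ N = E) ∧
      ∃ x : G, ∃ e ∈ E, ⁅x, e⁆ ∉ U := by
  haveI := h.finX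
  haveI := h.finV
  haveI : Fintype V := Fintype.ofFinite V
  have hTc : Nat.card T = p := h.card_T (card_le_two h.emb.pgroup h.inj hV)
  have hirr : ∀ W : Submodule (ZMod p) V, (∀ x : X, ∀ w ∈ W, ρ x w ∈ W) → W = ⊥ ∨ W = ⊤ := fun W hW =>
    irreducible_two h.emb.pgroup h.ne_bot h.opTriv h.inj hp3 hV hW
  obtain ⟨z₀, hz₀T, hz₀⟩ := SetLike.exists_of_lt (bot_lt_iff_ne_bot.2 h.ne_bot)
  rw [Subgroup.mem_bot] at hz₀
  have hmov : ∃ v, ρ z₀ v ≠ v := by
    by_contra hno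
    push Not at hno
    exact hz₀ (h.inj (LinearEquiv.ext fun v => by rw [hno v, map_one]; rfl))
  obtain ⟨v, hv⟩ := hmov
  obtain ⟨k, hk⟩ := hVp
  have hk2 : k = 2 := by
    have hk' : k ≤ 2 := (Nat.pow_le_pow_iff_right hp.out.one_lt).1 (hk ▸ hV)
    by_contra hne
    -- a cyclic quotient carries no such group
    obtain ⟨c, hc0, hc⟩ := exists_fixed h.emb.pgroup (⊥ : Submodule (ZMod p) V)
      (fun u _ w hw => by rw [Submodule.mem_bot] at hw ⊢; rw [hw, map_zero]) (fun e => hv (by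
        have h1 : ∀ w : V, w = 0 := fun w => (Submodule.mem_bot _).1 (e ▸ Submodule.mem_top)
        rw [h1 (ρ z₀ v), h1 v]))
    rw [Submodule.mem_bot] at hc0
    have hfr : Module.finrank (ZMod p) V ≤ 1 := by
      have := Module.card_eq_pow_finrank (K := ZMod p) (V := V)
      rw [ZMod.card, ← Nat.card_eq_fintype_card, hk] at this
      have := Nat.pow_right_injective hp.out.two_le this
      omega
    obtain ⟨r, hr⟩ := Submodule.mem_span_singleton.1 (show v ∈ Submodule.span (ZMod p) {c} from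
      (Submodule.eq_top_of_finrank_eq (le_antisymm (Submodule.finrank_le _)
        (by rw [finrank_span_singleton hc0]; exact hfr))).ge Submodule.mem_top)
    have hcz := hc z₀ hz₀T
    rw [Submodule.mem_bot, sub_eq_zero] at hcz
    exact hv (by rw [← hr, map_smul, hcz])
  refine ⟨⟨h.normalE, h.normalU, h.le, h.pow, h.comm, h.min, by rw [h.card, hk, hk2], h.index.trans hTc⟩,
    fun N hUN hNE hN => h.irreducible hirr N hUN hNE fun f hf => hN f (h.isAuto f hf).1, ?_⟩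
  obtain ⟨s, hs⟩ := h.exists_q hz₀T
  obtain ⟨e, he, rfl⟩ := h.vq_surj v
  refine ⟨s, e, he, fun hmem => hv ?_⟩
  have h1 := (h.hcomm s he).2
  rwa [(h.vq_zero _ (h.le hmem)).2 hmem, hs, eq_comm, sub_eq_zero] at h1

end Out

open Cfsg Cfsg.FusionSystem Cfsg.Agent.Fusion

variable {Ω : Type*} [Group Ω] {S : Subgroup Ω} [Finite S] {F : FusionSystem S}

/-- The dichotomy in the normaliser of the essential subgroup. -/
theorem dichotomy (hS : IsPGroup p S) (hF : F.IsSaturated p) (hp3 : 3 ≤ p) {E : Subgroup Ω}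
    (hE : F.IsEssential p E) (hrk : (frattini ↥E).index = p ^ 3) :
    ∃ U₁, Irr p (E.subgroupOf (normalizerIn S E)) U₁ ∨ Transvec p (autFun F E (normalizerIn S E))
      (F.autGroup (normalizerIn S E)) (E.subgroupOf (normalizerIn S E)) U₁ := by
  haveI := (essential_data hS hF hE).1
  obtain ⟨_, _, U₁, M, T, ρ, q, vq, h⟩ := exists_out hS hF hE
  exact ⟨U₁, h.rank_three (by rw [Nat.card_congr Additive.toMul, ← Subgroup.index_eq_card, hrk]) hp3⟩

/-- The other essential subgroups have two generators. -/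
theorem pair_of_rank_two (hS : IsPGroup p S) (hF : F.IsSaturated p) (hp3 : 3 ≤ p) {E : Subgroup Ω}
    (hE : F.IsEssential p E) (hrk : (frattini ↥E).index ≤ p ^ 2) :
    ∃ U₁, Pair p (E.subgroupOf (normalizerIn S E)) U₁ ∧
      (∀ N : Subgroup ↥(normalizerIn S E), U₁ ≤ N → N ≤ E.subgroupOf (normalizerIn S E) →
        (∀ f, IsAuto (E.subgroupOf (normalizerIn S E)) f → ∀ x ∈ N, f x ∈ N) →
          N = U₁ ∨ N = E.subgroupOf (normalizerIn S E)) ∧
      ∃ x : ↥(normalizerIn S E), ∃ e ∈ E.subgroupOf (normalizerIn S E), ⁅x, e⁆ ∉ U₁ := by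
  have hES : E < S := lt_of_essential hS hF hE
  haveI := finite_of_le hES.le
  haveI := finite_of_le (S := S) (T := normalizerIn S E) inf_le_left
  haveI := (essential_data hS hF hE).1
  obtain ⟨_, _, U₁, M, T, ρ, q, vq, h⟩ := exists_out hS hF hE
  have hV : Nat.card (Additive (↥E ⧸ frattini ↥E)) = (frattini ↥E).index := by
    rw [Nat.card_congr Additive.toMul, ← Subgroup.index_eq_card]
  refine ⟨U₁, h.rank_two (hV ▸ hrk) (hV ▸ ?_) hp3⟩
  obtain ⟨k, hk⟩ := IsPGroup.iff_card.1 ((hS.to_le hES.le).to_quotient (frattini ↥E))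
  exact ⟨k, (Subgroup.index_eq_card _).trans hk⟩

end Cfsg.Agent.Local.FS.RankThreeNormal
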